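import Cfsg.Agent.Lib.Invol.Goldschmidt.Sections.LocalEmbedded
import Cfsg.Agent.Lib.Recog.Walter.Sections.Balance
import Cfsg.Agent.Lib.Recog.Walter.Sections.Odd
import Cfsg.Agent.Lib.Classical.AbelianSylowTwo

/-!
Owner: helper18. S1169: the local facts for the types with elementary Sylow 2-subgroups, and `localStep`.

The torus is generated by the odd part of an element of `N(T)` inducing a cycle of length `p` on `T - 1`.
-/

set_option autoImplicit false
set_option linter.unusedSectionVars false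
set_option linter.style.haveILetI false

namespace CfsgLib.Invol.Goldschmidt

open Subgroup
open CfsgLib.Signalizer (involution_sq involution_ne_one orderOf_eq_two_of orderOf_conj)

universe u

variable {K : Type u} [Group K] [Finite K]

/-- The cyclic group of a cycle of odd prime length. -/
theorem torus_of_cycle {B : Subgroup K} (n : K) (hn : n ∈ normalizer (B : Set K)) {p : ℕ} (hp : p.Prime)
    (hp2 : p ≠ 2) {s : K} (hs : n ^ p * s * (n ^ p)⁻¹ = s)
    (hall : ∀ x ∈ B, x ≠ 1 → ∃ i : ℕ, x = n ^ i * s * (n ^ i)⁻¹) :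
    ∃ X : Subgroup K, IsCyclic X ∧ Odd (Nat.card X) ∧ X ≤ normalizer (B : Set K) ∧
      (∀ b ∈ B, b ≠ 1 → ∀ b' ∈ B, b' ≠ 1 → ∃ h ∈ X, h * b * h⁻¹ = b') ∧
      ∀ h ∈ X, ∀ b ∈ B, b ≠ 1 → h * b * h⁻¹ = b → ∀ b' ∈ B, h * b' * h⁻¹ = b' := by
  obtain ⟨a, m, hm, ham⟩ := Nat.exists_eq_pow_mul_and_not_dvd (orderOf_pos n).ne' 2 (by norm_num)
  have hper : ∀ i j : ℕ, i ≡ j [MOD p] → n ^ i * s * (n ^ i)⁻¹ = n ^ j * s * (n ^ j)⁻¹ := by
    have h1 : ∀ k : ℕ, n ^ (p * k) * s * (n ^ (p * k))⁻¹ = s := by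
      intro k
      induction k with
      | zero => simp
      | succ k ih =>
        calc n ^ (p * (k + 1)) * s * (n ^ (p * (k + 1)))⁻¹
            = n ^ (p * k) * (n ^ p * s * (n ^ p)⁻¹) * (n ^ (p * k))⁻¹ := by
              rw [Nat.mul_succ, pow_add]; group
          _ = s := by rw [hs, ih]
    have h2 : ∀ i : ℕ, n ^ i * s * (n ^ i)⁻¹ = n ^ (i % p) * s * (n ^ (i % p))⁻¹ := fun i => by
      conv_lhs => rw [← Nat.mod_add_div i p, pow_add]
      calc n ^ (i % p) * n ^ (p * (i / p)) * s * (n ^ (i % p) * n ^ (p * (i / p)))⁻¹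
          = n ^ (i % p) * (n ^ (p * (i / p)) * s * (n ^ (p * (i / p)))⁻¹) * (n ^ (i % p))⁻¹ := by group
        _ = _ := by rw [h1]
    intro i j hij
    rw [h2 i, h2 j, show i % p = j % p from hij]
  -- powers of `2` are prime to `p`
  have hcop : Nat.Coprime (2 ^ a) p :=
    ((Nat.coprime_primes Nat.prime_two hp).2 (Ne.symm hp2)).pow_left a
  obtain ⟨c, -, hc⟩ := Nat.exists_mul_mod_eq_one_of_coprime hcop hp.one_lt
  have hfix : ∀ h ∈ zpowers (n ^ 2 ^ a), ∀ b ∈ B, b ≠ 1 → h * b * h⁻¹ = b → ∀ b' ∈ B, h * b' * h⁻¹ = b' := by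
    intro h hh b hb hb1 hhb b' hb'
    by_cases hb1' : b' = 1
    · rw [hb1']; group
    obtain ⟨i, rfl⟩ := hall b hb hb1
    obtain ⟨j, rfl⟩ := hall b' hb' hb1'
    have hcm : Commute h n := by
      obtain ⟨z, rfl⟩ := hh
      exact ((Commute.refl n).pow_left _).zpow_left z
    have hhs : h * s * h⁻¹ = s := by
      calc h * s * h⁻¹ = (n ^ i)⁻¹ * ((n ^ i * h) * s * (n ^ i * h)⁻¹) * n ^ i := by group
        _ = (n ^ i)⁻¹ * (h * (n ^ i * s * (n ^ i)⁻¹) * h⁻¹) * n ^ i := by rw [← (hcm.pow_right i).eq]; group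
        _ = s := by rw [hhb]; group
    calc h * (n ^ j * s * (n ^ j)⁻¹) * h⁻¹ = (h * n ^ j) * s * (h * n ^ j)⁻¹ := by group
      _ = n ^ j * (h * s * h⁻¹) * (n ^ j)⁻¹ := by rw [(hcm.pow_right j).eq]; group
      _ = _ := by rw [hhs]
  refine ⟨zpowers (n ^ 2 ^ a), inferInstance, ?_, zpowers_le.2 (pow_mem hn _), ?_, hfix⟩
  · rw [Nat.card_zpowers, orderOf_pow, ham, Nat.gcd_mul_right_left, Nat.mul_div_cancel_left _ (pow_pos two_pos a)]
    exact Nat.not_even_iff_odd.1 fun h => hm (even_iff_two_dvd.1 h)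
  · intro b hb hb1 b' hb' hb1'
    obtain ⟨i, rfl⟩ := hall b hb hb1
    obtain ⟨j, rfl⟩ := hall b' hb' hb1'
    set k := c * (j + (p - 1) * i) with hk
    refine ⟨(n ^ 2 ^ a) ^ k, pow_mem (mem_zpowers _) k, ?_⟩
    calc (n ^ 2 ^ a) ^ k * (n ^ i * s * (n ^ i)⁻¹) * ((n ^ 2 ^ a) ^ k)⁻¹
        = n ^ (2 ^ a * k + i) * s * (n ^ (2 ^ a * k + i))⁻¹ := by rw [← pow_mul, pow_add]; group
      _ = _ := hper _ _ (by
        have h1 : 2 ^ a * k ≡ j + (p - 1) * i [MOD p] := by
          rw [hk, ← mul_assoc]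
          have h2 : 2 ^ a * c ≡ 1 [MOD p] := by
            show 2 ^ a * c % p = 1 % p
            rw [hc, Nat.one_mod_eq_one.2 hp.ne_one]
          simpa using h2.mul_right (j + (p - 1) * i)
        refine (h1.add_right i).trans ?_
        show (j + (p - 1) * i + i) % p = j % p
        have e : (p - 1) * i + i = p * i := by
          have := hp.one_lt
          rw [← Nat.succ_mul, show Nat.succ (p - 1) = p by omega]
        rw [add_assoc, e, Nat.add_mul_mod_self_left])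

variable [IsSimpleGroup K]

/-- The facts for a group with one class of involutions and elementary Sylow 2-subgroups. -/
theorem goldLocal_of_elementary (hna : ¬ IsMulCommutative K)
    (hconj : ∀ x y : K, orderOf x = 2 → orderOf y = 2 → IsConj x y)
    (hsq : ∀ T : Sylow 2 K, ∀ x ∈ (T : Subgroup K), x * x = 1)
    (htor : ∀ T : Sylow 2 K, ∃ n ∈ normalizer ((T : Subgroup K) : Set K), ∃ p : ℕ, p.Prime ∧ p ≠ 2 ∧
      ∃ s : K, n ^ p * s * (n ^ p)⁻¹ = s ∧
        ∀ x ∈ (T : Subgroup K), x ≠ 1 → ∃ i : ℕ, x = n ^ i * s * (n ^ i)⁻¹)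
    (hbal : Walter.IsOddType K ∨ Walter.LocBal K) : GoldLocal K where
  involutions T B hB x hx hx2 := (mem_iff_of_conj hconj hB).2 ⟨hx, involution_sq hx2⟩
  central T B hB b hb x hx := by
    have hc : IsMulCommutative ↥(T : Subgroup K) := comm_of_sq (hsq T)
    exact congrArg Subtype.val (hc.is_comm.comm ⟨x, hx⟩ ⟨b, hB.closed.1 hb⟩)
  abelian T B hB _ := eq_of_sq hconj (hsq T) hB
  four := four_of_conj hna hconj
  small T B _ _ := Or.inl (comm_of_sq (hsq T))
  torus T B hB := by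
    have hBT : B = (T : Subgroup K) := le_antisymm hB.closed.1 fun x hx =>
      (mem_iff_of_conj hconj hB).2 ⟨hx, hsq T x hx⟩
    obtain ⟨n, hn, p, hp, hp2, s, hs, hall⟩ := htor T
    rw [hBT]
    exact torus_of_cycle n hn hp hp2 hs hall
  inner T B hB β hβ2 hβB _ := by
    have hBT : B = (T : Subgroup K) := le_antisymm hB.closed.1 fun x hx =>
      (mem_iff_of_conj hconj hB).2 ⟨hx, hsq T x hx⟩
    subst hBT
    have hP : IsMulCommutative ↥(T : Subgroup K) := hB.comm
    obtain ⟨k, -, hk⟩ := (Nat.dvd_prime_pow Nat.prime_two).1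
      (show orderOf β ∣ 2 ^ 1 by rw [pow_one]; exact orderOf_dvd_of_pow_eq_one (by rw [pow_two, hβ2]))
    exact Walter.Sections.aut_inner hna T hP β ⟨k, hk⟩ hβB
  balanced := hbal

/-- A cycle on the involutions of a Sylow 2-subgroup of `PSL(2, q)`, `q` odd. -/
theorem exists_three_cycle {D : AbelianPSL.PSLData K} (T : Sylow 2 K) :
    ∃ n ∈ normalizer ((T : Subgroup K) : Set K), ∃ p : ℕ, p.Prime ∧ p ≠ 2 ∧
      ∃ s : K, n ^ p * s * (n ^ p)⁻¹ = s ∧
        ∀ x ∈ (T : Subgroup K), x ≠ 1 → ∃ i : ℕ, x = n ^ i * s * (n ^ i)⁻¹ := by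
  classical
  haveI : Fact (Nat.Prime 2) := ⟨Nat.prime_two⟩
  have h4 := Walter.Sections.card_sylow D T
  have hcomm := Walter.Sections.sylow_comm_pair D T
  have hsq := fun x hx => Walter.Sections.sylow_sq D T (x := x) hx
  have hone : (T : Subgroup K) ≠ ⊥ := fun e => by rw [e, card_bot] at h4; omega
  obtain ⟨v, hv, hv1⟩ := (bot_or_exists_ne_one _).resolve_left hone
  obtain ⟨w, hw, hw1, hwv⟩ : ∃ w ∈ (T : Subgroup K), w ≠ 1 ∧ w ≠ v := by
    by_contra hcon
    push Not at hcon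
    have hle : Nat.card ↥(T : Subgroup K) ≤ 2 := by
      refine (Nat.card_le_card_of_surjective (fun b : Bool => if b then (⟨v, hv⟩ : ↥(T : Subgroup K)) else 1)
        fun x => ?_).trans (by simp)
      by_cases hx : (x : K) = 1
      · exact ⟨false, Subtype.ext hx.symm⟩
      · exact ⟨true, Subtype.ext (hcon x x.2 hx).symm⟩
    omega
  have ho := fun {x : K} (hx : x ∈ (T : Subgroup K)) (hx1 : x ≠ 1) => orderOf_eq_two_of hx1 (hsq x hx)
  obtain ⟨n, hn, hnv⟩ := Walter.Sections.exists_conj_normalizer D T hv hw (ho hv hv1) (ho hw hw1)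
  have hconjT : ∀ {x : K}, x ∈ (T : Subgroup K) → n * x * n⁻¹ ∈ (T : Subgroup K) := fun hx =>
    (mem_normalizer_iff.1 hn _).1 hx
  have hne1 : ∀ {x : K}, x ≠ 1 → n * x * n⁻¹ ≠ 1 := fun hx e => hx (conj_eq_one_iff.1 e)
  have hinj : ∀ {x y : K}, n * x * n⁻¹ = n * y * n⁻¹ → x = y := fun h => by simpa using h
  -- the four elements
  have hlist : ∀ x ∈ (T : Subgroup K), x = 1 ∨ x = v ∨ x = w ∨ x = v * w := by
    intro x hx
    by_contra hcon
    push Not at hcon
    obtain ⟨c1, c2, c3, c4⟩ := hcon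
    have e1 : v * w ≠ 1 := fun e => hwv (by
      rw [eq_inv_of_mul_eq_one_left e, inv_eq_of_mul_eq_one_right (hsq w hw)])
    let f : Fin 5 → ↥(T : Subgroup K) := ![1, ⟨v, hv⟩, ⟨w, hw⟩, ⟨v * w, mul_mem hv hw⟩, ⟨x, hx⟩]
    have hf : Function.Injective f := by
      intro i j hij
      have hij' := congrArg Subtype.val hij
      fin_cases i <;> fin_cases j <;>
        simp [f, hv1, hw1, hwv, hwv.symm, Ne.symm hv1, Ne.symm hw1, e1, Ne.symm e1, c1, c2, c3, c4,
          Ne.symm c1, Ne.symm c2, Ne.symm c3, Ne.symm c4] at hij' ⊢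
    have := Nat.card_le_card_of_injective f hf
    rw [h4, Nat.card_fin] at this
    omega
  -- an element of `N(T)` induces no transposition
  have hnw : n * w * n⁻¹ ≠ v := by
    intro hnw
    obtain ⟨a, m, hm, ham⟩ := Nat.exists_eq_pow_mul_and_not_dvd (orderOf_pos n).ne' 2 (by norm_num)
    obtain ⟨j, hj⟩ := Nat.not_even_iff_odd.1 fun h => hm (even_iff_two_dvd.1 h)
    have hsq2 : ∀ k : ℕ, (n * n) ^ k * v * ((n * n) ^ k)⁻¹ = v := by
      intro k
      induction k with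
      | zero => simp
      | succ k ih =>
        calc (n * n) ^ (k + 1) * v * ((n * n) ^ (k + 1))⁻¹
            = (n * n) ^ k * (n * (n * v * n⁻¹) * n⁻¹) * ((n * n) ^ k)⁻¹ := by rw [pow_succ]; group
          _ = v := by rw [hnv, hnw, ih]
    have hp : IsPGroup 2 (zpowers (n ^ m)) := IsPGroup.of_card (n := a) (by
      rw [Nat.card_zpowers, orderOf_pow, ham, Nat.gcd_mul_left_left,
        Nat.mul_div_cancel _ (show 0 < m by omega)])
    have hmT : n ^ m ∈ (T : Subgroup K) :=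
      (T.3 (T.2.to_sup_of_normal_left' hp (zpowers_le.2 (pow_mem hn m))) le_sup_left).le
        (mem_sup_right (mem_zpowers _))
    have h1 : n ^ m * v * (n ^ m)⁻¹ = v := by
      have hc : n ^ m * v = v * n ^ m := congrArg Subtype.val (hcomm.is_comm.comm ⟨_, hmT⟩ ⟨v, hv⟩)
      rw [hc, mul_inv_cancel_right]
    rw [hj] at h1
    refine hwv ?_
    calc w = n * ((n * n) ^ j * v * ((n * n) ^ j)⁻¹) * n⁻¹ := by rw [hsq2, hnv]
      _ = n ^ (2 * j + 1) * v * (n ^ (2 * j + 1))⁻¹ := by rw [pow_succ', pow_mul, pow_two]; group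
      _ = v := h1
  have hnw' : n * w * n⁻¹ = v * w := by
    rcases hlist _ (hconjT hw) with h | h | h | h
    · exact absurd h (hne1 hw1)
    · exact absurd h hnw
    · exact absurd (hinj (hnv.trans h.symm)) (Ne.symm hwv)
    · exact h
  have hnvw : n * (v * w) * n⁻¹ = v := by
    rw [← conj_mul, hnv, hnw']
    have hcm : Commute v w := congrArg Subtype.val (hcomm.is_comm.comm ⟨v, hv⟩ ⟨w, hw⟩)
    rw [hcm.eq, ← mul_assoc, hsq w hw, one_mul]
  refine ⟨n, hn, 3, Nat.prime_three, by norm_num, v, ?_, fun x hx hx1 => ?_⟩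
  · calc n ^ 3 * v * (n ^ 3)⁻¹ = n * (n * (n * v * n⁻¹) * n⁻¹) * n⁻¹ := by rw [pow_succ', pow_two]; group
      _ = v := by rw [hnv, hnw', hnvw]
  · rcases hlist x hx with h | h | h | h
    · exact absurd h hx1
    · exact ⟨0, by rw [h]; group⟩
    · exact ⟨1, by rw [h, pow_one, hnv]⟩
    · exact ⟨2, by rw [h, ← hnw', ← hnv, pow_two]; group⟩

/-- The local facts for the groups of `GoldType`. -/
theorem localStep : LocalStep.{u} := by
  intro K _ _ _ hna hK
  haveI : Fact (Nat.Prime 2) := ⟨Nat.prime_two⟩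
  rcases hK with (h | h | h) | ⟨-, H, hH⟩
  · obtain ⟨T⟩ := (inferInstance : Nonempty (Sylow 2 K))
    exact goldLocal_of_embedded hna (h.elemCent T).stronglyEmbedded
  · exact goldLocal_of_elementary hna (fun x y => h.pslData.conj x y)
      (fun T x hx => Walter.Sections.sylow_sq h.pslData T hx)
      (fun T => exists_three_cycle (D := h.pslData) T) (Or.inl h)
  · refine goldLocal_of_elementary hna (fun x y => Walter.Sections.jr_isConj h)
      (fun T x hx => Walter.Sections.jr_sq h T hx) (fun T => ?_) (Or.inr h.locBal)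
    obtain ⟨t, htT, ht⟩ : ∃ t ∈ (T : Subgroup K), orderOf t = 2 := by
      obtain ⟨A, -, hA2, hA4⟩ : ∃ A : Subgroup K, IsMulCommutative A ∧ (∀ a ∈ A, a ^ 2 = 1) ∧ 2 ^ 2 < Nat.card A := by
        have hr := h.2.2.1
        unfold Cfsg.PRankLE at hr
        push Not at hr
        exact hr
      haveI : Nontrivial ↥A := Finite.one_lt_card_iff_nontrivial.1 (by omega)
      obtain ⟨a, ha, ha1⟩ := (bot_or_exists_ne_one A).resolve_left ((nontrivial_iff_ne_bot A).1 inferInstance)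
      have ha2 := orderOf_eq_two_of ha1 (by rw [← pow_two]; exact hA2 a ha)
      obtain ⟨P, hP⟩ := (CfsgLib.Signalizer.isPGroup_zpowers_involution ha2).exists_le_sylow
      obtain ⟨g, hg⟩ := MulAction.exists_smul_eq K P T
      refine ⟨g * a * g⁻¹, ?_, (orderOf_conj g a).trans ha2⟩
      rw [← hg, Sylow.coe_subgroup_smul]
      exact ⟨a, hP (mem_zpowers a), rfl⟩
    obtain ⟨E, N, L⟩ := Walter.Sections.exists_loc_of_jr h ht
    obtain ⟨h8, -, -⟩ := Walter.Sections.jr_card h T htT L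
    obtain ⟨n, hn, s, -, -, hs, hall⟩ := CfsgLib.Classical.AbSylow.exists_seven_cycle hna T (h.2.1 T) h8
    exact ⟨n, hn, 7, by norm_num, by norm_num, s, hs, fun x hx hx1 =>
      let ⟨i, _, hi⟩ := hall x hx hx1; ⟨i, hi⟩⟩
  · exact goldLocal_of_embedded hna hH

end CfsgLib.Invol.Goldschmidt
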