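import Cfsg.Agent.Lib.Invol.Goldschmidt.Spine

/-!
Owner: helper14. What is known about a moved component before it is known that its centre misses `A`.

`P a V C` as in `Spine`; `D a V C` is the normalizer of `A` in the preimage of the component, so
`V = ⁅A, D a V C⁆`. `NoCoverStep`: the two members of a pair meet trivially.
-/

set_option autoImplicit false

namespace CfsgLib.Invol.Goldschmidt

open Subgroup

universe u

variable {G : Type u} [Group G] [Finite G]

/-- `x` acts trivially on `A` modulo `C`. -/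
def TrivMod (A C : Subgroup G) (x : G) : Prop := ∀ b ∈ A, x * b * x⁻¹ * b⁻¹ ∈ C

/-- The facts on the pairs and their groups. -/
structure PreFacts (A : Subgroup G) (P : G → Subgroup G → Subgroup G → Prop)
    (D : G → Subgroup G → Subgroup G → Subgroup G) : Prop where
  mem : ∀ {a : G} {V C : Subgroup G}, P a V C → a ∈ C ∧ a ≠ 1
  sup : ∀ {a : G} {V C : Subgroup G}, P a V C → V ⊔ C = A
  four : ∀ {a : G} {V C : Subgroup G}, P a V C → 4 ≤ C.relIndex A
  span : ∀ {a : G} {V C : Subgroup G}, P a V C → V = ⁅A, D a V C⁆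
  le : ∀ {a : G} {V C : Subgroup G}, P a V C →
    D a V C ≤ normalizer (A : Set G) ⊓ centralizer (C : Set G)
  /-- The group induced on `A / C` has odd order. -/
  odd : ∀ {a : G} {V C : Subgroup G}, P a V C → ∀ x ∈ D a V C, ∃ n : ℕ, Odd n ∧ TrivMod A C (x ^ n)
  trans : ∀ {a : G} {V C : Subgroup G}, P a V C → ∀ b ∈ A, b ∉ C → ∀ b' ∈ A, b' ∉ C →
    ∃ x ∈ D a V C, x * b * x⁻¹ * b'⁻¹ ∈ C
  same : ∀ {a : G} {V C V' C' : Subgroup G}, P a V C → P a V' C' →
    (V = V' ∧ C = C') ∨ (V' ≤ C ∧ V ≤ C')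
  conj : ∀ {a : G} {V C : Subgroup G}, P a V C → ∀ n ∈ normalizer (A : Set G),
    P (n * a * n⁻¹) (cj n V) (cj n C) ∧ D (n * a * n⁻¹) (cj n V) (cj n C) = cj n (D a V C)
  /-- L-balance. -/
  pump : ∀ {a u : G} {V C : Subgroup G}, P a V C → u ∈ C → u ≠ 1 →
    ∃ V' C' : Subgroup G, P u V' C' ∧ V ≤ V' ∧ C' ≤ C ∧
      ∀ x ∈ D a V C, ∃ x' ∈ D u V' C', ∀ b ∈ A, x * b * x⁻¹ = x' * b * x'⁻¹
  /-- If the members meet, some element of `D` induces a translation. -/
  transl : ∀ {a : G} {V C : Subgroup G}, P a V C → V ⊓ C ≠ ⊥ →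
    ∃ x ∈ D a V C, TrivMod A C x ∧ x ∉ centralizer (A : Set G)
  /-- A translation fixes an element outside the kernel. -/
  fixed : ∀ {a : G} {V C : Subgroup G}, P a V C → ∀ x ∈ D a V C, TrivMod A C x →
    ∃ b ∈ A, b ∉ C ∧ x * b * x⁻¹ = b
  /-- There is no translation on a component of rank two. -/
  big : ∀ {a : G} {V C : Subgroup G}, P a V C → V ⊓ C ≠ ⊥ → 8 ≤ C.relIndex A

/-- No component of a centralizer is a cover with `A` meeting the centre. -/
def NoCoverStep : Prop :=
  ∀ (G : Type u) [Group G] [Finite G] (S : Sylow 2 G) (A : Subgroup G)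
    (P : G → Subgroup G → Subgroup G → Prop) (D : G → Subgroup G → Subgroup G → Subgroup G),
    Setting S A → PreFacts A P D → ∀ a V C, P a V C → V ⊓ C = ⊥

end CfsgLib.Invol.Goldschmidt
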