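import Cfsg.Agent.Lib.Invol.Goldschmidt.Sections.CoverLocal
import Cfsg.Agent.Lib.Invol.Goldschmidt.Sections.Cover
import Cfsg.Agent.Lib.PLocal.PConstrained

/-!
Owner: helper14. The centralizer of an element of `A` modulo its core, in `G`.

* `Cq`, `Quo`, `pr`, `img`, `pre`; `Ctx`: a minimal counterexample with the local facts.
* `Ck`, `Dk`, `Vk`: the kernel, the normalizer of `A` and the member `V` of a component.
* `Pair`, `DP`: the relation `P` and the groups `D` of `PreFacts`.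
-/

set_option autoImplicit false
set_option linter.style.haveILetI false

namespace CfsgLib.Invol.Goldschmidt.Point

open Subgroup Cfsg
open CfsgLib.FTDep (coreCent)
open scoped commutatorElement

universe u

variable {G : Type u} [Group G]

/-- The centralizer of an element. -/
abbrev Cq (a : G) : Subgroup G := centralizer ({a} : Set G)

/-- `C(a) / O(C(a))`. -/
abbrev Quo (a : G) : Type u := ↥(Cq a) ⧸ oddCore ↥(Cq a)

/-- The projection. -/
abbrev pr (a : G) : ↥(Cq a) →* Quo a := QuotientGroup.mk' (oddCore ↥(Cq a))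

/-- The image of a subgroup of `G`. -/
def img (a : G) (U : Subgroup G) : Subgroup (Quo a) := (U.subgroupOf (Cq a)).map (pr a)

/-- The preimage in `G`. -/
def pre (a : G) (H : Subgroup (Quo a)) : Subgroup G := (H.comap (pr a)).map (Cq a).subtype

theorem mem_img {a : G} {U : Subgroup G} {q : Quo a} :
    q ∈ img a U ↔ ∃ x, ∃ h : x ∈ Cq a, x ∈ U ∧ pr a ⟨x, h⟩ = q := by
  refine ⟨?_, fun ⟨x, h, hU, he⟩ => ⟨⟨x, h⟩, hU, he⟩⟩
  rintro ⟨⟨x, hx⟩, hU, he⟩
  exact ⟨x, hx, hU, he⟩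

theorem mem_pre {a : G} {H : Subgroup (Quo a)} {x : G} :
    x ∈ pre a H ↔ ∃ h : x ∈ Cq a, pr a ⟨x, h⟩ ∈ H := by
  refine ⟨?_, fun ⟨h, hx⟩ => ⟨⟨x, h⟩, hx, rfl⟩⟩
  rintro ⟨y, hy, rfl⟩
  exact ⟨y.2, hy⟩

theorem pre_le (a : G) (H : Subgroup (Quo a)) : pre a H ≤ Cq a := map_subtype_le _

theorem mem_coreCent_iff [Finite G] {a x : G} (h : x ∈ Cq a) :
    x ∈ coreCent ({a} : Set G) ↔ pr a ⟨x, h⟩ = 1 := by
  rw [QuotientGroup.mk'_apply, QuotientGroup.eq_one_iff]
  refine ⟨?_, fun hx => ⟨⟨x, h⟩, hx, rfl⟩⟩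
  rintro ⟨y, hy, rfl⟩
  exact hy

/-- The kernel of a component. -/
def Ck (A : Subgroup G) (a : G) (K : Subgroup (Quo a)) : Subgroup G :=
  A ⊓ pre a (centralizer (K : Set (Quo a)))

/-- The normalizer of `A` in the preimage of a component. -/
def Dk (A : Subgroup G) (a : G) (K : Subgroup (Quo a)) : Subgroup G := normalizer (A : Set G) ⊓ pre a K

/-- The member `V` of a component. -/
def Vk (A : Subgroup G) (a : G) (K : Subgroup (Quo a)) : Subgroup G := ⁅A, Dk A a K⁆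

/-- A moved component at `a` with its pair. -/
def Pair (A : Subgroup G) (a : G) (V C : Subgroup G) : Prop :=
  a ∈ A ∧ a ≠ 1 ∧ ∃ K : Subgroup (Quo a), Moved (img a A) K ∧ V = Vk A a K ∧ C = Ck A a K

/-- The group `D` of a pair. -/
def DP (A : Subgroup G) (a : G) (V C : Subgroup G) : Subgroup G :=
  ⨆ K ∈ {K : Subgroup (Quo a) | Moved (img a A) K ∧ V = Vk A a K ∧ C = Ck A a K}, Dk A a K

variable [Finite G]

/-- A minimal counterexample with the local facts. -/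
structure Ctx (S : Sylow 2 G) (A : Subgroup G) : Prop where
  set : Setting S A
  smaller : Smaller G
  loc : LocalStep.{u}

namespace Ctx

variable {S : Sylow 2 G} {A : Subgroup G} (c : Ctx S A)

include c

theorem le : A ≤ (S : Subgroup G) := c.set.closed.1

theorem sq {x : G} (hx : x ∈ A) : x * x = 1 := (pow_two x).symm.trans (c.set.elem.2 x hx)

theorem inv_eq {x : G} (hx : x ∈ A) : x⁻¹ = x := inv_eq_of_mul_eq_one_right (c.sq hx)

theorem comm {x y : G} (hx : x ∈ A) (hy : y ∈ A) : x * y = y * x :=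
  congrArg Subtype.val (c.set.elem.1.is_comm.comm ⟨x, hx⟩ ⟨y, hy⟩)

theorem le_cq {a : G} (ha : a ∈ A) : A ≤ Cq a := fun _ hx => mem_centralizer_singleton_iff.2 (c.comm hx ha)

theorem isPGroup {U : Subgroup G} (hU : U ≤ A) : IsPGroup 2 U :=
  haveI : Fact (Nat.Prime 2) := ⟨Nat.prime_two⟩
  S.2.to_le (hU.trans c.le)

theorem cq_lt {a : G} (ha : a ∈ A) (ha1 : a ≠ 1) : Nat.card (Cq a) < Nat.card G := by
  refine lt_of_le_of_ne (Subgroup.card_le_card_group _) fun e => ha1 ?_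
  haveI := c.set.simple
  have htop : Cq a = ⊤ := Subgroup.eq_top_of_card_eq _ e
  have hc : a ∈ center G := mem_center_iff.2 fun g => mem_centralizer_singleton_iff.1 (show g ∈ Cq a by rw [htop]; exact mem_top g)
  rcases (inferInstance : (center G).Normal).eq_bot_or_eq_top with h | h
  · rwa [h, mem_bot] at hc
  · exact absurd ⟨⟨fun x y => Subtype.ext (mem_center_iff.1 (show (y : G) ∈ center G by rw [h]; exact mem_top _) x)⟩⟩
      c.set.noncomm

/-- An element of `A` in the core is trivial. -/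
theorem eq_one_of_pr {a x : G} (hx : x ∈ A) {h : x ∈ Cq a} (e : pr a ⟨x, h⟩ = 1) : x = 1 := by
  have h1 := (CfsgLib.ZStar.odd_card_oddCore _).of_dvd_nat
    (Subgroup.orderOf_dvd_natCard _ ((QuotientGroup.eq_one_iff _).1 e))
  rw [Subgroup.orderOf_mk] at h1
  by_contra hne
  have h2 : orderOf x = 2 := orderOf_eq_prime (by rw [pow_two]; exact c.sq hx) hne
  rw [h2] at h1
  exact Nat.not_even_iff_odd.2 h1 even_two

theorem pr_inj {a x y : G} (hx : x ∈ A) (hy : y ∈ A) {h₁ : x ∈ Cq a} {h₂ : y ∈ Cq a}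
    (e : pr a ⟨x, h₁⟩ = pr a ⟨y, h₂⟩) : x = y := by
  have h := c.eq_one_of_pr (a := a) (mul_mem hx (inv_mem hy)) (h := mul_mem h₁ (inv_mem h₂)) (by
    rw [show (⟨x * y⁻¹, mul_mem h₁ (inv_mem h₂)⟩ : ↥(Cq a)) = ⟨x, h₁⟩ * ⟨y, h₂⟩⁻¹ from rfl, map_mul, map_inv, e,
      mul_inv_cancel])
  exact mul_inv_eq_one.1 h

/-- A Sylow subgroup of the quotient with the image of `A` strongly closed in it. -/
theorem exists_sylow {a : G} (ha : a ∈ A) :
    ∃ T : Sylow 2 (Quo a), Cfsg.IsStronglyClosed (img a A) (T : Subgroup (Quo a)) := by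
  haveI : Fact (Nat.Prime 2) := ⟨Nat.prime_two⟩
  obtain ⟨R, hR⟩ := ((c.isPGroup le_rfl).comap_of_injective (Cq a).subtype (Cq a).subtype_injective :
    IsPGroup 2 (A.subgroupOf (Cq a))).exists_le_sylow
  obtain ⟨R', hR'⟩ := (R.2.map (Cq a).subtype).exists_le_sylow
  obtain ⟨g, hg⟩ := MulAction.exists_smul_eq G S R'
  have hAR' : A ≤ (R' : Subgroup G) := fun x hx => hR' ⟨⟨x, c.le_cq ha hx⟩, hR hx, rfl⟩
  have hmem : ∀ {x : G}, x ∈ (R' : Subgroup G) → g⁻¹ * x * g ∈ (S : Subgroup G) := by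
    intro x hx
    rw [← hg, Sylow.coe_subgroup_smul] at hx
    obtain ⟨s, hs, rfl⟩ := hx
    show g⁻¹ * (g * s * g⁻¹) * g ∈ (S : Subgroup G)
    rwa [show g⁻¹ * (g * s * g⁻¹) * g = s by group]
  have hgA : ∀ {x : G}, x ∈ A → g⁻¹ * x * g ∈ A := fun {x} hx => by
    have := c.set.closed.2 x hx g⁻¹ (by rw [inv_inv]; exact hmem (hAR' hx))
    rwa [inv_inv] at this
  have hgN : g ∈ normalizer (A : Set G) := by
    have := inv_mem (mem_normalizer_fintype fun x hx => (by rw [inv_inv]; exact hgA hx) :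
      g⁻¹ ∈ normalizer (A : Set G))
    rwa [inv_inv] at this
  have hclosed : ∀ x ∈ A, ∀ y : G, y * x * y⁻¹ ∈ (R' : Subgroup G) → y * x * y⁻¹ ∈ A := by
    intro x hx y hy
    have h1 := c.set.closed.2 x hx (g⁻¹ * y) (by
      rw [show g⁻¹ * y * x * (g⁻¹ * y)⁻¹ = g⁻¹ * (y * x * y⁻¹) * g by group]; exact hmem hy)
    have h2 := (mem_normalizer_iff.1 hgN _).1 h1
    rwa [show g * (g⁻¹ * y * x * (g⁻¹ * y)⁻¹) * g⁻¹ = y * x * y⁻¹ by group] at h2
  refine ⟨R.mapSurjective (f := pr a) (QuotientGroup.mk'_surjective _), map_mono hR, ?_⟩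
  rintro _ ⟨x, hx, rfl⟩ q hq
  obtain ⟨y, rfl⟩ := QuotientGroup.mk'_surjective _ q
  obtain ⟨r, hr, hre⟩ : pr a y * pr a x * (pr a y)⁻¹ ∈ (R : Subgroup ↥(Cq a)).map (pr a) := hq
  rw [← map_inv, ← map_mul, ← map_mul] at hre ⊢
  set N : Subgroup ↥(Cq a) := (R : Subgroup ↥(Cq a)) ⊔ oddCore ↥(Cq a) with hN
  have hyN : y * x * y⁻¹ ∈ N := by
    have := mul_mem (mem_sup_left hr : r ∈ N) (mem_sup_right (QuotientGroup.eq.1 hre) : r⁻¹ * (y * x * y⁻¹) ∈ N)
    rwa [mul_inv_cancel_left] at this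
  have hord : IsPGroup 2 (zpowers (⟨_, hyN⟩ : N)) := IsPGroup.of_card (n := orderOf x |>.log 2) (by
    rw [Nat.card_zpowers, Subgroup.orderOf_mk, ← MulAut.conj_apply, MulEquiv.orderOf_eq]
    rcases eq_or_ne x 1 with rfl | hx1
    · simp
    rw [orderOf_eq_prime (p := 2) (Subtype.ext ((pow_two (x : G)).trans (c.sq hx))) hx1]
    norm_num)
  obtain ⟨R₂, hR₂⟩ := hord.exists_le_sylow
  obtain ⟨w, hw⟩ := MulAction.exists_smul_eq N R₂ (R.subtype (le_sup_left : (R : Subgroup ↥(Cq a)) ≤ N))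
  have hwR : (w : ↥(Cq a)) * (y * x * y⁻¹) * (w : ↥(Cq a))⁻¹ ∈ (R : Subgroup ↥(Cq a)) := by
    have : w * ⟨_, hyN⟩ * w⁻¹ ∈ (R.subtype (le_sup_left : (R : Subgroup ↥(Cq a)) ≤ N) : Subgroup N) := by
      rw [← hw, Sylow.coe_subgroup_smul]; exact ⟨_, hR₂ (mem_zpowers _), rfl⟩
    exact this
  obtain ⟨r₀, hr₀, o, ho, hro⟩ := mem_sup_of_normal_right.1 w.2
  have h3 : o * (y * x * y⁻¹) * o⁻¹ ∈ (R : Subgroup ↥(Cq a)) := by
    have := mul_mem (mul_mem (inv_mem hr₀) hwR) hr₀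
    rwa [← hro, show r₀⁻¹ * (r₀ * o * (y * x * y⁻¹) * (r₀ * o)⁻¹) * r₀ = o * (y * x * y⁻¹) * o⁻¹ by group] at this
  have h4 : ((o * y * x * (o * y)⁻¹ : ↥(Cq a)) : G) ∈ A := hclosed x hx ((o * y : ↥(Cq a)) : G) (hR' ⟨_, h3, by
    simp [mul_assoc]⟩)
  refine ⟨o * y * x * (o * y)⁻¹, h4, ?_⟩
  have ho1 : pr a o = 1 := (QuotientGroup.eq_one_iff o).2 ho
  rw [map_mul, map_mul, map_inv, map_mul, ho1, one_mul, ← map_inv, ← map_mul, ← map_mul]

theorem quo_core (a : G) : oddCore (Quo a) = ⊥ := CfsgLib.Core.pPrimeCore_quotient_pPrimeCore 2 _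

/-- The quotient with the image of `A` satisfies the hypotheses of `Component`. -/
theorem exists_secCtx {a : G} (ha : a ∈ A) (ha1 : a ≠ 1) : ∃ T : Sylow 2 (Quo a), SecCtx T (img a A) := by
  haveI : Fact (Nat.Prime 2) := ⟨Nat.prime_two⟩
  obtain ⟨T, hT⟩ := c.exists_sylow ha
  have hcomm : ∀ x ∈ img a A, ∀ y ∈ img a A, x * y = y * x := by
    rintro _ ⟨x, hx, rfl⟩ _ ⟨y, hy, rfl⟩
    rw [← map_mul, ← map_mul]
    exact congrArg (pr a) (Subtype.ext (c.comm hx hy))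
  have hsq : ∀ x ∈ img a A, x * x = 1 := by
    rintro _ ⟨x, hx, rfl⟩
    rw [← map_mul, show x * x = 1 from Subtype.ext (c.sq hx), map_one]
  refine ⟨T, c.quo_core a, hT, hcomm, hsq, fun K hK hnc => ?_⟩
  obtain ⟨P, hP⟩ := exists_sylow_component T hK.1
  have hB := closedElem_quot (c.quo_core a) hT hcomm hsq hK hnc hP
  haveI := component_simple hK
  refine c.loc _ (component_quot_not_comm hK) (c.smaller _ (component_quot_not_comm hK) ?_ _ _ hB.ne hB.comm hB.closed)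
  refine lt_of_le_of_lt ?_ (c.cq_lt ha ha1)
  exact (Nat.card_le_card_of_surjective _ (QuotientGroup.mk'_surjective _)).trans
    ((Subgroup.card_le_card_group _).trans (Nat.card_le_card_of_surjective _ (QuotientGroup.mk'_surjective _)))

/-- The centralizer of the image of a subgroup of `A` is the image of its centralizer. -/
theorem centralizer_img {a : G} {U : Subgroup G} (hU : U ≤ A) (ha : a ∈ A) :
    centralizer (img a U : Set (Quo a)) = img a (centralizer (U : Set G)) := by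
  haveI : Fact (Nat.Prime 2) := ⟨Nat.prime_two⟩
  refine ((CfsgLib.PLocal.map_centralizer_eq (P := U.subgroupOf (Cq a)) _
    (CfsgLib.Core.coprime_card_pPrimeCore 2 _)
    ((c.isPGroup hU).comap_of_injective (Cq a).subtype (Cq a).subtype_injective)).symm).trans ?_
  refine congrArg (Subgroup.map (pr a)) (Subgroup.ext fun x => ?_)
  rw [mem_subgroupOf, mem_centralizer_iff, mem_centralizer_iff]
  exact ⟨fun h u hu => congrArg Subtype.val (h ⟨u, c.le_cq ha (hU hu)⟩ hu),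
    fun h u hu => Subtype.ext (h u hu)⟩

/-- The normalizer of the image of `A` is the image of its normalizer. -/
theorem normalizer_img {a : G} (ha : a ∈ A) :
    normalizer (img a A : Set (Quo a)) = img a (normalizer (A : Set G)) := by
  haveI : Fact (Nat.Prime 2) := ⟨Nat.prime_two⟩
  refine ((CfsgLib.PLocal.map_normalizer_eq (P := A.subgroupOf (Cq a)) _
    (CfsgLib.Core.coprime_card_pPrimeCore 2 _)
    ((c.isPGroup le_rfl).comap_of_injective (Cq a).subtype (Cq a).subtype_injective)).symm).trans ?_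
  refine congrArg (Subgroup.map (pr a)) (Subgroup.ext fun x => ?_)
  rw [mem_subgroupOf]
  constructor
  · intro h
    exact mem_normalizer_fintype fun y hy => (mem_normalizer_iff.1 h ⟨y, c.le_cq ha hy⟩).1 hy
  · intro h
    exact mem_normalizer_fintype fun y hy => (mem_normalizer_iff.1 h (y : G)).1 hy

theorem mem_Ck {a x : G} (ha : a ∈ A) {K : Subgroup (Quo a)} :
    x ∈ Ck A a K ↔ ∃ hx : x ∈ A, pr a ⟨x, c.le_cq ha hx⟩ ∈ centralizer (K : Set (Quo a)) :=
  ⟨fun h => ⟨h.1, (mem_pre.1 h.2).2⟩, fun ⟨h, hx⟩ => ⟨h, mem_pre.2 ⟨_, hx⟩⟩⟩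

theorem mem_img_A {a x : G} (ha : a ∈ A) (hx : x ∈ A) : pr a ⟨x, c.le_cq ha hx⟩ ∈ img a A :=
  mem_img.2 ⟨x, _, hx, rfl⟩

theorem mem_Ck_self {a : G} (ha : a ∈ A) (K : Subgroup (Quo a)) : a ∈ Ck A a K := by
  refine (c.mem_Ck ha).2 ⟨ha, mem_centralizer_iff.2 fun q _ => ?_⟩
  obtain ⟨g, rfl⟩ := QuotientGroup.mk'_surjective _ q
  rw [← map_mul, ← map_mul]
  exact congrArg _ (Subtype.ext (mem_centralizer_singleton_iff.1 g.2))

/-- The action of an element of `Dk` is that of its image. -/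
theorem pr_conj {a x y : G} (ha : a ∈ A) (hx : x ∈ Cq a) (hy : y ∈ A) (h : x * y * x⁻¹ ∈ Cq a) :
    pr a ⟨x * y * x⁻¹, h⟩ = pr a ⟨x, hx⟩ * pr a ⟨y, c.le_cq ha hy⟩ * (pr a ⟨x, hx⟩)⁻¹ := by
  rw [← map_inv, ← map_mul, ← map_mul]; rfl

theorem Dk_le_normalizer {a : G} {K : Subgroup (Quo a)} : Dk A a K ≤ normalizer (A : Set G) := inf_le_left

/-- `Dk` maps onto the normalizer of the image of `A` in the component. -/
theorem img_Dk {a : G} (ha : a ∈ A) (K : Subgroup (Quo a)) :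
    img a (Dk A a K) = normalizer (img a A : Set (Quo a)) ⊓ K := by
  refine le_antisymm ?_ ?_
  · intro q hq
    obtain ⟨x, hx, hxD, rfl⟩ := mem_img.1 hq
    exact ⟨c.normalizer_img ha ▸ mem_img.2 ⟨x, hx, hxD.1, rfl⟩, (mem_pre.1 hxD.2).2⟩
  · intro q hq
    obtain ⟨x, hx, hxN, rfl⟩ := mem_img.1 ((c.normalizer_img ha) ▸ hq.1 : q ∈ img a (normalizer (A : Set G)))
    exact mem_img.2 ⟨x, hx, ⟨hxN, mem_pre.2 ⟨hx, hq.2⟩⟩, rfl⟩

end Ctx

end CfsgLib.Invol.Goldschmidt.Point
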