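import Cfsg.Agent.Lib.Invol.Goldschmidt.Sections.Component
import Cfsg.Agent.Lib.Invol.CentralMeet.Models

/-!
Owner: helper14. The normalizer of `A` in a moved component: the facts behind `PreFacts`.
-/

set_option autoImplicit false

namespace CfsgLib.Invol.Goldschmidt

open Subgroup Cfsg
open scoped commutatorElement

universe u

variable {X : Type u} [Group X] [Finite X]

/-- A perfect subgroup modulo its centre: equal images. -/
theorem mk_eq_iff {K : Subgroup X} (x y : ↥K) :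
    QuotientGroup.mk' (center ↥K) x = QuotientGroup.mk' (center ↥K) y ↔
      (x : X) * (y : X)⁻¹ ∈ centralizer (K : Set X) := by
  rw [← mul_inv_eq_one, ← map_inv, ← map_mul, QuotientGroup.mk'_apply, QuotientGroup.eq_one_iff, mem_center_iff,
    mem_centralizer_iff]
  exact ⟨fun h k hk => congrArg Subtype.val (h ⟨k, hk⟩), fun h k => Subtype.ext (h k k.2)⟩

namespace SecCtx

variable {T : Sylow 2 X} {A : Subgroup X} (c : SecCtx T A) {K : Subgroup X} (h : Moved A K)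

include c h

/-- The simple quotient, its Sylow subgroup and the image of `A`. -/
theorem exists_quot : ∃ (P : Sylow 2 (↥K ⧸ center ↥K)),
    GoldLocal (↥K ⧸ center ↥K) ∧
    ClosedElem P (((A ⊓ K).subgroupOf K).map (QuotientGroup.mk' (center ↥K))) ∧
    ∀ w : ↥K, QuotientGroup.mk' (center ↥K) w ∈ (P : Subgroup (↥K ⧸ center ↥K)) ↔
      (w : X) ∈ (T : Subgroup X) := by
  haveI : Fact (Nat.Prime 2) := ⟨Nat.prime_two⟩
  obtain ⟨P, hP⟩ := exists_sylow_component T h.1.1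
  refine ⟨P.mapSurjective (QuotientGroup.mk'_surjective (center ↥K)), c.gold K h.1 (c.not_le_center h),
    closedElem_quot c.core c.closed c.comm c.sq h.1 (c.not_le_center h) hP, fun w => ⟨fun hw => ?_, fun hw => ?_⟩⟩
  · obtain ⟨s, hs, hse⟩ : QuotientGroup.mk' (center ↥K) w ∈
        (P : Subgroup ↥K).map (QuotientGroup.mk' (center ↥K)) := hw
    rw [hP] at hs
    have hz := (mk_eq_iff w s).1 hse.symm
    have hzT : (w : X) * (s : X)⁻¹ ∈ (T : Subgroup X) :=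
      c.pCore_le (c.center_le h.1 ⟨K.mul_mem w.2 (K.inv_mem s.2), hz⟩)
    have := mul_mem hzT (mem_subgroupOf.1 hs)
    rwa [inv_mul_cancel_right] at this
  · exact mem_map_of_mem _ (by rw [hP]; exact hw)

omit c h in
/-- An element of `K` commutes with the centralizer of `K`. -/
theorem conj_eq {k v b : X} (hk : k ∈ K) (hc : v⁻¹ * b ∈ centralizer (K : Set X)) :
    k * b * k⁻¹ * b⁻¹ = k * v * k⁻¹ * v⁻¹ := by
  have e : k * (v⁻¹ * b) = v⁻¹ * b * k := mem_centralizer_iff.1 hc k hk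
  calc k * b * k⁻¹ * b⁻¹ = k * v * k⁻¹ * (k * (v⁻¹ * b)) * k⁻¹ * b⁻¹ := by group
    _ = k * v * k⁻¹ * (v⁻¹ * b * k) * k⁻¹ * b⁻¹ := by rw [e]
    _ = k * v * k⁻¹ * v⁻¹ := by group

/-- An element of `K` whose image normalises that of `A ⊓ K` normalises `A`. -/
theorem mem_normalizer {k : X} (hk : k ∈ K)
    (himg : ∀ v (hv : v ∈ A ⊓ K), QuotientGroup.mk' (center ↥K) (⟨k, hk⟩ * ⟨v, hv.2⟩ * ⟨k, hk⟩⁻¹) ∈
      ((A ⊓ K).subgroupOf K).map (QuotientGroup.mk' (center ↥K))) : k ∈ normalizer (A : Set X) := by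
  refine mem_normalizer_fintype fun b hb => ?_
  obtain ⟨v, hv, hvb⟩ := c.exists_inner h hb
  obtain ⟨w, hw, hwe⟩ := himg v hv
  have hz := (mk_eq_iff _ _).1 hwe.symm
  have hkv : k * v * k⁻¹ ∈ A := by
    refine c.closed.2 v hv.1 k ?_
    have hzT : k * v * k⁻¹ * (w : X)⁻¹ ∈ (T : Subgroup X) := c.pCore_le (c.center_le h.1
      ⟨K.mul_mem (K.mul_mem (K.mul_mem hk hv.2) (K.inv_mem hk)) (K.inv_mem w.2), hz⟩)
    have := mul_mem hzT (c.le_sylow (mem_subgroupOf.1 hw).1)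
    rwa [inv_mul_cancel_right] at this
  have e := conj_eq hk hvb
  rw [mul_inv_eq_iff_eq_mul] at e
  show k * b * k⁻¹ ∈ A
  rw [e]
  exact mul_mem (mul_mem hkv (inv_mem hv.1)) hb

omit c h in
theorem conj_inf_mem {k v : X} (hk : k ∈ normalizer (A : Set X) ⊓ K) (hv : v ∈ A ⊓ K) :
    k * v * k⁻¹ ∈ A ⊓ K :=
  ⟨(mem_normalizer_iff.1 hk.1 v).1 hv.1, K.mul_mem (K.mul_mem hk.2 hv.2) (K.inv_mem hk.2)⟩

omit c h in
theorem image_mem_normalizer {k : X} (hk : k ∈ normalizer (A : Set X) ⊓ K) :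
    QuotientGroup.mk' (center ↥K) ⟨k, hk.2⟩ ∈
      normalizer ((((A ⊓ K).subgroupOf K).map (QuotientGroup.mk' (center ↥K)) :
        Subgroup (↥K ⧸ center ↥K)) : Set (↥K ⧸ center ↥K)) := by
  refine mem_normalizer_fintype ?_
  rintro _ ⟨v, hv, rfl⟩
  exact ⟨⟨k, hk.2⟩ * v * ⟨k, hk.2⟩⁻¹, conj_inf_mem hk hv, by rw [map_mul, map_mul, map_inv]⟩

/-- Translations are the elements centralising the image of `A ⊓ K`. -/
theorem transl_iff {k : X} (hk : k ∈ normalizer (A : Set X) ⊓ K) :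
    (∀ b ∈ A, k * b * k⁻¹ * b⁻¹ ∈ centralizer (K : Set X)) ↔
      QuotientGroup.mk' (center ↥K) ⟨k, hk.2⟩ ∈
        centralizer ((((A ⊓ K).subgroupOf K).map (QuotientGroup.mk' (center ↥K)) :
          Subgroup (↥K ⧸ center ↥K)) : Set (↥K ⧸ center ↥K)) := by
  constructor
  · intro htr
    refine mem_centralizer_iff.2 ?_
    rintro _ ⟨v, hv, rfl⟩
    have e : QuotientGroup.mk' (center ↥K) (⟨k, hk.2⟩ * v * ⟨k, hk.2⟩⁻¹) = QuotientGroup.mk' (center ↥K) v :=
      (mk_eq_iff _ _).2 (htr v (mem_subgroupOf.1 hv).1)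
    rw [map_mul, map_mul, map_inv, mul_inv_eq_iff_eq_mul] at e
    exact e.symm
  · intro hc b hb
    obtain ⟨v, hv, hvb⟩ := c.exists_inner h hb
    rw [conj_eq hk.2 hvb]
    refine (mk_eq_iff (⟨k, hk.2⟩ * ⟨v, hv.2⟩ * ⟨k, hk.2⟩⁻¹) ⟨v, hv.2⟩).1 ?_
    rw [map_mul, map_mul, map_inv, mul_inv_eq_iff_eq_mul]
    exact ((mem_centralizer_iff.1 hc) _ (mem_map_of_mem _ (mem_subgroupOf.2 hv))).symm

/-- The induced group has odd order. -/
theorem exists_odd_transl {k : X} (hk : k ∈ normalizer (A : Set X) ⊓ K) :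
    ∃ n : ℕ, Odd n ∧ ∀ b ∈ A, k ^ n * b * (k ^ n)⁻¹ * b⁻¹ ∈ centralizer (K : Set X) := by
  haveI : Fact (Nat.Prime 2) := ⟨Nat.prime_two⟩
  obtain ⟨P, hg, hB, -⟩ := c.exists_quot h
  set B := ((A ⊓ K).subgroupOf K).map (QuotientGroup.mk' (center ↥K)) with hBd
  set C := centralizer (B : Set (↥K ⧸ center ↥K))
  haveI : (C.subgroupOf (normalizer (B : Set (↥K ⧸ center ↥K)))).Normal :=
    (normal_subgroupOf_iff_le_normalizer (centralizer_le_normalizer _)).2
      (CfsgLib.Components.normalizer_le_normalizer_centralizer' B)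
  refine ⟨C.relIndex (normalizer (B : Set (↥K ⧸ center ↥K))), ?_, (c.transl_iff h (pow_mem hk _)).2 ?_⟩
  · refine Nat.not_even_iff_odd.1 fun he => ?_
    have hPC : (P : Subgroup (↥K ⧸ center ↥K)) ≤ C := fun x hx =>
      mem_centralizer_iff.2 fun b hb => (hg.central P B hB b hb x hx).symm
    exact P.not_dvd_index ((even_iff_two_dvd.1 he).trans
      ((relIndex_dvd_index_of_le (centralizer_le_normalizer _)).trans (index_dvd_of_le hPC)))
  · have := (C.subgroupOf (normalizer (B : Set (↥K ⧸ center ↥K)))).pow_index_mem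
      ⟨_, image_mem_normalizer hk⟩
    rw [mem_subgroupOf, SubgroupClass.coe_pow, ← map_pow] at this
    exact this

/-- Transitivity modulo the kernel. -/
theorem exists_trans {b b' : X} (hb : b ∈ A) (hb' : b' ∈ A) (hbc : b ∉ centralizer (K : Set X))
    (hbc' : b' ∉ centralizer (K : Set X)) :
    ∃ k ∈ normalizer (A : Set X) ⊓ K, k * b * k⁻¹ * b'⁻¹ ∈ centralizer (K : Set X) := by
  obtain ⟨P, hg, hB, -⟩ := c.exists_quot h
  obtain ⟨v, hv, hvb⟩ := c.exists_inner h hb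
  obtain ⟨v', hv', hvb'⟩ := c.exists_inner h hb'
  set π := QuotientGroup.mk' (center ↥K) with hπ
  have hne : ∀ {w x : X} (hw : w ∈ A ⊓ K), w⁻¹ * x ∈ centralizer (K : Set X) →
      x ∉ centralizer (K : Set X) → π ⟨w, hw.2⟩ ≠ 1 := by
    intro w x hw hwx hx e
    rw [← map_one π] at e
    have := (mk_eq_iff _ _).1 e
    rw [Subgroup.coe_one, inv_one, mul_one] at this
    exact hx (by simpa using mul_mem this hwx)
  obtain ⟨H, -, -, hHN, htr, -⟩ := hg.torus P _ hB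
  obtain ⟨q, hq, hqv⟩ := htr _ (mem_map_of_mem π (mem_subgroupOf.2 hv : (⟨v, hv.2⟩ : ↥K) ∈ _)) (hne hv hvb hbc)
    _ (mem_map_of_mem π (mem_subgroupOf.2 hv' : (⟨v', hv'.2⟩ : ↥K) ∈ _)) (hne hv' hvb' hbc')
  obtain ⟨k, rfl⟩ := QuotientGroup.mk'_surjective (center ↥K) q
  have hkN : (k : X) ∈ normalizer (A : Set X) := c.mem_normalizer h k.2 fun w hw => by
    rw [map_mul, map_mul, map_inv]
    exact (mem_normalizer_iff.1 (hHN hq) _).1 (mem_map_of_mem π (mem_subgroupOf.2 hw))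
  refine ⟨k, ⟨hkN, k.2⟩, ?_⟩
  rw [← map_inv, ← map_mul, ← map_mul] at hqv
  have h1 : (k : X) * v * (k : X)⁻¹ * v'⁻¹ ∈ centralizer (K : Set X) := (mk_eq_iff _ _).1 hqv
  have h2 : (v'⁻¹ * b')⁻¹ ∈ centralizer (K : Set X) := inv_mem hvb'
  have e := conj_eq (k := (k : X)) k.2 hvb
  rw [mul_inv_eq_iff_eq_mul] at e
  have hcm : (v' : X)⁻¹ * (v⁻¹ * b * b'⁻¹) = v⁻¹ * b * b'⁻¹ * v'⁻¹ :=
    c.comm _ (inv_mem hv'.1) _ (mul_mem (mul_mem (inv_mem hv.1) hb) (inv_mem hb'))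
  have : (k : X) * b * (k : X)⁻¹ * b'⁻¹ =
      (k : X) * v * (k : X)⁻¹ * v'⁻¹ * (v⁻¹ * b) * (v'⁻¹ * b')⁻¹ := by
    rw [e, show (k : X) * v * (k : X)⁻¹ * v'⁻¹ * (v⁻¹ * b) * (v'⁻¹ * b')⁻¹ =
      (k : X) * v * (k : X)⁻¹ * (v'⁻¹ * (v⁻¹ * b * b'⁻¹)) * v' by group, hcm]
    group
  rw [this]
  exact mul_mem (mul_mem h1 hvb) h2

omit [Finite X] in
theorem mem_inf_centralizer {x : X} (hx : x ∈ A) (hxc : x ∈ centralizer (K : Set X)) :
    x ∈ A ⊓ centralizer (K : Set X) := ⟨hx, hxc⟩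

/-- The kernel has index at least the order of the image. -/
theorem card_image_le :
    Nat.card (((A ⊓ K).subgroupOf K).map (QuotientGroup.mk' (center ↥K))) ≤
      (A ⊓ centralizer (K : Set X)).relIndex A := by
  refine le_trans (le_of_eq ?_) (relIndex_le_of_le_right (inf_le_left : A ⊓ K ≤ A) (FiniteIndex.index_ne_zero))
  let f : ↥(A ⊓ K) →* ↥K ⧸ center ↥K :=
    (QuotientGroup.mk' (center ↥K)).comp (inclusion (inf_le_right : A ⊓ K ≤ K))
  have hr : f.range = ((A ⊓ K).subgroupOf K).map (QuotientGroup.mk' (center ↥K)) := by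
    ext q
    constructor
    · rintro ⟨x, rfl⟩
      exact mem_map_of_mem _ (mem_subgroupOf.2 x.2)
    · rintro ⟨x, hx, rfl⟩
      exact ⟨⟨x, hx⟩, rfl⟩
  rw [← hr, ← index_ker]
  refine congrArg Subgroup.index ?_
  ext x
  rw [MonoidHom.mem_ker, mem_subgroupOf, mem_inf, ← map_one (QuotientGroup.mk' (center ↥K))]
  show QuotientGroup.mk' (center ↥K) (inclusion inf_le_right x) = _ ↔ _
  rw [mk_eq_iff, Subgroup.coe_one, inv_one, mul_one]
  exact ⟨fun hx => ⟨x.2.1, hx⟩, fun hx => hx.2⟩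

theorem four_le_relIndex : 4 ≤ (A ⊓ centralizer (K : Set X)).relIndex A := by
  obtain ⟨P, hg, hB, -⟩ := c.exists_quot h
  exact (hg.four P _ hB).trans (c.card_image_le h)

omit h in
/-- An element of `K` inducing a translation squares into the centralizer of `A`. -/
theorem sq_mem_centralizer {k : X} (hk : k ∈ normalizer (A : Set X) ⊓ K)
    (htr : ∀ b ∈ A, k * b * k⁻¹ * b⁻¹ ∈ centralizer (K : Set X)) :
    k * k ∈ centralizer (A : Set X) := by
  refine mem_centralizer_iff.2 fun b hb => ?_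
  set z := k * b * k⁻¹ * b⁻¹ with hz
  have hzA : z ∈ A := mul_mem ((mem_normalizer_iff.1 hk.1 b).1 hb) (inv_mem hb)
  have hkz : k * z * k⁻¹ = z := by rw [mem_centralizer_iff.1 (htr b hb) k hk.2, mul_inv_cancel_right]
  have e : k * k * b * (k * k)⁻¹ = b := by
    rw [show k * k * b * (k * k)⁻¹ = (k * z * k⁻¹) * (k * b * k⁻¹) by rw [hz]; group, hkz,
      show k * b * k⁻¹ = z * b by rw [hz]; group, ← mul_assoc, c.sq z hzA, one_mul]
  exact (mul_inv_eq_iff_eq_mul.1 e).symm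

/-- A translation, up to odd powers and conjugation, comes from the Sylow subgroup. -/
theorem exists_sylow_transl {k : X} (hk : k ∈ normalizer (A : Set X) ⊓ K)
    (htr : ∀ b ∈ A, k * b * k⁻¹ * b⁻¹ ∈ centralizer (K : Set X)) :
    ∃ g ∈ normalizer (A : Set X) ⊓ K, ∃ m, Odd m ∧ g * k ^ m * g⁻¹ ∈ (T : Subgroup X) := by
  haveI : Fact (Nat.Prime 2) := ⟨Nat.prime_two⟩
  obtain ⟨P, hg, hB, hmem⟩ := c.exists_quot h
  set π := QuotientGroup.mk' (center ↥K) with hπ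
  set B := ((A ⊓ K).subgroupOf K).map π with hBd
  have hPC : (P : Subgroup (↥K ⧸ center ↥K)) ≤ centralizer (B : Set (↥K ⧸ center ↥K)) := fun x hx =>
    mem_centralizer_iff.2 fun b hb => (hg.central P B hB b hb x hx).symm
  have hq : π ⟨k, hk.2⟩ ∈ centralizer (B : Set (↥K ⧸ center ↥K)) := (c.transl_iff h hk).1 htr
  obtain ⟨e, m, hm, hkm⟩ := Nat.exists_eq_pow_mul_and_not_dvd (orderOf_pos k).ne' 2 (by norm_num)
  set q : ↥(centralizer (B : Set (↥K ⧸ center ↥K))) := ⟨π ⟨k, hk.2⟩, hq⟩ ^ m with hqd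
  have hp : IsPGroup 2 (zpowers q) := by
    obtain ⟨j, -, hj⟩ := (Nat.dvd_prime_pow Nat.prime_two).1 (show orderOf q ∣ 2 ^ e by
      refine orderOf_dvd_of_pow_eq_one (Subtype.ext ?_)
      rw [hqd, ← pow_mul, mul_comm, ← hkm, SubgroupClass.coe_pow, ← map_pow,
        show (⟨k, hk.2⟩ : ↥K) ^ orderOf k = 1 from Subtype.ext (pow_orderOf_eq_one k), map_one]
      rfl)
    exact IsPGroup.of_card (n := j) (by rw [Nat.card_zpowers, hj])
  obtain ⟨R, hR⟩ := hp.exists_le_sylow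
  obtain ⟨x, hx⟩ := MulAction.exists_smul_eq (↥(centralizer (B : Set (↥K ⧸ center ↥K)))) R (P.subtype hPC)
  have hxq : x * q * x⁻¹ ∈ (P.subtype hPC : Subgroup ↥(centralizer (B : Set (↥K ⧸ center ↥K)))) := by
    rw [← hx, Sylow.coe_subgroup_smul]
    exact ⟨q, hR (mem_zpowers q), rfl⟩
  obtain ⟨g, hgx⟩ := QuotientGroup.mk'_surjective (center ↥K) (x : ↥K ⧸ center ↥K)
  have hgN : (g : X) ∈ normalizer (A : Set X) := c.mem_normalizer h g.2 fun w hw => by
    rw [map_mul, map_mul, map_inv, hgx, ← (mem_centralizer_iff.1 x.2) _ (mem_map_of_mem π (mem_subgroupOf.2 hw)),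
      mul_inv_cancel_right]
    exact mem_map_of_mem π (mem_subgroupOf.2 hw)
  refine ⟨g, ⟨hgN, g.2⟩, m, Nat.not_even_iff_odd.1 fun he => hm (even_iff_two_dvd.1 he), ?_⟩
  refine (hmem (g * ⟨k, hk.2⟩ ^ m * g⁻¹)).1 ?_
  rw [map_mul, map_mul, map_inv, map_pow, hgx]
  have h1 : ((x * q * x⁻¹ : ↥(centralizer (B : Set (↥K ⧸ center ↥K)))) : ↥K ⧸ center ↥K) ∈
      (P : Subgroup (↥K ⧸ center ↥K)) := hxq
  rwa [hqd, Subgroup.coe_mul, Subgroup.coe_mul, Subgroup.coe_inv, SubgroupClass.coe_pow] at h1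

omit h in
/-- An odd power of a translation acts as the translation. -/
theorem commute_of_pow {k : X} (hk : k ∈ normalizer (A : Set X) ⊓ K)
    (htr : ∀ b ∈ A, k * b * k⁻¹ * b⁻¹ ∈ centralizer (K : Set X)) {m : ℕ} (hm : Odd m) {b : X} (hb : b ∈ A)
    (hc : Commute (k ^ m) b) : Commute k b := by
  obtain ⟨i, rfl⟩ := hm
  have h2 : Commute (k ^ (2 * i)) b := by
    rw [pow_mul, pow_two]
    exact Commute.pow_left (show Commute (k * k) b from
      (mem_centralizer_iff.1 (c.sq_mem_centralizer hk htr) b hb).symm) i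
  have e : k = (k ^ (2 * i))⁻¹ * k ^ (2 * i + 1) := by rw [pow_succ, inv_mul_cancel_left]
  rw [e]
  exact h2.inv_left.mul_left hc

/-- A translation fixes an element outside the kernel. -/
theorem exists_fixed {k : X} (hk : k ∈ normalizer (A : Set X) ⊓ K)
    (htr : ∀ b ∈ A, k * b * k⁻¹ * b⁻¹ ∈ centralizer (K : Set X)) :
    ∃ b ∈ A, b ∉ centralizer (K : Set X) ∧ k * b * k⁻¹ = b := by
  haveI : Fact (Nat.Prime 2) := ⟨Nat.prime_two⟩
  obtain ⟨g, hg, m, hm, hgk⟩ := c.exists_sylow_transl h hk htr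
  obtain ⟨P, hgl, hB, hmem⟩ := c.exists_quot h
  set π := QuotientGroup.mk' (center ↥K) with hπ
  set B := ((A ⊓ K).subgroupOf K).map π with hBd
  set s := g * k ^ m * g⁻¹ with hs
  have hsK : s ∈ K := K.mul_mem (K.mul_mem hg.2 (pow_mem hk.2 m)) (K.inv_mem hg.2)
  have hqP : π ⟨s, hsK⟩ ∈ (P : Subgroup (↥K ⧸ center ↥K)) := (hmem _).2 hgk
  suffices hgoal : ∃ v ∈ A ⊓ K, v ∉ centralizer (K : Set X) ∧ Commute s v by
    obtain ⟨v, hv, hvc, hsv⟩ := hgoal
    have hbA : g⁻¹ * v * g ∈ A := by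
      have := (mem_normalizer_iff.1 (inv_mem hg.1) v).1 hv.1
      rwa [inv_inv] at this
    refine ⟨_, hbA, fun hb => hvc ?_, ?_⟩
    · have e : g * (g⁻¹ * v * g) * g⁻¹ = g⁻¹ * v * g := by
        rw [mem_centralizer_iff.1 hb g hg.2, mul_inv_cancel_right]
      rw [show v = g * (g⁻¹ * v * g) * g⁻¹ by group, e]; exact hb
    · refine mul_inv_eq_iff_eq_mul.2 (c.commute_of_pow hk htr hm hbA ?_).eq
      show k ^ m * (g⁻¹ * v * g) = g⁻¹ * v * g * k ^ m
      calc k ^ m * (g⁻¹ * v * g) = g⁻¹ * (s * v) * g := by rw [hs]; group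
        _ = g⁻¹ * (v * s) * g := by rw [hsv.eq]
        _ = _ := by rw [hs]; group
  have hBP : B ≤ (P : Subgroup (↥K ⧸ center ↥K)) := hB.closed.1
  -- the vector
  have hvec : ∀ w ∈ A ⊓ K, ∀ hwK : w ∈ K, π ⟨w, hwK⟩ ≠ 1 → w ∉ centralizer (K : Set X) := by
    intro w hw hwK hne hc
    refine hne ?_
    rw [← map_one π]
    exact (mk_eq_iff _ _).2 (by rw [Subgroup.coe_one, inv_one, mul_one]; exact hc)
  by_cases hsB : π ⟨s, hsK⟩ ∈ B
  · obtain ⟨w, hw, hwe⟩ := hsB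
    obtain ⟨_, ⟨v, hv, rfl⟩, hv1⟩ := (bot_or_exists_ne_one B).resolve_left hB.ne
    have hvA := mem_subgroupOf.1 hv
    refine ⟨v, hvA, hvec _ hvA v.2 hv1, ?_⟩
    have hz : s * (w : X)⁻¹ ∈ centralizer (K : Set X) := (mk_eq_iff ⟨s, hsK⟩ w).1 hwe.symm
    have h1 : Commute (s * (w : X)⁻¹) v := ((mem_centralizer_iff.1 hz v v.2).symm : _)
    have h2 : Commute (w : X) v := c.comm _ (mem_subgroupOf.1 hw).1 _ hvA.1
    simpa using h1.mul_left h2
  · obtain ⟨j, hj⟩ := IsPGroup.iff_orderOf.1 P.2 ⟨_, hqP⟩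
    rw [Subgroup.orderOf_mk] at hj
    rcases j with _ | j
    · exact absurd (orderOf_eq_one_iff.1 (hj.trans (pow_zero 2)) ▸ one_mem B) hsB
    have hq0 : orderOf (π ⟨s, hsK⟩ ^ 2 ^ j) = 2 := by
      rw [orderOf_pow_of_dvd (pow_ne_zero _ two_ne_zero) (hj ▸ pow_dvd_pow 2 j.le_succ), hj, pow_succ,
        Nat.mul_div_cancel_left _ (pow_pos two_pos j)]
    obtain ⟨v, hv, hve⟩ := hgl.involutions P B hB _ (pow_mem hqP _) hq0
    have hvA := mem_subgroupOf.1 hv
    refine ⟨v, hvA, hvec _ hvA v.2 ?_, ?_⟩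
    · show π v ≠ 1
      intro e
      rw [e] at hve
      rw [← hve, orderOf_one] at hq0
      exact absurd hq0 (by decide)
    rw [← map_pow] at hve
    have hz : (v : X) * ((⟨s, hsK⟩ ^ 2 ^ j : ↥K) : X)⁻¹ ∈ centralizer (K : Set X) := (mk_eq_iff v _).1 hve
    rw [SubgroupClass.coe_pow] at hz
    have h1 : Commute s ((v : X) * (s ^ 2 ^ j)⁻¹) := mem_centralizer_iff.1 hz s hsK
    have h2 : Commute s (s ^ 2 ^ j) := (Commute.refl s).pow_right _
    simpa using h1.mul_right h2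

/-- With translations the component has rank at least three. -/
theorem eight_le_relIndex {k : X} (hk : k ∈ normalizer (A : Set X) ⊓ K)
    (htr : ∀ b ∈ A, k * b * k⁻¹ * b⁻¹ ∈ centralizer (K : Set X)) (hne : k ∉ centralizer (A : Set X))
    (hsmall : ∀ (P : Sylow 2 (↥K ⧸ center ↥K)) (B : Subgroup (↥K ⧸ center ↥K)), ClosedElem P B →
      Nat.card B = 4 → IsMulCommutative (P : Subgroup (↥K ⧸ center ↥K)) ∨
        CfsgLib.CentralMeet.OddCover (↥K ⧸ center ↥K)) :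
    8 ≤ (A ⊓ centralizer (K : Set X)).relIndex A := by
  haveI : Fact (Nat.Prime 2) := ⟨Nat.prime_two⟩
  refine le_trans ?_ (c.card_image_le h)
  obtain ⟨P, hg, hB, hmem⟩ := c.exists_quot h
  set π := QuotientGroup.mk' (center ↥K) with hπ
  set B := ((A ⊓ K).subgroupOf K).map π with hBd
  have hBP : B ≤ (P : Subgroup (↥K ⧸ center ↥K)) := hB.closed.1
  have h4 := hg.four P B hB
  obtain ⟨j, hj⟩ := (P.2.to_le hBP).exists_card_eq
  rw [hj] at h4 ⊢
  rcases Nat.lt_or_ge j 3 with hj3 | hj3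
  swap
  · exact le_trans (by norm_num) (Nat.pow_le_pow_right two_pos hj3)
  exfalso
  have hj2 : j = 2 := by
    rcases j with _ | _ | j
    · norm_num at h4
    · norm_num at h4
    · omega
  subst hj2
  obtain ⟨b, hb, hbne⟩ : ∃ b ∈ A, k * b * k⁻¹ * b⁻¹ ≠ 1 := by
    by_contra hcon
    push Not at hcon
    exact hne (mem_centralizer_iff.2 fun b hb => by
      have := hcon b hb
      rw [mul_inv_eq_one, mul_inv_eq_iff_eq_mul] at this
      exact this.symm)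
  rcases hsmall P B hB (by rw [hj]; norm_num) with hcom | hcov
  · -- all translations are trivial
    refine hne (mem_centralizer_iff.2 fun b hb => ?_)
    obtain ⟨g, hgm, m, hm, hgk⟩ := c.exists_sylow_transl h hk htr
    set s := g * k ^ m * g⁻¹ with hs
    have hsK : s ∈ K := K.mul_mem (K.mul_mem hgm.2 (pow_mem hk.2 m)) (K.inv_mem hgm.2)
    have hsB : π ⟨s, hsK⟩ ∈ B := by
      have := (hmem ⟨s, hsK⟩).2 hgk
      rwa [← hg.abelian P B hB hcom] at this
    obtain ⟨w, hw, hwe⟩ := hsB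
    have hz : s * (w : X)⁻¹ ∈ centralizer (K : Set X) := (mk_eq_iff ⟨s, hsK⟩ w).1 hwe.symm
    refine (c.commute_of_pow hk htr hm hb ?_).eq.symm
    have hgb : g * b * g⁻¹ ∈ A := (mem_normalizer_iff.1 hgm.1 b).1 hb
    obtain ⟨v, hv, hvb⟩ := c.exists_inner h hgb
    have e := conj_eq hsK hvb
    have hsv : Commute s v := by
      have h1 : Commute (s * (w : X)⁻¹) v := ((mem_centralizer_iff.1 hz v hv.2).symm : _)
      simpa using h1.mul_left (c.comm _ (mem_subgroupOf.1 hw).1 _ hv.1 : Commute (w : X) v)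
    rw [hsv.eq, mul_inv_cancel_right, mul_inv_cancel, mul_inv_eq_one, mul_inv_eq_iff_eq_mul] at e
    show k ^ m * b = b * k ^ m
    calc k ^ m * b = g⁻¹ * (s * (g * b * g⁻¹)) * g := by rw [hs]; group
      _ = g⁻¹ * (g * b * g⁻¹ * s) * g := by rw [e]
      _ = _ := by rw [hs]; group
  · -- the centre is odd
    obtain ⟨v, hv, hvb⟩ := c.exists_inner h hb
    have e := conj_eq hk.2 hvb
    have hzK : k * b * k⁻¹ * b⁻¹ ∈ K := e ▸ K.mul_mem (conj_inf_mem hk hv).2 (K.inv_mem hv.2)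
    have hzA : k * b * k⁻¹ * b⁻¹ ∈ A := mul_mem ((mem_normalizer_iff.1 hk.1 b).1 hb) (inv_mem hb)
    haveI := h.1.2.1
    have hodd := hcov ↥K π inferInstance (QuotientGroup.mk'_surjective _)
      (by rw [hπ, QuotientGroup.ker_mk'])
    set z : ↥K := ⟨_, hzK⟩
    have hzker : z ∈ π.ker := by
      rw [hπ, QuotientGroup.ker_mk', mem_center_iff]
      exact fun x => Subtype.ext (mem_centralizer_iff.1 (htr b hb) x x.2)
    have hz2 : orderOf z = 2 := orderOf_eq_prime (by rw [pow_two]; exact Subtype.ext (c.sq _ hzA))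
      (fun e' => hbne (congrArg Subtype.val e'))
    exact Nat.not_even_iff_odd.2 (hodd.of_dvd_nat (hz2 ▸ orderOf_dvd_natCard _ hzker)) (by norm_num)

/-- Without translations the span of the commutators misses the centralizer of `K`. -/
theorem inf_eq_bot_of_no_transl
    (hno : ∀ k ∈ normalizer (A : Set X) ⊓ K, (∀ b ∈ A, k * b * k⁻¹ * b⁻¹ ∈ centralizer (K : Set X)) →
      k ∈ centralizer (A : Set X)) :
    ⁅A, normalizer (A : Set X) ⊓ K⁆ ⊓ centralizer (K : Set X) = ⊥ := by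
  classical
  haveI : Fact (Nat.Prime 2) := ⟨Nat.prime_two⟩
  set N := normalizer (A : Set X) ⊓ K with hN
  letI : CommGroup ↥A := { (inferInstance : Group ↥A) with mul_comm := fun a b => Subtype.ext (c.comm a a.2 b b.2) }
  let φ : ↥N →* MulAut ↥A := A.normalizerMonoidHom.comp (inclusion inf_le_left)
  have hφ : ∀ (n : ↥N) (a : ↥A), ((φ n a : ↥A) : X) = n * a * (n : X)⁻¹ := fun n a => rfl
  haveI := Fintype.ofFinite φ.range
  have hodd : Odd (Nat.card φ.range) := by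
    refine Nat.not_even_iff_odd.1 fun he => ?_
    obtain ⟨⟨σ, n, rfl⟩, hσ⟩ := exists_prime_orderOf_dvd_card' 2 (even_iff_two_dvd.1 he)
    rw [← Subgroup.orderOf_coe] at hσ
    obtain ⟨e, he', htr⟩ := c.exists_odd_transl h n.2
    have h1 : φ n ^ e = 1 := by
      rw [← map_pow]
      refine MulEquiv.ext fun a => Subtype.ext ?_
      rw [hφ, SubgroupClass.coe_pow, MulAut.one_apply]
      exact mul_inv_eq_iff_eq_mul.2 ((mem_centralizer_iff.1 (hno _ (pow_mem n.2 e) htr)) a a.2).symm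
    exact Nat.not_even_iff_odd.2 he' (even_iff_two_dvd.2 (hσ ▸ orderOf_dvd_of_pow_eq_one h1))
  let Nm : ↥A →* ↥A :=
    { toFun := fun a => ∏ σ : φ.range, (σ : MulAut ↥A) a
      map_one' := by simp
      map_mul' := fun a b => by simp [Finset.prod_mul_distrib] }
  have hinv : ∀ (n : ↥N) (a : ↥A), Nm (φ n a) = Nm a := fun n a =>
    Fintype.prod_equiv (Equiv.mulRight (⟨φ n, n, rfl⟩ : φ.range)) _ _ fun σ => rfl
  have hle : ⁅A, N⁆ ≤ Nm.ker.map A.subtype := by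
    refine commutator_le.2 fun a ha n hn => ?_
    refine ⟨⟨a, ha⟩ * (φ ⟨n, hn⟩ ⟨a, ha⟩)⁻¹, ?_, ?_⟩
    · show Nm _ = 1
      rw [map_mul, map_inv, hinv, mul_inv_cancel]
    · show a * (n * a * n⁻¹)⁻¹ = _
      rw [commutatorElement_def]; group
  refine (eq_bot_iff_forall _).2 fun x hx => ?_
  obtain ⟨a, ha, rfl⟩ := hle hx.1
  have hfix : ∀ σ : φ.range, (σ : MulAut ↥A) a = a := by
    rintro ⟨_, n, rfl⟩
    refine Subtype.ext ?_
    rw [hφ]
    exact mul_inv_eq_iff_eq_mul.2 (mem_centralizer_iff.1 hx.2 n n.2.2)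
  have h1 : a ^ Nat.card φ.range = 1 := by
    rw [← ha, Nat.card_eq_fintype_card]
    show _ = ∏ σ : φ.range, (σ : MulAut ↥A) a
    rw [Finset.prod_congr rfl fun σ _ => hfix σ, Finset.prod_const, Finset.card_univ]
  obtain ⟨i, hi⟩ := hodd
  rw [hi, pow_succ, pow_mul, pow_two, show a * a = 1 from Subtype.ext (c.sq a a.2), one_pow, one_mul] at h1
  rw [h1]
  rfl

end SecCtx

end CfsgLib.Invol.Goldschmidt
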