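import Cfsg.Agent.Lib.Invol.Goldschmidt.Sections.PairConj

/-!
Owner: helper14. `cover`, `homology` and the facts on the block groups.
-/

set_option autoImplicit false
set_option linter.style.haveILetI false

namespace CfsgLib.Invol.Goldschmidt

open Subgroup Cfsg
open CfsgLib.FTDep (coreCent)
open scoped commutatorElement

universe u

namespace SecCtx

variable {X : Type u} [Group X] [Finite X] {T : Sylow 2 X} {A : Subgroup X} (c : SecCtx T A) {K : Subgroup X}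
  (h : Moved A K)

include c h

/-- A semiregular transitive element. -/
theorem exists_torus {b b' : X} (hb : b ∈ A) (hb' : b' ∈ A) (hbc : b ∉ centralizer (K : Set X))
    (hbc' : b' ∉ centralizer (K : Set X)) :
    ∃ k ∈ normalizer (A : Set X) ⊓ K, k * b * k⁻¹ * b'⁻¹ ∈ centralizer (K : Set X) ∧
      ((∃ w ∈ A, w ∉ centralizer (K : Set X) ∧ k * w * k⁻¹ * w⁻¹ ∈ centralizer (K : Set X)) →
        ∀ w ∈ A, k * w * k⁻¹ * w⁻¹ ∈ centralizer (K : Set X)) := by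
  obtain ⟨P, hg, hB, -⟩ := c.exists_quot h
  obtain ⟨v, hv, hvb⟩ := c.exists_inner h hb
  obtain ⟨v', hv', hvb'⟩ := c.exists_inner h hb'
  set π := QuotientGroup.mk' (center ↥K) with hπ
  have hne : ∀ {w x : X} (hw : w ∈ A ⊓ K), w⁻¹ * x ∈ centralizer (K : Set X) →
      x ∉ centralizer (K : Set X) → π ⟨w, hw.2⟩ ≠ 1 := by
    intro w x hw hwx hx e
    rw [← map_one π] at e
    have := (mk_eq_iff _ _).1 e
    rw [Subgroup.coe_one, inv_one, mul_one] at this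
    exact hx (by simpa using mul_mem this hwx)
  obtain ⟨H, -, -, hHN, htr, hreg⟩ := hg.torus P _ hB
  obtain ⟨q, hq, hqv⟩ := htr _ (mem_map_of_mem π (mem_subgroupOf.2 hv : (⟨v, hv.2⟩ : ↥K) ∈ _)) (hne hv hvb hbc)
    _ (mem_map_of_mem π (mem_subgroupOf.2 hv' : (⟨v', hv'.2⟩ : ↥K) ∈ _)) (hne hv' hvb' hbc')
  obtain ⟨k, rfl⟩ := QuotientGroup.mk'_surjective (center ↥K) q
  have hkN : (k : X) ∈ normalizer (A : Set X) := c.mem_normalizer h k.2 fun w hw => by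
    rw [map_mul, map_mul, map_inv]
    exact (mem_normalizer_iff.1 (hHN hq) _).1 (mem_map_of_mem π (mem_subgroupOf.2 hw))
  refine ⟨k, ⟨hkN, k.2⟩, ?_, ?_⟩
  · rw [← map_inv, ← map_mul, ← map_mul] at hqv
    have h1 : (k : X) * v * (k : X)⁻¹ * v'⁻¹ ∈ centralizer (K : Set X) := (mk_eq_iff _ _).1 hqv
    have e := conj_eq (k := (k : X)) k.2 hvb
    rw [mul_inv_eq_iff_eq_mul] at e
    have hcm : (v' : X)⁻¹ * (v⁻¹ * b * b'⁻¹) = v⁻¹ * b * b'⁻¹ * v'⁻¹ :=
      c.comm _ (inv_mem hv'.1) _ (mul_mem (mul_mem (inv_mem hv.1) hb) (inv_mem hb'))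
    have : (k : X) * b * (k : X)⁻¹ * b'⁻¹ =
        (k : X) * v * (k : X)⁻¹ * v'⁻¹ * (v⁻¹ * b) * (v'⁻¹ * b')⁻¹ := by
      rw [e, show (k : X) * v * (k : X)⁻¹ * v'⁻¹ * (v⁻¹ * b) * (v'⁻¹ * b')⁻¹ =
        (k : X) * v * (k : X)⁻¹ * (v'⁻¹ * (v⁻¹ * b * b'⁻¹)) * v' by group, hcm]
      group
    rw [this]
    exact mul_mem (mul_mem h1 hvb) (inv_mem hvb')
  · rintro ⟨w, hw, hwc, hwk⟩ t ht
    obtain ⟨x, hx, hxw⟩ := c.exists_inner h hw
    obtain ⟨y, hy, hyt⟩ := c.exists_inner h ht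
    rw [conj_eq k.2 hxw] at hwk
    rw [conj_eq k.2 hyt]
    have hfix : π k * π ⟨x, hx.2⟩ * (π k)⁻¹ = π ⟨x, hx.2⟩ := by
      rw [← map_inv, ← map_mul, ← map_mul]
      exact (mk_eq_iff _ _).2 hwk
    have h2 := hreg _ hq _ (mem_map_of_mem π (mem_subgroupOf.2 hx : (⟨x, hx.2⟩ : ↥K) ∈ _)) (hne hx hxw hwc) hfix
      _ (mem_map_of_mem π (mem_subgroupOf.2 hy : (⟨y, hy.2⟩ : ↥K) ∈ _))
    rw [← map_inv, ← map_mul, ← map_mul] at h2
    exact (mk_eq_iff _ _).1 h2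

omit h in
/-- Frattini: the hull and the normalizer of `A` cover. -/
theorem hull_sup_normalizer : c.hull ⊔ normalizer (A : Set X) = ⊤ := by
  haveI : Fact (Nat.Prime 2) := ⟨Nat.prime_two⟩
  haveI := c.hull_normal
  obtain ⟨Q, hQ⟩ := CfsgLib.LocalEven.exists_sylow_inf T c.hull
  refine eq_top_iff.2 fun g _ => ?_
  have hg : g ∈ normalizer (((T : Subgroup X) ⊓ c.hull : Subgroup X) : Set X) ⊔ c.hull := by
    rw [← hQ, Sylow.normalizer_sup_eq_top Q]; exact mem_top g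
  refine (sup_le (le_trans ?_ le_sup_right) le_sup_left :
    normalizer (((T : Subgroup X) ⊓ c.hull : Subgroup X) : Set X) ⊔ c.hull ≤ _) hg
  intro n hn
  exact mem_normalizer_fintype fun x hx =>
    c.closed.2 x hx n ((mem_normalizer_iff.1 hn x).1 ⟨c.le_sylow hx, c.le_hull hx⟩).1

end SecCtx

namespace Point.Ctx

variable {G : Type u} [Group G] [Finite G] {S : Sylow 2 G} {A : Subgroup G} (c : Ctx S A)

include c

/-- `C(a)` is covered by its core, `N(A)` and the centralizers of the kernels at `a`. -/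
theorem cover {a : G} (ha : a ∈ A) (ha1 : a ≠ 1) {M : Subgroup G} (hO : coreCent ({a} : Set G) ≤ M)
    (hN : normalizer (A : Set G) ≤ M)
    (hC : ∀ V C : Subgroup G, Pair A a V C → centralizer (C : Set G) ≤ M) : Cq a ≤ M := by
  obtain ⟨T, sc⟩ := c.exists_secCtx ha ha1
  have hmono : ∀ {U : Subgroup G}, U ≤ M → img a U ≤ img a M := fun h => map_mono fun x hx => h hx
  have htop : img a M = ⊤ := by
    refine eq_top_iff.2 (sc.hull_sup_normalizer.ge.trans (sup_le (sup_le ?_ (sSup_le fun K hK => ?_)) ?_))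
    · exact inf_le_left.trans (hmono ((Subgroup.le_normalizer).trans hN))
    · refine le_trans ?_ (hmono (hC (Vk A a K) (Ck A a K) ⟨ha, ha1, K, hK, rfl, rfl⟩))
      rw [← c.centralizer_img (U := Ck A a K) inf_le_left ha, c.img_Ck ha]
      exact le_centralizer_iff.1 inf_le_right
    · rw [c.normalizer_img ha]
      exact hmono hN
  intro x hx
  obtain ⟨y, hy, hyM, e⟩ := mem_img.1 (htop.ge (mem_top (pr a ⟨x, hx⟩)))
  have h1 : y⁻¹ * x ∈ coreCent ({a} : Set G) := (mem_coreCent_iff (mul_mem (inv_mem hy) hx)).2 (by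
    rw [show (⟨y⁻¹ * x, mul_mem (inv_mem hy) hx⟩ : ↥(Cq a)) = ⟨y, hy⟩⁻¹ * ⟨x, hx⟩ from rfl, map_mul, map_inv, e,
      inv_mul_cancel])
  have := M.mul_mem hyM (hO h1)
  rwa [mul_inv_cancel_left] at this

variable {a : G} (ha : a ∈ A) (ha1 : a ≠ 1) {K : Subgroup (Quo a)} (hK : Moved (img a A) K)

include ha ha1 hK

theorem homology {b b' : G} (hb : b ∈ Vk A a K) (hb1 : b ≠ 1) (hb' : b' ∈ Vk A a K) (hb1' : b' ≠ 1) :
    ∃ x ∈ normalizer (A : Set G), cj x (Vk A a K) = Vk A a K ∧ (∀ d ∈ Ck A a K, x * d * x⁻¹ = d) ∧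
      x * b * x⁻¹ = b' ∧
      ((∃ v ∈ Vk A a K, v ≠ 1 ∧ x * v * x⁻¹ = v) → ∀ v ∈ Vk A a K, x * v * x⁻¹ = v) := by
  obtain ⟨T, sc⟩ := c.exists_secCtx ha ha1
  have hVA := c.Vk_le ha ha1 hK
  have hout : ∀ {v : G}, v ∈ Vk A a K → v ≠ 1 → (h : v ∈ Cq a) →
      pr a ⟨v, h⟩ ∉ centralizer (K : Set (Quo a)) := fun {v} hv hv1 h hvc => hv1 (by
    rw [← mem_bot, ← c.inf_eq_bot ha ha1 hK]
    exact ⟨hv, (c.mem_Ck ha).2 ⟨hVA hv, hvc⟩⟩)
  obtain ⟨k, hk, hkb, hreg⟩ := sc.exists_torus hK (c.mem_img_A ha (hVA hb)) (c.mem_img_A ha (hVA hb'))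
    (hout hb hb1 _) (hout hb' hb1' _)
  rw [← c.img_Dk ha K] at hk
  obtain ⟨x, hxC, hx, rfl⟩ := mem_img.1 hk
  have hxV : cj x (Vk A a K) = Vk A a K := by
    show (⁅A, Dk A a K⁆).map _ = _
    have hA' : A.map (MulAut.conj x).toMonoidHom = A := mem_normalizer_iff_map_conj_eq.1 hx.1
    have hD' : (Dk A a K).map (MulAut.conj x).toMonoidHom = Dk A a K :=
      mem_normalizer_iff_map_conj_eq.1 (Subgroup.le_normalizer hx)
    rw [map_commutator, hA', hD']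
    rfl
  have hmem : ∀ {v : G}, v ∈ Vk A a K → x * v * x⁻¹ ∈ Vk A a K := fun {v} hv => hxV.le ⟨v, hv, rfl⟩
  have heq : ∀ {v v' : G} (hv : v ∈ Vk A a K) (hv' : v' ∈ Vk A a K),
      pr a ⟨x, hxC⟩ * pr a ⟨v, c.le_cq ha (hVA hv)⟩ * (pr a ⟨x, hxC⟩)⁻¹ *
        (pr a ⟨v', c.le_cq ha (hVA hv')⟩)⁻¹ ∈ centralizer (K : Set (Quo a)) → x * v * x⁻¹ = v' := by
    intro v v' hv hv' hm
    rw [← map_inv, ← map_inv, ← map_mul, ← map_mul, ← map_mul] at hm
    have hV : x * v * x⁻¹ * v'⁻¹ ∈ Vk A a K := mul_mem (hmem hv) (inv_mem hv')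
    have : x * v * x⁻¹ * v'⁻¹ ∈ Vk A a K ⊓ Ck A a K := ⟨hV, (c.mem_Ck ha).2 ⟨hVA hV, hm⟩⟩
    rw [c.inf_eq_bot ha ha1 hK, mem_bot, mul_inv_eq_one] at this
    exact this
  refine ⟨x, hx.1, hxV, fun d hd => ?_, heq hb hb' hkb, ?_⟩
  · rw [← mem_centralizer_iff.1 (c.Dk_le_centralizer ha hx) d hd, mul_inv_cancel_right]
  · rintro ⟨v, hv, hv1, hxv⟩ w hw
    refine heq hw hw (hreg ⟨_, c.mem_img_A ha (hVA hv), hout hv hv1 _, ?_⟩ _ (c.mem_img_A ha (hVA hw)))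
    rw [← map_inv, ← map_inv, ← map_mul, ← map_mul, ← map_mul,
      show (⟨x, hxC⟩ * ⟨v, c.le_cq ha (hVA hv)⟩ * ⟨x, hxC⟩⁻¹ * ⟨v, c.le_cq ha (hVA hv)⟩⁻¹ : ↥(Cq a)) = 1 from
        Subtype.ext (by
          show x * v * x⁻¹ * v⁻¹ = 1
          rw [hxv, mul_inv_cancel]), map_one]
    exact one_mem _

/-- An element centralising the image of the kernel normalises the component. -/
theorem normalizes {g : Quo a} (hg : g ∈ centralizer (img a (Ck A a K) : Set (Quo a))) :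
    g ∈ normalizer (K : Set (Quo a)) := by
  obtain ⟨T, sc⟩ := c.exists_secCtx ha ha1
  refine mem_normalizer_iff_map_conj_eq.2 ?_
  by_contra hne
  set L := K.map (MulAut.conj g).toMonoidHom with hL
  have hLm : Moved (img a A) L := sc.moved_conj hK g
  have h1 : Ck A a K ≤ Ck A a L := fun x hx => by
    obtain ⟨hxA, hxK⟩ := (c.mem_Ck ha).1 hx
    refine (c.mem_Ck ha).2 ⟨hxA, mem_centralizer_iff.2 ?_⟩
    rintro _ ⟨k, hk, rfl⟩
    have h2 := mem_centralizer_iff.1 hg _ (mem_img.2 ⟨x, c.le_cq ha hxA, hx, rfl⟩)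
    have h3 := mem_centralizer_iff.1 hxK k hk
    show g * k * g⁻¹ * _ = _ * (g * k * g⁻¹)
    calc g * k * g⁻¹ * pr a ⟨x, c.le_cq ha hxA⟩
        = g * k * g⁻¹ * (pr a ⟨x, c.le_cq ha hxA⟩ * g) * g⁻¹ := by group
      _ = g * (k * pr a ⟨x, c.le_cq ha hxA⟩) * g⁻¹ := by rw [h2]; group
      _ = g * pr a ⟨x, c.le_cq ha hxA⟩ * k * g⁻¹ := by rw [h3]; group
      _ = _ := by rw [← h2]; group
  have h2 := c.sup_eq ha ha1 hK
  have h4 := c.four_le ha ha1 hLm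
  have hA : Vk A a K ⊔ Ck A a K ≤ Ck A a L := sup_le (c.Vk_le_Ck ha ha1 hK hLm.1 (Ne.symm hne)) h1
  rw [h2] at hA
  rw [relIndex_eq_one.2 hA] at h4
  omega

theorem img_Vk_le : img a (Vk A a K) ≤ K := by
  obtain ⟨T, sc⟩ := c.exists_secCtx ha ha1
  rintro _ ⟨⟨y, hy⟩, hyV, rfl⟩
  have hle : Vk A a K ≤ pre a K := commutator_le.2 fun b hb x hx => by
    obtain ⟨hxC, hxK⟩ := mem_pre.1 hx.2
    have hbC := c.le_cq ha hb
    refine mem_pre.2 ⟨mul_mem (mul_mem (mul_mem hbC hxC) (inv_mem hbC)) (inv_mem hxC), ?_⟩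
    show pr a (⟨b, hbC⟩ * ⟨x, hxC⟩ * ⟨b, hbC⟩⁻¹ * ⟨x, hxC⟩⁻¹) ∈ K
    rw [map_mul, map_mul, map_mul, map_inv, map_inv]
    exact K.mul_mem ((mem_normalizer_iff.1 (sc.le_normalizer hK.1 (c.mem_img_A ha hb)) _).1 hxK) (K.inv_mem hxK)
  exact (mem_pre.1 (hle hyV)).2

omit hK in
theorem centralizer_Ck_le : centralizer (Ck A a K : Set G) ≤ Cq a := fun x hx =>
  mem_centralizer_singleton_iff.2 (mem_centralizer_iff.1 hx a (c.mem_Ck_self ha K)).symm

theorem blockGroup_le : blockGroup (Vk A a K) (Ck A a K) ≤ pre a K := by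
  refine (closure_le _).2 ?_
  rintro _ ⟨g, hg, v, hv, rfl⟩
  have hgC := c.centralizer_Ck_le ha ha1 hg
  have hvC := c.le_cq ha (c.Vk_le ha ha1 hK hv)
  refine mem_pre.2 ⟨mul_mem (mul_mem hgC hvC) (inv_mem hgC), ?_⟩
  show pr a (⟨g, hgC⟩ * ⟨v, hvC⟩ * ⟨g, hgC⟩⁻¹) ∈ K
  rw [map_mul, map_mul, map_inv]
  have hn : pr a ⟨g, hgC⟩ ∈ normalizer (K : Set (Quo a)) := c.normalizes ha ha1 hK (by
    rw [c.centralizer_img (U := Ck A a K) inf_le_left ha]
    exact mem_img.2 ⟨g, hgC, hg, rfl⟩)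
  exact (mem_normalizer_iff.1 hn _).1 (c.img_Vk_le ha ha1 hK (mem_img.2 ⟨v, hvC, hv, rfl⟩))

omit hK in
theorem blockGroup_normalized :
    centralizer (Ck A a K : Set G) ≤ normalizer (blockGroup (Vk A a K) (Ck A a K) : Set G) := by
  intro g hg
  have key : ∀ g' ∈ centralizer (Ck A a K : Set G),
      blockGroup (Vk A a K) (Ck A a K) ≤ (blockGroup (Vk A a K) (Ck A a K)).comap (MulAut.conj g').toMonoidHom := by
    intro g' hg'
    refine (closure_le _).2 ?_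
    rintro _ ⟨y, hy, v, hv, rfl⟩
    exact subset_closure ⟨g' * y, mul_mem hg' hy, v, hv, by
      show g' * (y * v * y⁻¹) * g'⁻¹ = _; group⟩
  exact mem_normalizer_fintype fun x hx => key g hg hx

/-- The image of the block group is the component. -/
theorem img_blockGroup : img a (blockGroup (Vk A a K) (Ck A a K)) = K := by
  obtain ⟨T, sc⟩ := c.exists_secCtx ha ha1
  set B := img a (blockGroup (Vk A a K) (Ck A a K)) with hB
  have hBK : B ≤ K := by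
    rintro _ ⟨⟨x, hx⟩, hxB, rfl⟩
    exact (mem_pre.1 (c.blockGroup_le ha ha1 hK hxB)).2
  have hKn : ∀ k ∈ K, ∀ x ∈ B, k * x * k⁻¹ ∈ B := by
    intro k hk x hx
    have hk' : k ∈ centralizer (img a (Ck A a K) : Set (Quo a)) := by
      rw [c.img_Ck ha]; exact le_centralizer_iff.1 inf_le_right hk
    rw [c.centralizer_img (U := Ck A a K) inf_le_left ha] at hk'
    obtain ⟨g, hgC, hg, rfl⟩ := mem_img.1 hk'
    obtain ⟨y, hyC, hy, rfl⟩ := mem_img.1 hx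
    exact mem_img.2 ⟨g * y * g⁻¹, mul_mem (mul_mem hgC hyC) (inv_mem hgC),
      (mem_normalizer_iff.1 (c.blockGroup_normalized ha ha1 hg) y).1 hy,
      by rw [← map_inv, ← map_mul, ← map_mul]; rfl⟩
  haveI : (B.subgroupOf K).Normal := ⟨fun n hn g => hKn g g.2 n hn⟩
  rcases CfsgLib.Components.IsQuasisimple.subnormal_eq_top_or_le_center hK.1.2
    (Subgroup.Normal.isSubnormal inferInstance :
    (B.subgroupOf K).IsSubnormal) with h | h
  · exact le_antisymm hBK (subgroupOf_eq_top.1 h)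
  exfalso
  -- `V` is not central in the component
  have hle : Vk A a K ≤ Ck A a K := fun v hv => by
    have hvA := c.Vk_le ha ha1 hK hv
    have hvK := c.img_Vk_le ha ha1 hK (mem_img.2 ⟨v, c.le_cq ha hvA, hv, rfl⟩)
    have hvB : pr a ⟨v, c.le_cq ha hvA⟩ ∈ B := mem_img.2 ⟨v, _, subset_closure ⟨1, one_mem _, v, hv, by simp⟩, rfl⟩
    have := h (show (⟨_, hvK⟩ : ↥K) ∈ B.subgroupOf K from hvB)
    exact (c.mem_Ck ha).2 ⟨hvA, mem_centralizer_iff.2 fun k hk =>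
      congrArg Subtype.val (mem_center_iff.1 this ⟨k, hk⟩)⟩
  have h4 := c.four_le ha ha1 hK
  have h2 := c.sup_eq ha ha1 hK
  rw [sup_eq_right.2 hle] at h2
  rw [h2, relIndex_self] at h4
  omega

/-- The block group is perfect modulo the core of the centralizer of the kernel. -/
theorem perfect : blockGroup (Vk A a K) (Ck A a K) ≤
    ⁅blockGroup (Vk A a K) (Ck A a K), blockGroup (Vk A a K) (Ck A a K)⁆ ⊔
      coreCent (Ck A a K : Set G) := by
  set C := Ck A a K with hC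
  set E := blockGroup (Vk A a K) C with hE
  set Y := centralizer (C : Set G) with hY
  have hEY : E ≤ Y := (closure_le _).2 (by
    rintro _ ⟨g, hg, v, hv, rfl⟩
    refine mul_mem (mul_mem hg (mem_centralizer_iff.2 fun d hd => ?_)) (inv_mem hg)
    exact c.comm hd.1 (c.Vk_le ha ha1 hK hv))
  have hYE : Y ≤ normalizer (E : Set G) := c.blockGroup_normalized ha ha1
  have hYN : Y ≤ normalizer ((⁅E, E⁆ ⊔ coreCent (C : Set G) : Subgroup G) : Set G) := by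
    intro g hg
    have h1 := mem_normalizer_iff_map_conj_eq.1 (hYE hg)
    refine mem_normalizer_iff_map_conj_eq.2 ?_
    rw [Subgroup.map_sup, map_commutator, h1, mem_normalizer_iff_map_conj_eq.1 (CfsgLib.FTDep.coreCent_norm _ hg)]
  suffices hV : Vk A a K ≤ ⁅E, E⁆ ⊔ coreCent (C : Set G) by
    refine (closure_le _).2 ?_
    rintro _ ⟨g, hg, v, hv, rfl⟩
    exact (mem_normalizer_iff.1 (hYN hg) v).1 (hV hv)
  have hKK : img a ⁅E, E⁆ = K := by
    have h := c.img_blockGroup ha ha1 hK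
    have hEC : E ≤ Cq a := hEY.trans (c.centralizer_Ck_le ha ha1)
    have hcomm : (⁅E, E⁆).subgroupOf (Cq a) = ⁅E.subgroupOf (Cq a), E.subgroupOf (Cq a)⁆ := by
      refine map_injective (Cq a).subtype_injective ?_
      rw [map_commutator, map_subgroupOf_eq_of_le hEC, map_subgroupOf_eq_of_le]
      exact (commutator_le.2 fun x hx y hy =>
        mul_mem (mul_mem (mul_mem hx hy) (inv_mem hx)) (inv_mem hy)).trans hEC
    rw [img, hcomm, map_commutator, show (E.subgroupOf (Cq a)).map (pr a) = K from h]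
    exact CfsgLib.Components.IsComponent.commutator_eq_self hK.1
  refine commutator_le.2 fun b hb x hx => ?_
  have hxY : x ∈ Y := c.Dk_le_centralizer ha hx
  obtain ⟨hxC, hxK⟩ := mem_pre.1 hx.2
  obtain ⟨k, hkC, hk, e⟩ := mem_img.1 (hKK.ge hxK)
  have hkY : k ∈ Y := hEY ((commutator_le.2 fun u hu v hv =>
    mul_mem (mul_mem (mul_mem hu hv) (inv_mem hu)) (inv_mem hv) : ⁅E, E⁆ ≤ E) hk)
  -- `x = k o`
  set o := k⁻¹ * x with ho
  have hoO : o ∈ coreCent (C : Set G) := by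
    have hoa : o ∈ coreCent ({a} : Set G) := (mem_coreCent_iff (mul_mem (inv_mem hkC) hxC)).2 (by
      rw [show (⟨o, mul_mem (inv_mem hkC) hxC⟩ : ↥(Cq a)) = ⟨k, hkC⟩⁻¹ * ⟨x, hxC⟩ from rfl, map_mul, map_inv, e,
        inv_mul_cancel])
    refine CfsgLib.FTDep.mem_coreCent_of (mul_mem (inv_mem hkY) hxY)
      (Q := coreCent ({a} : Set G) ⊓ Y) inf_le_right ?_ ?_ (mem_inf.2 ⟨hoa, Y.mul_mem (Y.inv_mem hkY) hxY⟩)
    · exact (le_inf ((c.centralizer_Ck_le ha ha1).trans (CfsgLib.FTDep.coreCent_norm _))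
        Subgroup.le_normalizer).trans inf_normalizer_le_normalizer_inf
    · exact (CfsgLib.FTDep.coreCent_odd _).of_dvd_nat (card_dvd_of_le inf_le_left)
  have hbY : b ∈ Y := mem_centralizer_iff.2 fun d hd => c.comm hd.1 hb
  have e1 : ⁅b, x⁆ = (b * k * b⁻¹) * (b * o * b⁻¹) * o⁻¹ * k⁻¹ := by
    rw [commutatorElement_def, ho]; group
  rw [e1]
  have hbk : b * k * b⁻¹ ∈ ⁅E, E⁆ ⊔ coreCent (C : Set G) :=
    (mem_normalizer_iff.1 (hYN hbY) k).1 (mem_sup_left hk)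
  exact mul_mem (mul_mem (mul_mem hbk ((mem_normalizer_iff.1 (hYN hbY) o).1 (mem_sup_right hoO)))
    (inv_mem (mem_sup_right hoO))) (inv_mem (mem_sup_left hk))

/-- An element centralising `V` fixes the block group modulo the core. -/
theorem fix {g : G} (hgC : g ∈ Cq a) (hgV : g ∈ centralizer (Vk A a K : Set G)) :
    cj g (blockGroup (Vk A a K) (Ck A a K)) ≤
      blockGroup (Vk A a K) (Ck A a K) ⊔ coreCent ({a} : Set G) := by
  obtain ⟨T, sc⟩ := c.exists_secCtx ha ha1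
  have hgN : pr a ⟨g, hgC⟩ ∈ normalizer (K : Set (Quo a)) := by
    refine mem_normalizer_iff_map_conj_eq.2 ?_
    by_contra hne
    set L := K.map (MulAut.conj (pr a ⟨g, hgC⟩)).toMonoidHom with hL
    have hLc : Cfsg.IsComponent L := (sc.moved_conj hK _).1
    have hLK : L ≤ centralizer (K : Set (Quo a)) :=
      commutator_eq_bot_iff_le_centralizer.1 (CfsgLib.Components.components_commute hLc hK.1 hne)
    have hle : Vk A a K ≤ Ck A a K := fun v hv => by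
      have hvA := c.Vk_le ha ha1 hK hv
      refine (c.mem_Ck ha).2 ⟨hvA, hLK ⟨_, c.img_Vk_le ha ha1 hK (mem_img.2 ⟨v, c.le_cq ha hvA, hv, rfl⟩), ?_⟩⟩
      show pr a ⟨g, hgC⟩ * pr a ⟨v, _⟩ * (pr a ⟨g, hgC⟩)⁻¹ = _
      rw [← map_inv, ← map_mul, ← map_mul]
      refine congrArg (pr a) (Subtype.ext ?_)
      show g * v * g⁻¹ = v
      rw [← mem_centralizer_iff.1 hgV v hv, mul_inv_cancel_right]
    have h4 := c.four_le ha ha1 hK
    have h2 := c.sup_eq ha ha1 hK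
    rw [sup_eq_right.2 hle] at h2
    rw [h2, relIndex_self] at h4
    omega
  rintro _ ⟨x, hx, rfl⟩
  obtain ⟨hxC, hxK⟩ := mem_pre.1 (c.blockGroup_le ha ha1 hK hx)
  obtain ⟨y, hyC, hy, e⟩ := mem_img.1
    ((c.img_blockGroup ha ha1 hK).ge ((mem_normalizer_iff.1 hgN _).1 hxK))
  have hzC : y⁻¹ * (g * x * g⁻¹) ∈ Cq a := mul_mem (inv_mem hyC) (mul_mem (mul_mem hgC hxC) (inv_mem hgC))
  have hz : y⁻¹ * (g * x * g⁻¹) ∈ coreCent ({a} : Set G) := (mem_coreCent_iff hzC).2 (by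
    rw [show (⟨_, hzC⟩ : ↥(Cq a)) = ⟨y, hyC⟩⁻¹ * (⟨g, hgC⟩ * ⟨x, hxC⟩ * ⟨g, hgC⟩⁻¹) from rfl, map_mul, map_inv, e,
      map_mul, map_mul, map_inv, inv_mul_cancel])
  show g * x * g⁻¹ ∈ _
  have := mul_mem (mem_sup_left hy : y ∈ blockGroup (Vk A a K) (Ck A a K) ⊔ coreCent ({a} : Set G))
    (mem_sup_right hz)
  rwa [mul_inv_cancel_left] at this

/-- Two blocks commute modulo the core. -/
theorem commute {L : Subgroup (Quo a)} (hL : Moved (img a A) L) (hne : K ≠ L) :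
    ⁅blockGroup (Vk A a K) (Ck A a K), blockGroup (Vk A a L) (Ck A a L)⁆ ≤ coreCent ({a} : Set G) := by
  refine commutator_le.2 fun x hx y hy => ?_
  obtain ⟨hxC, hxK⟩ := mem_pre.1 (c.blockGroup_le ha ha1 hK hx)
  obtain ⟨hyC, hyL⟩ := mem_pre.1 (c.blockGroup_le ha ha1 hL hy)
  refine (mem_coreCent_iff (mul_mem (mul_mem (mul_mem hxC hyC) (inv_mem hxC)) (inv_mem hyC))).2 ?_
  show pr a (⟨x, hxC⟩ * ⟨y, hyC⟩ * ⟨x, hxC⟩⁻¹ * ⟨y, hyC⟩⁻¹) = 1
  rw [map_mul, map_mul, map_mul, map_inv, map_inv, ← mem_centralizer_iff.1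
    (commutator_eq_bot_iff_le_centralizer.1 (CfsgLib.Components.components_commute hK.1 hL.1 hne) hxK) _ hyL]
  group

end Point.Ctx

end CfsgLib.Invol.Goldschmidt
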