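import Cfsg.Agent.Lib.Invol.Goldschmidt.Sections.Point
import Cfsg.Agent.Lib.Components.LBalanceTwo

/-!
Owner: helper18. `L`-balance at the points of `A`.

* `exists_component_ge`: a 2-component of the centralizer of a 2-subgroup normalising every component, lying in
  the layer, lies in one component.
* `res`: the 2-component of `C(u)` above a component at `a`.
* `Ctx.pump`: a moved component at `a` is seen at every element of its kernel.
-/

set_option autoImplicit false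
set_option linter.style.haveILetI false

namespace CfsgLib.Invol.Goldschmidt.Point

open Subgroup Cfsg
open CfsgLib.FTDep (coreCent coreCent_odd coreCent_le coreCent_norm)
open CfsgLib.Signalizer
open CfsgLib.Components
open scoped commutatorElement

universe u

section layer

variable {X : Type u} [Group X] [Finite X]

/-- A 2-component of `C(Z)` in the layer lies in a component, if `Z` normalises the components. -/
theorem exists_component_ge {Z R : Subgroup X}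
    (hR : Cfsg.IsPComponentOf 2 R (centralizer (Z : Set X))) (hRE : R ≤ Cfsg.layer X)
    (hZ : ∀ L : Subgroup X, Cfsg.IsComponent L → Z ≤ normalizer (L : Set X)) :
    ∃ L : Subgroup X, Cfsg.IsComponent L ∧ R ≤ L := by
  haveI : Fact (Nat.Prime 2) := ⟨Nat.prime_two⟩
  by_contra hno
  push Not at hno
  set C := centralizer (Z : Set X) with hC
  have hall : ∀ L : Subgroup X, Cfsg.IsComponent L → R ≤ centralizer (L : Set X) := by
    intro L hL
    set CL := centralizer (L : Set X) with hCL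
    have hcom : ∀ {l c : X}, l ∈ L → c ∈ CL → Commute l c := fun hl hc => mem_centralizer_iff.1 hc _ hl
    have hE : Cfsg.layer X ≤ L ⊔ CL := layer_le_iff.2 fun K hK => by
      rcases eq_or_ne K L with rfl | hne
      · exact le_sup_left
      · exact (commutator_eq_bot_iff_le_centralizer.1 (components_commute hK hL hne)).trans le_sup_right
    have hLn : L ≤ normalizer (CL : Set X) :=
      Subgroup.le_normalizer.trans (normalizer_le_normalizer_centralizer' L)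
    have hdec : ∀ k ∈ R, ∃ l ∈ L, ∃ c ∈ CL, k = l * c ∧
        ∀ z ∈ Z, l⁻¹ * (z * l * z⁻¹) ∈ L ⊓ CL := by
      intro k hk
      obtain ⟨l, hl, c, hc, hkc⟩ := (CfsgLib.Core.mem_sup_iff_mul hLn).1 (hE (hRE hk))
      refine ⟨l, hl, c, hc, hkc, fun z hz => ?_⟩
      have hzL := hZ L hL hz
      have h1 : z * l * z⁻¹ ∈ L := (mem_normalizer_iff.1 hzL l).1 hl
      have h2 : z * c * z⁻¹ ∈ CL := (mem_normalizer_iff.1 (normalizer_le_normalizer_centralizer' L hzL) c).1 hc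
      have h3 : z * k * z⁻¹ = k := mul_inv_eq_iff_eq_mul.2 (mem_centralizer_iff.1 (hR.1 hk) z hz)
      have h4 : l⁻¹ * (z * l * z⁻¹) = c * (z * c * z⁻¹)⁻¹ := by
        rw [eq_mul_inv_iff_mul_eq, mul_assoc, inv_mul_eq_iff_eq_mul,
          show z * l * z⁻¹ * (z * c * z⁻¹) = z * (l * c) * z⁻¹ by group, ← hkc, h3]
      exact ⟨L.mul_mem (L.inv_mem hl) h1, h4 ▸ CL.mul_mem hc (CL.inv_mem h2)⟩
    set F := (L ⊓ C) ⊔ (CL ⊓ C) with hF
    have hRF : R ≤ F := by
      rw [← PCompOf.perfect hR]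
      refine commutator_le.2 fun k₁ hk₁ k₂ hk₂ => ?_
      obtain ⟨l₁, hl₁, c₁, hc₁, e₁, hz₁⟩ := hdec k₁ hk₁
      obtain ⟨l₂, hl₂, c₂, hc₂, e₂, hz₂⟩ := hdec k₂ hk₂
      have hl : ⁅l₁, l₂⁆ ∈ L ⊓ C := by
        refine ⟨L.mul_mem (L.mul_mem (L.mul_mem hl₁ hl₂) (L.inv_mem hl₁)) (L.inv_mem hl₂),
          mem_centralizer_iff.2 fun z hz => ?_⟩
        obtain ⟨u₁, hu₁, f₁⟩ : ∃ u ∈ L ⊓ CL, z * l₁ * z⁻¹ = l₁ * u := ⟨_, hz₁ z hz, by group⟩
        obtain ⟨u₂, hu₂, f₂⟩ : ∃ u ∈ L ⊓ CL, z * l₂ * z⁻¹ = l₂ * u := ⟨_, hz₂ z hz, by group⟩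
        have e : z * ⁅l₁, l₂⁆ * z⁻¹ = ⁅l₁, l₂⁆ := by
          have e0 : z * ⁅l₁, l₂⁆ * z⁻¹ = ⁅z * l₁ * z⁻¹, z * l₂ * z⁻¹⁆ := by
            simp only [commutatorElement_def]; group
          have p₁ : Commute u₁ (l₂ * u₂) := (hcom (L.mul_mem hl₂ hu₂.1) hu₁.2).symm
          have p₂ : Commute u₂ l₁⁻¹ := (hcom (L.inv_mem hl₁) hu₂.2).symm
          rw [e0, f₁, f₂, commutatorElement_def, commutatorElement_def, mul_inv_rev, mul_inv_rev]
          calc l₁ * u₁ * (l₂ * u₂) * (u₁⁻¹ * l₁⁻¹) * (u₂⁻¹ * l₂⁻¹)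
              = l₁ * (u₁ * (l₂ * u₂)) * u₁⁻¹ * l₁⁻¹ * u₂⁻¹ * l₂⁻¹ := by group
            _ = l₁ * l₂ * (u₂ * l₁⁻¹) * u₂⁻¹ * l₂⁻¹ := by rw [p₁.eq]; group
            _ = l₁ * l₂ * l₁⁻¹ * l₂⁻¹ := by rw [p₂.eq]; group
        exact (mul_inv_eq_iff_eq_mul.1 e)
      have hk : ⁅k₁, k₂⁆ = ⁅l₁, l₂⁆ * ⁅c₁, c₂⁆ := by
        have q₁ : (l₁ * c₁)⁻¹ = l₁⁻¹ * c₁⁻¹ := by rw [(hcom hl₁ hc₁).eq, mul_inv_rev]
        have q₂ : (l₂ * c₂)⁻¹ = l₂⁻¹ * c₂⁻¹ := by rw [(hcom hl₂ hc₂).eq, mul_inv_rev]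
        have q₃ : Commute c₁ l₂ := (hcom hl₂ hc₁).symm
        have q₄ : Commute (c₁ * c₂) l₁⁻¹ := (hcom (L.inv_mem hl₁) (CL.mul_mem hc₁ hc₂)).symm
        have q₅ : Commute (c₁ * c₂ * c₁⁻¹) l₂⁻¹ :=
          (hcom (L.inv_mem hl₂) (CL.mul_mem (CL.mul_mem hc₁ hc₂) (CL.inv_mem hc₁))).symm
        rw [e₁, e₂, commutatorElement_def, commutatorElement_def, commutatorElement_def, q₁, q₂]
        calc l₁ * c₁ * (l₂ * c₂) * (l₁⁻¹ * c₁⁻¹) * (l₂⁻¹ * c₂⁻¹)
            = l₁ * (c₁ * l₂) * c₂ * l₁⁻¹ * c₁⁻¹ * l₂⁻¹ * c₂⁻¹ := by group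
          _ = l₁ * l₂ * (c₁ * c₂ * l₁⁻¹) * c₁⁻¹ * l₂⁻¹ * c₂⁻¹ := by rw [q₃.eq]; group
          _ = l₁ * l₂ * l₁⁻¹ * (c₁ * c₂ * c₁⁻¹ * l₂⁻¹) * c₂⁻¹ := by rw [q₄.eq]; group
          _ = l₁ * l₂ * l₁⁻¹ * l₂⁻¹ * (c₁ * c₂ * c₁⁻¹ * c₂⁻¹) := by rw [q₅.eq]; group
      have hkC : ⁅k₁, k₂⁆ ∈ C :=
        C.mul_mem (C.mul_mem (C.mul_mem (hR.1 hk₁) (hR.1 hk₂)) (C.inv_mem (hR.1 hk₁))) (C.inv_mem (hR.1 hk₂))
      rw [hk] at hkC ⊢
      refine mul_mem (mem_sup_left hl) (mem_sup_right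
        ⟨CL.mul_mem (CL.mul_mem (CL.mul_mem hc₁ hc₂) (CL.inv_mem hc₁)) (CL.inv_mem hc₂), ?_⟩)
      have := C.mul_mem (C.inv_mem hl.2) hkC
      rwa [inv_mul_cancel_left] at this
    have hFC : F ≤ C := sup_le inf_le_right inf_le_right
    have hNM : L ⊓ C ≤ centralizer ((CL ⊓ C : Subgroup X) : Set X) := fun l hl =>
      mem_centralizer_iff.2 fun c hc => ((hcom hl.1 hc.1).eq).symm
    have hMN : CL ⊓ C ≤ centralizer ((L ⊓ C : Subgroup X) : Set X) := fun c hc =>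
      mem_centralizer_iff.2 fun l hl => (hcom hl.1 hc.1).eq
    haveI hNn : ((L ⊓ C).subgroupOf F).Normal := (normal_subgroupOf_iff_le_normalizer le_sup_left).2
      (sup_le Subgroup.le_normalizer (hMN.trans (centralizer_le_normalizer _)))
    haveI hMn : ((CL ⊓ C).subgroupOf F).Normal := (normal_subgroupOf_iff_le_normalizer le_sup_right).2
      (sup_le (hNM.trans (centralizer_le_normalizer _)) Subgroup.le_normalizer)
    have h' : Cfsg.IsPComponent 2 (R.subgroupOf F) := by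
      refine isPComponentOf_top.1 ?_
      have := PCompOf.subgroupOf (PCompOf.mono hR hRF hFC) hRF
      rwa [subgroupOf_self] at this
    set O := Cfsg.pPrimeCore 2 ↥F with hO
    haveI : O.Normal := pPrimeCore_normal 2
    set π := QuotientGroup.mk' O with hπ
    have hgen : pGen 2 (R.subgroupOf F) = R.subgroupOf F := pComponent_pGen_eq h'
    have hfin : ∀ W : Subgroup ↥F, W.Normal → (R.subgroupOf F).map π ≤ W.map π → R.subgroupOf F ≤ W := by
      intro W hW hle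
      haveI := hW
      have h1 : R.subgroupOf F ≤ W ⊔ O := by
        rw [map_le_iff_le_comap, comap_map_eq, QuotientGroup.ker_mk'] at hle
        exact hle
      exact hgen.ge.trans ((pGen_mono h1).trans (pGen_sup_le (pPrimeCore_coprime 2)))
    rcases component_le_or_commutes h'.2.1 (hNn.map π (QuotientGroup.mk'_surjective _)).isSubnormal with h | h
    · refine absurd ?_ (hno L hL)
      intro r hr
      exact ((hfin _ hNn h) (show (⟨r, hRF hr⟩ : ↥F) ∈ R.subgroupOf F from hr)).1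
    rcases component_le_or_commutes h'.2.1 (hMn.map π (QuotientGroup.mk'_surjective _)).isSubnormal with h₂ | h₂
    · intro r hr
      exact ((hfin _ hMn h₂) (show (⟨r, hRF hr⟩ : ↥F) ∈ R.subgroupOf F from hr)).1
    exfalso
    rw [commutator_eq_bot_iff_le_centralizer, le_centralizer_iff] at h h₂
    have htop : (⊤ : Subgroup (↥F ⧸ O)) ≤ centralizer (((R.subgroupOf F).map π : Subgroup (↥F ⧸ O)) : Set _) := by
      have hsup : ((L ⊓ C).subgroupOf F) ⊔ ((CL ⊓ C).subgroupOf F) = ⊤ := by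
        rw [← subgroupOf_sup le_sup_left le_sup_right]
        exact subgroupOf_self F
      rw [← map_top_of_surjective π (QuotientGroup.mk'_surjective _), ← hsup, Subgroup.map_sup]
      exact sup_le h h₂
    have hbot : (R.subgroupOf F).map π = ⊥ := by
      rw [← IsComponent.commutator_eq_self h'.2.1, commutator_eq_bot_iff_le_centralizer]
      exact le_top.trans htop
    refine IsComponent.not_isSolvable h'.2.1 ?_
    rw [show (R.subgroupOf F).map (QuotientGroup.mk' (Cfsg.pPrimeCore 2 ↥F)) = ⊥ from hbot]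
    exact Group.isSolvable_of_comm fun x y => Subsingleton.elim _ _
  refine PCompOf.ne_bot hR ?_
  rw [← PCompOf.perfect hR, commutator_eq_bot_iff_le_centralizer]
  intro r hr
  have : Cfsg.layer X ≤ centralizer ({r} : Set X) := layer_le_iff.2 fun K hK k hk =>
    mem_centralizer_singleton_iff.2 (mem_centralizer_iff.1 (hall K hK hr) k hk)
  exact mem_centralizer_iff.2 fun y hy => mem_centralizer_singleton_iff.1 (this (hRE hy))

end layer

variable {G : Type u} [Group G]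

/-- The 2-component of `C(u)` above a component at `a`. -/
def res (a u : G) (K : Subgroup (Quo a)) : Subgroup G := pGen 2 (Cq u ⊓ pre a K)

theorem res_le (a u : G) (K : Subgroup (Quo a)) : res a u K ≤ Cq u ⊓ pre a K := pGen_le _

variable [Finite G]

theorem pre_conj {a g : G} {K : Subgroup (Quo a)} (hg : g ∈ Cq a)
    (hgK : pr a ⟨g, hg⟩ ∈ normalizer (K : Set (Quo a))) : g ∈ normalizer (pre a K : Set G) := by
  refine mem_normalizer_fintype fun x hx => ?_
  obtain ⟨hxC, hxK⟩ := mem_pre.1 hx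
  refine mem_pre.2 ⟨mul_mem (mul_mem hg hxC) (inv_mem hg), ?_⟩
  have := (mem_normalizer_iff.1 hgK _).1 hxK
  rwa [← map_inv, ← map_mul, ← map_mul] at this

namespace Ctx

variable {S : Sylow 2 G} {A : Subgroup G} (c : Ctx S A)

include c

/-- The image of `res` is the component. -/
theorem img_res {a u : G} (ha : a ∈ A) {K : Subgroup (Quo a)} (hK : Moved (img a A) K)
    (hu : u ∈ Ck A a K) : img a (Cq u ⊓ pre a K) = K ∧ img a (res a u K) = K := by
  haveI : Fact (Nat.Prime 2) := ⟨Nat.prime_two⟩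
  have h1 : img a (Cq u ⊓ pre a K) = K := by
    refine le_antisymm ?_ fun q hq => ?_
    · intro q hq
      obtain ⟨x, hx, hxQ, rfl⟩ := mem_img.1 hq
      exact (mem_pre.1 hxQ.2).2
    have hle : img a (zpowers u) ≤ centralizer (K : Set (Quo a)) := by
      intro w hw
      obtain ⟨x, hx, hxu, rfl⟩ := mem_img.1 hw
      exact (mem_pre.1 (zpowers_le.2 hu hxu).2).2
    have h2 : q ∈ centralizer (img a (zpowers u) : Set (Quo a)) :=
      mem_centralizer_iff.2 fun w hw => (mem_centralizer_iff.1 (hle hw) q hq).symm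
    rw [c.centralizer_img (zpowers_le.2 hu.1) ha] at h2
    obtain ⟨x, hx, hxc, rfl⟩ := mem_img.1 h2
    exact mem_img.2 ⟨x, hx, ⟨mem_centralizer_singleton_iff.2
      (mem_centralizer_iff.1 hxc u (mem_zpowers u)).symm, mem_pre.2 ⟨hx, hq⟩⟩, rfl⟩
  refine ⟨h1, ?_⟩
  have hQ : Cq u ⊓ pre a K ≤ Cq a := inf_le_right.trans (pre_le a K)
  have h2 : (res a u K).subgroupOf (Cq a) = pGen 2 ((Cq u ⊓ pre a K).subgroupOf (Cq a)) := by
    refine map_injective (Cq a).subtype_injective ?_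
    rw [map_subgroupOf_eq_of_le ((res_le a u K).trans hQ), pGen_subgroupOf hQ]
    rfl
  show ((res a u K).subgroupOf (Cq a)).map (pr a) = K
  rw [h2, map_pGen]
  show pGen 2 (img a (Cq u ⊓ pre a K)) = K
  rw [h1]
  exact pGen_component (c.quo_core a) hK.1

/-- `res` is a 2-component of `C(a) ∩ C(u)`. -/
theorem res_component {a u : G} (ha : a ∈ A) {K : Subgroup (Quo a)} (hK : Moved (img a A) K)
    (hu : u ∈ Ck A a K) : Cfsg.IsPComponentOf 2 (res a u K) (Cq u ⊓ Cq a) := by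
  haveI : Fact (Nat.Prime 2) := ⟨Nat.prime_two⟩
  obtain ⟨-, himg⟩ := c.img_res ha hK hu
  set Q := Cq u ⊓ pre a K with hQ
  have hQH : Q ≤ Cq u ⊓ Cq a := le_inf inf_le_left (inf_le_right.trans (pre_le a K))
  have hle : res a u K ≤ Cq u ⊓ Cq a := (res_le a u K).trans hQH
  have hQsn : (Q.subgroupOf (Cq u ⊓ Cq a)).IsSubnormal := by
    have h1 : ((pre a K).subgroupOf (Cq a)).IsSubnormal := by
      have : (pre a K).subgroupOf (Cq a) = K.comap (pr a) :=
        comap_map_eq_self_of_injective (Cq a).subtype_injective _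
      rw [this]
      exact hK.1.1.comap _
    have h2 := subnormal_subgroupOf_mono (inf_le_right : Cq u ⊓ Cq a ≤ Cq a) h1
    have h3 : Q.subgroupOf (Cq u ⊓ Cq a) = (pre a K).subgroupOf (Cq u ⊓ Cq a) := by
      ext x
      exact ⟨fun h => h.2, fun h => ⟨x.2.1, h⟩⟩
    rwa [h3]
  refine isPComponentOf_iff.2 ⟨hle, subnormal_subgroupOf_trans (pGen_le Q) hQH
    ((normal_subgroupOf_iff_le_normalizer (pGen_le Q)).2
      (Subgroup.le_normalizer.trans (normalizer_le_normalizer_pGen Q))).isSubnormal hQsn,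
    le_antisymm (pGen_le _) (pGen_le_iff.2 fun x hx k hk => mem_pGen (mem_pGen hx hk) hk), ?_⟩
  have hleA : res a u K ≤ Cq a := hle.trans inf_le_right
  rw [← isQuasisimple_quotient_core_congr (Subgroup.subgroupOfEquivOfLe hleA)]
  set f := (pr a).subgroupMap ((res a u K).subgroupOf (Cq a)) with hf
  have hfs : Function.Surjective f := (pr a).subgroupMap_surjective _
  have hmap : ((res a u K).subgroupOf (Cq a)).map (pr a) = K := himg
  have hsn : (((res a u K).subgroupOf (Cq a)).map (pr a)).IsSubnormal := by rw [hmap]; exact hK.1.1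
  have hqs : Cfsg.IsQuasisimple ↥(((res a u K).subgroupOf (Cq a)).map (pr a)) := by rw [hmap]; exact hK.1.2
  have hker : f.ker = Cfsg.pPrimeCore 2 ((res a u K).subgroupOf (Cq a)) := by
    refine le_antisymm ?_ ?_
    · rw [hf, Subgroup.ker_subgroupMap, QuotientGroup.ker_mk']
      exact Core.pPrimeCore_subgroupOf_le _
    · have h1 : Cfsg.pPrimeCore 2 (((res a u K).subgroupOf (Cq a)).map (pr a)) = ⊥ := by
        apply Subgroup.map_injective (Subgroup.subtype_injective _)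
        rw [pPrimeCore_subnormal 2 hsn, Core.pPrimeCore_quotient_pPrimeCore,
          bot_inf_eq, Subgroup.map_bot]
      rw [← Subgroup.map_eq_bot_iff, ← le_bot_iff, ← h1]
      exact Core.map_pPrimeCore_le f hfs
  exact IsQuasisimple.congr ((QuotientGroup.quotientKerEquivOfSurjective f hfs).symm.trans
    (QuotientGroup.quotientMulEquivOfEq hker)) hqs

/-- `A` normalises `res`. -/
theorem le_normalizer_res {a u : G} (ha : a ∈ A) (ha1 : a ≠ 1) {K : Subgroup (Quo a)}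
    (hK : Moved (img a A) K) (hu : u ∈ A) : A ≤ normalizer (res a u K : Set G) := by
  intro b hb
  obtain ⟨T, s⟩ := c.exists_secCtx ha ha1
  refine normalizer_le_normalizer_pGen _ (inf_normalizer_le_normalizer_inf ⟨Subgroup.le_normalizer (c.le_cq hu hb), ?_⟩)
  exact pre_conj (c.le_cq ha hb) (s.le_normalizer hK.1 (c.mem_img_A ha hb))

/-- `Dk` centralises the kernel. -/
theorem Dk_le_cq {a u : G} (ha : a ∈ A) {K : Subgroup (Quo a)} (hu : u ∈ Ck A a K) : Dk A a K ≤ Cq u := by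
  intro x hx
  obtain ⟨hxa, hxK⟩ := mem_pre.1 hx.2
  obtain ⟨huA, huK⟩ := (c.mem_Ck ha).1 hu
  have hxu : x * u * x⁻¹ ∈ A := (mem_normalizer_iff.1 hx.1 u).1 huA
  have e := c.pr_inj hxu huA (h₁ := c.le_cq ha hxu) (h₂ := c.le_cq ha huA) (by
    rw [c.pr_conj ha hxa huA, mem_centralizer_iff.1 huK _ hxK, mul_inv_cancel_right])
  exact mem_centralizer_singleton_iff.2 (mul_inv_eq_iff_eq_mul.1 e)

/-- **Pumping up**: a moved component at `a` is seen at every element of its kernel. -/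
theorem pump {a u : G} (ha : a ∈ A) (ha1 : a ≠ 1) {K : Subgroup (Quo a)} (hK : Moved (img a A) K)
    (hu : u ∈ Ck A a K) (hu1 : u ≠ 1) :
    ∃ L : Subgroup (Quo u), Moved (img u A) L ∧ Ck A u L ≤ Ck A a K ∧
      ∀ x ∈ Dk A a K, ∃ x' ∈ Dk A u L, ∀ b ∈ A, x * b * x⁻¹ = x' * b * x'⁻¹ := by
  haveI : Fact (Nat.Prime 2) := ⟨Nat.prime_two⟩
  obtain ⟨T, s⟩ := c.exists_secCtx ha ha1
  have huA : u ∈ A := hu.1
  obtain ⟨T', s'⟩ := c.exists_secCtx huA hu1
  obtain ⟨-, himg⟩ := c.img_res ha hK hu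
  have hres := c.res_component ha hK hu
  have hru : res a u K ≤ Cq u := hres.1.trans inf_le_left
  have hra : res a u K ≤ Cq a := hres.1.trans inf_le_right
  -- the image at `u` lies in a component
  set R := img u (res a u K) with hRd
  set Z := img u (zpowers a) with hZd
  have hZA : zpowers a ≤ A := zpowers_le.2 ha
  have hCZ : centralizer (Z : Set (Quo u)) = img u (Cq u ⊓ Cq a) := by
    rw [hZd, c.centralizer_img hZA huA]
    refine congrArg (Subgroup.map (pr u)) (Subgroup.ext fun x => ?_)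
    rw [mem_subgroupOf, mem_subgroupOf, mem_inf, mem_centralizer_iff]
    refine ⟨fun h => ⟨x.2, mem_centralizer_singleton_iff.2 (h a (mem_zpowers a)).symm⟩, fun h y hy => ?_⟩
    obtain ⟨i, rfl⟩ := mem_zpowers_iff.1 hy
    exact ((show Commute (x : G) a from mem_centralizer_singleton_iff.1 h.2).zpow_right i).eq.symm
  have hRsn : (R.subgroupOf (img u (Cq u ⊓ Cq a))).IsSubnormal := by
    refine subnormal_map_subgroupOf (pr u) (comap_mono hres.1) ?_
    exact (PCompOf.subgroupOf hres hru).2.1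
  have hne : R ≠ ⊥ := by
    intro e
    have h1 : res a u K ≤ coreCent ({u} : Set G) := fun x hx =>
      (mem_coreCent_iff (hru hx)).2 ((mem_bot (G := Quo u)).1 (e ▸ mem_img.2 ⟨x, hru hx, hx, rfl⟩))
    have h2 : pGen 2 (res a u K) = ⊥ :=
      pGen_bot_of_coprime (Nat.coprime_two_right.2 ((coreCent_odd _).of_dvd_nat (card_dvd_of_le h1)))
    rw [PCompOf.pGen_eq hres] at h2
    refine IsComponent.not_isSolvable hK.1 ?_
    have h3 : K = ⊥ := by
      rw [← himg, h2]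
      exact (congrArg (Subgroup.map (pr a)) (bot_subgroupOf (Cq a))).trans (Subgroup.map_bot _)
    rw [h3]
    exact Group.isSolvable_of_comm fun x y => Subsingleton.elim _ _
  have hRC : Cfsg.IsPComponentOf 2 R (centralizer (Z : Set (Quo u))) := by
    rw [hCZ]
    exact PCompOf.map (PCompOf.subgroupOf hres hru) (pr u) hne (map_mono (comap_mono hres.1)) hRsn
  have hZp : IsPGroup 2 Z :=
    ((c.isPGroup hZA).comap_of_injective (Cq u).subtype (Cq u).subtype_injective).map (pr u)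
  have hRE : R ≤ Cfsg.layer (Quo u) := pComponent_two_local_le_layer (c.quo_core u) hZp
    (PCompOf.trans_subnormal hRC (centralizer_le_normalizer _)
      ((normal_subgroupOf_iff_le_normalizer (centralizer_le_normalizer _)).2
        (normalizer_le_normalizer_centralizer' Z)).isSubnormal)
  obtain ⟨L, hL, hRL⟩ := exists_component_ge hRC hRE fun L hL =>
    le_trans (map_mono (comap_mono hZA)) (s'.le_normalizer hL)
  -- the kernel
  have hker : Ck A u L ≤ Ck A a K := by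
    intro f hf
    obtain ⟨hfA, hfL⟩ := (c.mem_Ck huA).1 hf
    refine (c.mem_Ck ha).2 ⟨hfA, ?_⟩
    set R₀ := img a (coreCent ({u} : Set G) ⊓ res a u K) with hR₀
    have hRK : R₀ ≤ K := (map_mono (comap_mono inf_le_right)).trans himg.le
    have hsol : Group.IsSolvable R₀ := Cfsg.Agent.S0205.result ((coreCent_odd ({u} : Set G)).of_dvd_nat (by
      refine (card_map_dvd _ _).trans ((card_comap_dvd_of_injective _ _ (Cq a).subtype_injective).trans
        (card_dvd_of_le inf_le_left))))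
    have hKn : K ≤ normalizer (R₀ : Set (Quo a)) := by
      intro q hq
      obtain ⟨k, hk, hkr, rfl⟩ := mem_img.1 (himg.ge hq)
      refine mem_normalizer_fintype ?_
      intro w hw
      obtain ⟨r, hr, hrR, rfl⟩ := mem_img.1 hw
      refine mem_img.2 ⟨k * r * k⁻¹, (Cq a).mul_mem ((Cq a).mul_mem hk hr) ((Cq a).inv_mem hk),
        ⟨(mem_normalizer_iff.1 (coreCent_norm _ (hru hkr)) r).1 hrR.1,
          (res a u K).mul_mem ((res a u K).mul_mem hkr hrR.2) ((res a u K).inv_mem hkr)⟩, ?_⟩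
      rw [← map_inv, ← map_mul, ← map_mul]; rfl
    have hR₀C : R₀ ≤ centralizer (K : Set (Quo a)) := commutator_eq_bot_iff_le_centralizer.1
      (commutator_comm R₀ K ▸ component_commutes_of_solvable_invariant hK.1 hsol hKn)
    refine centralizes_of_mod hK.1 fun q hq => ?_
    obtain ⟨k, hk, hkr, rfl⟩ := mem_img.1 (himg.ge hq)
    have hmem : f * k * f⁻¹ * k⁻¹ ∈ coreCent ({u} : Set G) ⊓ res a u K := by
      have hres' : f * k * f⁻¹ * k⁻¹ ∈ res a u K :=
        mul_mem ((mem_normalizer_iff.1 (c.le_normalizer_res ha ha1 hK huA hfA) k).1 hkr) (inv_mem hkr)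
      refine ⟨(mem_coreCent_iff (hru hres')).2 ?_, hres'⟩
      rw [show (⟨f * k * f⁻¹ * k⁻¹, hru hres'⟩ : ↥(Cq u)) =
        ⟨f, c.le_cq huA hfA⟩ * ⟨k, hru hkr⟩ * ⟨f, c.le_cq huA hfA⟩⁻¹ * ⟨k, hru hkr⟩⁻¹ from rfl,
        map_mul, map_mul, map_mul, map_inv, map_inv,
        ← mem_centralizer_iff.1 hfL _ (hRL (mem_img.2 ⟨k, hru hkr, hkr, rfl⟩)), mul_inv_cancel_right,
        mul_inv_cancel]
    have h1 : pr a ⟨f * k * f⁻¹ * k⁻¹, hra hmem.2⟩ ∈ R₀ := mem_img.2 ⟨_, _, hmem, rfl⟩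
    have h2 := And.intro (hRK h1) (hR₀C h1)
    rw [show (⟨f * k * f⁻¹ * k⁻¹, hra hmem.2⟩ : ↥(Cq a)) =
      ⟨f, c.le_cq ha hfA⟩ * ⟨k, hk⟩ * ⟨f, c.le_cq ha hfA⟩⁻¹ * ⟨k, hk⟩⁻¹ from rfl,
      map_mul, map_mul, map_mul, map_inv, map_inv] at h2
    exact h2
  refine ⟨L, ⟨hL, fun hAL => hK.2 ?_⟩, hker, ?_⟩
  · intro w hw
    obtain ⟨f, hf, hfA, rfl⟩ := mem_img.1 hw
    exact ((c.mem_Ck ha).1 (hker ((c.mem_Ck huA).2 ⟨hfA, hAL (c.mem_img_A huA hfA)⟩))).2
  -- the action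
  intro x hx
  obtain ⟨hxa, hxK⟩ := mem_pre.1 hx.2
  obtain ⟨k, hk, hkr, hkx⟩ := mem_img.1 (himg.ge hxK)
  set W := coreCent ({a} : Set G) ⊓ res a u K with hWd
  set Γ := Cq a ⊓ normalizer (W : Set G) with hΓ
  have hnW : ∀ {g : G}, g ∈ Cq a → g ∈ normalizer (res a u K : Set G) → g ∈ Γ := fun hg hgr =>
    ⟨hg, inf_normalizer_le_normalizer_inf ⟨coreCent_norm _ hg, hgr⟩⟩
  have hAΓ : A ≤ Γ := fun b hb => hnW (c.le_cq ha hb) (c.le_normalizer_res ha ha1 hK huA hb)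
  have hkΓ : k ∈ Γ := hnW hk (Subgroup.le_normalizer hkr)
  haveI : (W.subgroupOf Γ).Normal := normal_subgroupOf_of_le_normalizer inf_le_right
  have hWodd : (Nat.card (W.subgroupOf Γ)).Coprime 2 := Nat.coprime_two_right.2 ((coreCent_odd ({a} : Set G)).of_dvd_nat
    ((card_comap_dvd_of_injective _ _ Γ.subtype_injective).trans (card_dvd_of_le inf_le_left)))
  have hmapN := CfsgLib.PLocal.map_normalizer_eq (W.subgroupOf Γ) hWodd
    ((c.isPGroup le_rfl).comap_of_injective Γ.subtype Γ.subtype_injective : IsPGroup 2 (A.subgroupOf Γ))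
  have hkN : QuotientGroup.mk' (W.subgroupOf Γ) ⟨k, hkΓ⟩ ∈
      normalizer (((A.subgroupOf Γ).map (QuotientGroup.mk' (W.subgroupOf Γ)) : Subgroup _) : Set _) := by
    refine mem_normalizer_fintype ?_
    rintro _ ⟨⟨b, hbΓ⟩, hb, rfl⟩
    have hb : b ∈ A := hb
    set b' := x * b * x⁻¹ with hb'd
    have hb' : b' ∈ A := (mem_normalizer_iff.1 hx.1 b).1 hb
    refine ⟨⟨b', hAΓ hb'⟩, hb', ?_⟩
    rw [← map_inv, ← map_mul, ← map_mul, QuotientGroup.mk'_apply, QuotientGroup.mk'_apply, QuotientGroup.eq]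
    show b'⁻¹ * (k * b * k⁻¹) ∈ W
    have hy : b'⁻¹ * b ∈ res a u K := by
      have hbb : b'⁻¹ * b ∈ A := mul_mem (inv_mem hb') hb
      refine mem_pGen (k := 1) ⟨c.le_cq huA hbb, mem_pre.2 ⟨c.le_cq ha hbb, ?_⟩⟩ (by
        rw [pow_one, pow_two]; exact c.sq hbb)
      have hxn : pr a ⟨x, hxa⟩ * pr a ⟨b, c.le_cq ha hb⟩⁻¹ * (pr a ⟨x, hxa⟩)⁻¹ * pr a ⟨b, c.le_cq ha hb⟩ ∈ K := by
        rw [map_inv, mul_assoc (pr a ⟨x, hxa⟩), mul_assoc (pr a ⟨x, hxa⟩)]
        refine K.mul_mem hxK ?_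
        have := (mem_normalizer_iff.1 (inv_mem (s.le_normalizer hK.1 (c.mem_img_A ha hb))) _).1 (K.inv_mem hxK)
        rwa [inv_inv] at this
      convert hxn using 1
      rw [← map_inv, ← map_mul, ← map_mul, ← map_mul]
      refine congrArg (pr a) (Subtype.ext ?_)
      show b'⁻¹ * b = x * b⁻¹ * x⁻¹ * b
      rw [hb'd]; group
    have hres' : b'⁻¹ * (k * b * k⁻¹) ∈ res a u K := by
      rw [show b'⁻¹ * (k * b * k⁻¹) = b'⁻¹ * b * ((b⁻¹ * k * b⁻¹⁻¹) * k⁻¹) by group]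
      exact mul_mem hy (mul_mem ((mem_normalizer_iff.1
        (c.le_normalizer_res ha ha1 hK huA (inv_mem hb)) k).1 hkr) (inv_mem hkr))
    refine ⟨(mem_coreCent_iff (hra hres')).2 ?_, hres'⟩
    rw [show (⟨b'⁻¹ * (k * b * k⁻¹), hra hres'⟩ : ↥(Cq a)) =
      ⟨b', c.le_cq ha hb'⟩⁻¹ * (⟨k, hk⟩ * ⟨b, c.le_cq ha hb⟩ * ⟨k, hk⟩⁻¹) from rfl,
      map_mul, map_mul, map_mul, map_inv, map_inv, hkx, ← c.pr_conj ha hxa hb (c.le_cq ha hb'),
      inv_mul_cancel]
  obtain ⟨g, hg, hge⟩ := hmapN.ge hkN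
  have hgk : (g : G)⁻¹ * k ∈ W :=
    mem_subgroupOf.1 (QuotientGroup.eq.1
      (show (QuotientGroup.mk g : ↥Γ ⧸ W.subgroupOf Γ) = QuotientGroup.mk ⟨k, hkΓ⟩ from hge))
  have hgr : (g : G) ∈ res a u K := by
    have := mul_mem hkr (inv_mem hgk.2)
    rwa [mul_inv_rev, inv_inv, mul_inv_cancel_left] at this
  have hgN : (g : G) ∈ normalizer (A : Set G) :=
    mem_normalizer_fintype fun y hy => (mem_normalizer_iff.1 hg ⟨y, hAΓ hy⟩).1 hy
  refine ⟨g, ⟨hgN, mem_pre.2 ⟨hru hgr, hRL (mem_img.2 ⟨g, hru hgr, hgr, rfl⟩)⟩⟩, fun b hb => ?_⟩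
  have hb₁ : x * b * x⁻¹ ∈ A := (mem_normalizer_iff.1 hx.1 b).1 hb
  have hb₂ : (g : G) * b * (g : G)⁻¹ ∈ A := (mem_normalizer_iff.1 hgN b).1 hb
  refine c.pr_inj hb₁ hb₂ (h₁ := c.le_cq ha hb₁) (h₂ := c.le_cq ha hb₂) ?_
  rw [c.pr_conj ha hxa hb, c.pr_conj ha (hra hgr) hb]
  have : pr a ⟨(g : G), hra hgr⟩ = pr a ⟨x, hxa⟩ := by
    rw [← hkx, QuotientGroup.mk'_apply, QuotientGroup.mk'_apply, QuotientGroup.eq]
    exact (QuotientGroup.eq_one_iff _).1 ((mem_coreCent_iff (mul_mem (inv_mem (hra hgr)) hk)).1 hgk.1)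
  rw [this]

end Ctx

end CfsgLib.Invol.Goldschmidt.Point
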