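import Cfsg.Agent.Lib.Invol.Goldschmidt.Sections.PairFacts
import Cfsg.Agent.Lib.Invol.Goldschmidt.Sections.Pump

/-!
Owner: helper18. The blocks of a stable pair in the centralizer of a point of its kernel.

* `Ctx.img_blockGroup`: the block maps onto the component.
* `Ctx.perfect`, `Ctx.commute`, `Ctx.fix`: the fields of `Facts`.
-/

set_option autoImplicit false
set_option linter.style.haveILetI false

namespace CfsgLib.Invol.Goldschmidt.Point

open Subgroup Cfsg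
open CfsgLib.FTDep (coreCent coreCent_odd coreCent_le coreCent_norm)
open scoped commutatorElement

universe u

variable {G : Type u} [Group G] [Finite G]

/-- The centralizer of `C` normalises a block. -/
theorem centralizer_le_normalizer_block {V C : Subgroup G} :
    centralizer (C : Set G) ≤ normalizer (blockGroup V C : Set G) := by
  intro h hh
  refine mem_normalizer_fintype fun x hx => ?_
  suffices blockGroup V C ≤ (blockGroup V C).comap (MulAut.conj h).toMonoidHom from this hx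
  refine (closure_le _).2 ?_
  rintro _ ⟨g, hg, v, hv, rfl⟩
  refine mem_comap.2 (subset_closure ⟨h * g, mul_mem hh hg, v, hv, ?_⟩)
  show h * (g * v * g⁻¹) * h⁻¹ = _
  group

namespace Ctx

variable {S : Sylow 2 G} {A : Subgroup G} (c : Ctx S A) {a : G} (ha : a ∈ A) (ha1 : a ≠ 1)
  {K : Subgroup (Quo a)} (hK : Moved (img a A) K)

include c ha ha1 hK

theorem Vk_mem {v : G} (hv : v ∈ Vk A a K) : ∃ h : v ∈ Cq a, pr a ⟨v, h⟩ ∈ K := by
  obtain ⟨T, s⟩ := c.exists_secCtx ha ha1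
  suffices h : Vk A a K ≤ pre a K from mem_pre.1 (h hv)
  refine commutator_le.2 fun b hb x hx => ?_
  rw [commutatorElement_def]
  exact mul_mem ((mem_normalizer_iff.1 (pre_conj (c.le_cq ha hb)
    (s.le_normalizer hK.1 (c.mem_img_A ha hb))) x).1 hx.2) (inv_mem hx.2)

/-- The centralizer of the kernel normalises the component. -/
theorem mem_normalizer_of_kernel {g : G} (hg : g ∈ centralizer (Ck A a K : Set G)) (hga : g ∈ Cq a) :
    pr a ⟨g, hga⟩ ∈ normalizer (K : Set (Quo a)) := by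
  obtain ⟨T, s⟩ := c.exists_secCtx ha ha1
  refine mem_normalizer_iff_map_conj_eq.2 ?_
  by_contra hne
  set q := pr a ⟨g, hga⟩ with hq
  have hm := s.moved_conj hK q
  refine hm.2 fun w hw => ?_
  obtain ⟨b, hb, hbA, rfl⟩ := mem_img.1 hw
  have hA : A ≤ pre a (centralizer ((K.map (MulAut.conj q).toMonoidHom : Subgroup (Quo a)) : Set (Quo a))) := by
    refine (c.sup_eq ha ha1 hK).ge.trans (sup_le (fun v hv => ?_) fun e he => ?_)
    · obtain ⟨hvC, hvK⟩ := c.Vk_mem ha ha1 hK hv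
      exact mem_pre.2 ⟨hvC, commutator_eq_bot_iff_le_centralizer.1
        (CfsgLib.Components.components_commute hK.1 hm.1 (Ne.symm hne)) hvK⟩
    · obtain ⟨heA, heK⟩ := (c.mem_Ck ha).1 he
      refine mem_pre.2 ⟨c.le_cq ha heA, mem_centralizer_iff.2 ?_⟩
      rintro _ ⟨k, hk, rfl⟩
      have h1 : Commute q (pr a ⟨e, c.le_cq ha heA⟩) := Commute.map
        (show Commute (⟨g, hga⟩ : ↥(Cq a)) ⟨e, c.le_cq ha heA⟩ from
          Subtype.ext (mem_centralizer_iff.1 hg e he).symm) (pr a)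
      have h2 : Commute k (pr a ⟨e, c.le_cq ha heA⟩) := mem_centralizer_iff.1 heK k hk
      exact ((h1.mul_left h2).mul_left h1.inv_left).eq
  exact (mem_pre.1 (hA hbA)).2

theorem not_Vk_le : ¬ Vk A a K ≤ Ck A a K := fun hle => hK.2 fun w hw => by
  obtain ⟨b, hb, hbA, rfl⟩ := mem_img.1 hw
  exact ((c.mem_Ck ha).1 ((sup_le hle le_rfl) ((c.sup_eq ha ha1 hK).ge hbA))).2

omit ha1 hK in
theorem block_le_cq {C V : Subgroup G} (hV : V ≤ A) (hC : a ∈ C) : blockGroup V C ≤ Cq a := by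
  refine (closure_le _).2 ?_
  rintro _ ⟨g, hg, v, hv, rfl⟩
  have hga : g ∈ Cq a := mem_centralizer_singleton_iff.2 (mem_centralizer_iff.1 hg a hC).symm
  exact mul_mem (mul_mem hga (c.le_cq ha (hV hv))) (inv_mem hga)

omit ha ha1 hK in
theorem block_le_centralizer {V C : Subgroup G} (hV : V ≤ A) (hC : C ≤ A) :
    blockGroup V C ≤ centralizer (C : Set G) := by
  refine (closure_le _).2 ?_
  rintro _ ⟨g, hg, v, hv, rfl⟩
  exact mul_mem (mul_mem hg (mem_centralizer_iff.2 fun e he => c.comm (hC he) (hV hv))) (inv_mem hg)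

/-- The block maps onto the component. -/
theorem img_blockGroup : img a (blockGroup (Vk A a K) (Ck A a K)) = K := by
  have hVA : Vk A a K ≤ A := (c.Vk_le ha ha1 hK)
  have hbC := c.block_le_cq ha hVA (c.mem_Ck_self ha K)
  have hle : img a (blockGroup (Vk A a K) (Ck A a K)) ≤ K := by
    have h : blockGroup (Vk A a K) (Ck A a K) ≤ pre a K := by
      refine (closure_le _).2 ?_
      rintro _ ⟨g, hg, v, hv, rfl⟩
      have hga : g ∈ Cq a :=
        mem_centralizer_singleton_iff.2 (mem_centralizer_iff.1 hg a (c.mem_Ck_self ha K)).symm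
      exact (mem_normalizer_iff.1 (pre_conj hga (c.mem_normalizer_of_kernel ha ha1 hK hg hga)) v).1
        (mem_pre.2 (c.Vk_mem ha ha1 hK hv))
    intro q hq
    obtain ⟨x, hx, hxb, rfl⟩ := mem_img.1 hq
    exact (mem_pre.1 (h hxb)).2
  refine le_antisymm hle ?_
  set R := img a (blockGroup (Vk A a K) (Ck A a K)) with hR
  have hKn : K ≤ normalizer (R : Set (Quo a)) := by
    intro k hk
    have h1 : k ∈ centralizer (img a (Ck A a K) : Set (Quo a)) := mem_centralizer_iff.2 fun w hw => by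
      obtain ⟨e, he, heC, rfl⟩ := mem_img.1 hw
      exact (mem_centralizer_iff.1 ((c.mem_Ck ha).1 heC).2 k hk).symm
    rw [c.centralizer_img (U := Ck A a K) inf_le_left ha] at h1
    obtain ⟨g, hga, hg, rfl⟩ := mem_img.1 h1
    refine mem_normalizer_fintype fun w hw => ?_
    obtain ⟨x, hx, hxb, rfl⟩ := mem_img.1 hw
    refine mem_img.2 ⟨g * x * g⁻¹, (Cq a).mul_mem ((Cq a).mul_mem hga hx) ((Cq a).inv_mem hga),
      (mem_normalizer_iff.1 (centralizer_le_normalizer_block hg) x).1 hxb, ?_⟩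
    rw [← map_inv, ← map_mul, ← map_mul]; rfl
  rcases CfsgLib.Components.IsQuasisimple.normal_le_center_or_eq_top hK.1.2
      ((normal_subgroupOf_iff_le_normalizer hle).2 hKn) with h | h
  · refine absurd (fun v hv => (c.mem_Ck ha).2 ⟨hVA hv, mem_centralizer_iff.2 fun k hk => ?_⟩)
      (c.not_Vk_le ha ha1 hK)
    obtain ⟨hvC, hvK⟩ := c.Vk_mem ha ha1 hK hv
    have h1 : (⟨pr a ⟨v, hvC⟩, hvK⟩ : ↥K) ∈ R.subgroupOf K :=
      mem_img.2 ⟨v, hvC, subset_closure ⟨1, one_mem _, v, hv, by simp⟩, rfl⟩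
    exact congrArg Subtype.val (mem_center_iff.1 (h h1) ⟨k, hk⟩)
  · exact subgroupOf_eq_top.1 h

end Ctx

variable {S : Sylow 2 G} {A : Subgroup G}

/-- The field `perfect` of `Facts`. -/
theorem Ctx.perfect (c : Ctx S A) {V C : Subgroup G} (h : Stable (Pair A) V C) :
    blockGroup V C ≤ ⁅blockGroup V C, blockGroup V C⁆ ⊔ coreCent (C : Set G) := by
  obtain ⟨a, haC, ha1⟩ := (bot_or_exists_ne_one C).resolve_left h.1
  obtain ⟨ha, -, K, hK, rfl, rfl⟩ := h.2 a haC ha1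
  set R := blockGroup (Vk A a K) (Ck A a K) with hR
  set O := coreCent (Ck A a K : Set G) with hO
  have hRC : R ≤ centralizer (Ck A a K : Set G) := c.block_le_centralizer (c.Vk_le ha ha1 hK) inf_le_left
  have hCR : centralizer (Ck A a K : Set G) ≤ normalizer (R : Set G) := centralizer_le_normalizer_block
  have hCn : centralizer (Ck A a K : Set G) ≤ normalizer ((⁅R, R⁆ ⊔ O : Subgroup G) : Set G) := by
    intro g hg
    refine mem_normalizer_iff_map_conj_eq.2 ?_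
    rw [Subgroup.map_sup, map_commutator, mem_normalizer_iff_map_conj_eq.1 (hCR hg),
      mem_normalizer_iff_map_conj_eq.1 (coreCent_norm _ hg)]
  have hV : Vk A a K ≤ ⁅R, R⁆ ⊔ O := by
    refine commutator_le.2 fun b hb x hx => ?_
    have hVCn : Vk A a K ≤ normalizer (Ck A a K : Set G) := fun v hv =>
      centralizer_le_normalizer _ (mem_centralizer_iff.2 fun e he => c.comm he.1 ((c.Vk_le ha ha1 hK) hv))
    obtain ⟨v, hv, e, he, rfl⟩ :=
      (CfsgLib.Core.mem_sup_iff_mul hVCn).1 ((c.sup_eq ha ha1 hK).ge hb)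
    have hxC : x ∈ centralizer (Ck A a K : Set G) := c.Dk_le_centralizer ha hx
    rw [show ⁅v * e, x⁆ = ⁅v, x⁆ by
      simp only [commutatorElement_def]
      rw [show v * e * x * (v * e)⁻¹ = v * (e * x) * e⁻¹ * v⁻¹ by group, mem_centralizer_iff.1 hxC e he]
      group]
    obtain ⟨hxa, hxK⟩ := mem_pre.1 hx.2
    obtain ⟨y, hy, hyR, hyx⟩ := mem_img.1 ((c.img_blockGroup ha ha1 hK).ge hxK)
    have ho : y⁻¹ * x ∈ O := by
      refine FTDep.mem_coreCent_of ((centralizer (Ck A a K : Set G)).mul_mem ((centralizer (Ck A a K : Set G)).inv_mem (hRC hyR)) hxC)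
        (Q := coreCent ({a} : Set G) ⊓ centralizer (Ck A a K : Set G)) inf_le_right
        (fun g hg => inf_normalizer_le_normalizer_inf ⟨coreCent_norm _
          (mem_centralizer_singleton_iff.2 (mem_centralizer_iff.1 hg a (c.mem_Ck_self ha K)).symm),
          Subgroup.le_normalizer hg⟩)
        ((coreCent_odd _).of_dvd_nat (card_dvd_of_le inf_le_left))
        ⟨(mem_coreCent_iff ((Cq a).mul_mem ((Cq a).inv_mem hy) hxa)).2 ?_, (centralizer (Ck A a K : Set G)).mul_mem ((centralizer (Ck A a K : Set G)).inv_mem (hRC hyR)) hxC⟩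
      rw [show (⟨y⁻¹ * x, (Cq a).mul_mem ((Cq a).inv_mem hy) hxa⟩ : ↥(Cq a)) = ⟨y, hy⟩⁻¹ * ⟨x, hxa⟩ from rfl,
        map_mul, map_inv, hyx, inv_mul_cancel]
    have hvC : v ∈ centralizer (Ck A a K : Set G) :=
      mem_centralizer_iff.2 fun e he => c.comm he.1 ((c.Vk_le ha ha1 hK) hv)
    rw [show ⁅v, x⁆ = ⁅v, y⁆ * (y * (v * (y⁻¹ * x) * v⁻¹ * (y⁻¹ * x)⁻¹) * y⁻¹) by
      simp only [commutatorElement_def]; group]
    refine mul_mem (mem_sup_left (commutator_mem_commutator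
      (subset_closure ⟨1, one_mem _, v, hv, by simp⟩) hyR)) (mem_sup_right ?_)
    exact (mem_normalizer_iff.1 (coreCent_norm _ (hRC hyR)) _).1
      (mul_mem ((mem_normalizer_iff.1 (coreCent_norm _ hvC) _).1 ho) (inv_mem ho))
  refine (closure_le _).2 ?_
  rintro _ ⟨g, hg, v, hv, rfl⟩
  exact (mem_normalizer_iff.1 (hCn hg) v).1 (hV hv)

/-- The field `commute` of `Facts`. -/
theorem Ctx.commute (c : Ctx S A) {V C V' C' : Subgroup G} (h : Stable (Pair A) V C)
    (h' : Stable (Pair A) V' C') (hne : C ≠ C') {e : G} (he : e ∈ C) (he' : e ∈ C') (he1 : e ≠ 1) :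
    ⁅blockGroup V C, blockGroup V' C'⁆ ≤ coreCent ({e} : Set G) := by
  obtain ⟨ha, -, K, hK, rfl, rfl⟩ := h.2 e he he1
  obtain ⟨-, -, L, hL, rfl, rfl⟩ := h'.2 e he' he1
  refine commutator_le.2 fun x hx y hy => ?_
  have hxC := c.block_le_cq ha (c.Vk_le ha he1 hK) he hx
  have hyC := c.block_le_cq ha (c.Vk_le ha he1 hL) he' hy
  have h1 : pr e ⟨x, hxC⟩ ∈ K := (c.img_blockGroup ha he1 hK).le (mem_img.2 ⟨x, hxC, hx, rfl⟩)
  have h2 : pr e ⟨y, hyC⟩ ∈ L := (c.img_blockGroup ha he1 hL).le (mem_img.2 ⟨y, hyC, hy, rfl⟩)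
  have hKL : K ≠ L := fun hh => hne (by subst hh; rfl)
  have hcc : Commute (pr e ⟨x, hxC⟩) (pr e ⟨y, hyC⟩) := (mem_centralizer_iff.1
    (commutator_eq_bot_iff_le_centralizer.1 (CfsgLib.Components.components_commute hK.1 hL.1 hKL) h1) _ h2).symm
  refine (mem_coreCent_iff (mul_mem (mul_mem (mul_mem hxC hyC) (inv_mem hxC)) (inv_mem hyC))).2 ?_
  show pr e ⁅(⟨x, hxC⟩ : ↥(Cq e)), ⟨y, hyC⟩⁆ = 1
  rw [map_commutatorElement]
  exact commutatorElement_eq_one_iff_commute.2 hcc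

/-- The field `fix` of `Facts`. -/
theorem Ctx.fix (c : Ctx S A) {V C : Subgroup G} (h : Stable (Pair A) V C) {e : G} (he : e ∈ C) (he1 : e ≠ 1)
    {g : G} (hge : g ∈ centralizer ({e} : Set G)) (hgV : g ∈ centralizer (V : Set G)) :
    cj g (blockGroup V C) ≤ blockGroup V C ⊔ coreCent ({e} : Set G) := by
  obtain ⟨ha, -, K, hK, rfl, rfl⟩ := h.2 e he he1
  have hn : pr e ⟨g, hge⟩ ∈ normalizer (K : Set (Quo e)) := by
    refine mem_normalizer_iff_map_conj_eq.2 ?_
    by_contra hne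
    refine c.not_Vk_le ha he1 hK fun v hv => (c.mem_Ck ha).2 ⟨(c.Vk_le ha he1 hK) hv, ?_⟩
    obtain ⟨hvC, hvK⟩ := c.Vk_mem ha he1 hK hv
    have hv' : pr e ⟨v, hvC⟩ ∈ K.map (MulAut.conj (pr e ⟨g, hge⟩)).toMonoidHom := by
      refine ⟨_, hvK, ?_⟩
      show pr e ⟨g, hge⟩ * pr e ⟨v, hvC⟩ * (pr e ⟨g, hge⟩)⁻¹ = _
      rw [← map_inv, ← map_mul, ← map_mul]
      refine congrArg _ (Subtype.ext ?_)
      show g * v * g⁻¹ = v
      rw [← mem_centralizer_iff.1 hgV v hv, mul_inv_cancel_right]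
    exact commutator_eq_bot_iff_le_centralizer.1 (CfsgLib.Components.components_commute
      (CfsgLib.Components.isComponent_map_equiv _ hK.1) hK.1 hne) hv'
  rintro _ ⟨x, hx, rfl⟩
  have hxC := c.block_le_cq ha (c.Vk_le ha he1 hK) he hx
  have h1 : pr e ⟨x, hxC⟩ ∈ K := (c.img_blockGroup ha he1 hK).le (mem_img.2 ⟨x, hxC, hx, rfl⟩)
  have hgx : g * x * g⁻¹ ∈ Cq e := (Cq e).mul_mem ((Cq e).mul_mem hge hxC) ((Cq e).inv_mem hge)
  have h2 : pr e ⟨g * x * g⁻¹, hgx⟩ ∈ K := by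
    have := (mem_normalizer_iff.1 hn _).1 h1
    rwa [← map_inv, ← map_mul, ← map_mul] at this
  obtain ⟨y, hy, hyR, hyx⟩ := mem_img.1 ((c.img_blockGroup ha he1 hK).ge h2)
  show g * x * g⁻¹ ∈ _
  rw [show g * x * g⁻¹ = y * (y⁻¹ * (g * x * g⁻¹)) by group]
  refine mul_mem (mem_sup_left hyR) (mem_sup_right ?_)
  refine (mem_coreCent_iff ((Cq e).mul_mem ((Cq e).inv_mem hy) hgx)).2 ?_
  rw [show (⟨y⁻¹ * (g * x * g⁻¹), (Cq e).mul_mem ((Cq e).inv_mem hy) hgx⟩ : ↥(Cq e)) =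
    ⟨y, hy⟩⁻¹ * ⟨g * x * g⁻¹, hgx⟩ from rfl, map_mul, map_inv, hyx, inv_mul_cancel]

end CfsgLib.Invol.Goldschmidt.Point
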