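import Cfsg.Agent.Lib.Invol.Goldschmidt.Sections.Local
import Cfsg.Agent.Lib.TwoFusion.ProductFusion.Setup
import Cfsg.Agent.Lib.Components.FStar
import Cfsg.Agent.Lib.Components.Char
import Cfsg.Agent.Lib.Components.LocalBalance
import Cfsg.Agent.Lib.LocalEvenB.SubnormalSylow
import Cfsg.Agent.Lib.LocalEven.PClosed
import Cfsg.Agent.S0205

/-!
Owner: helper14. The components of a group without odd core containing a strongly closed elementary abelian
2-subgroup `A`: `A` normalises them, acts on the moved ones as `A ⊓ K`, and lies in `(A ⊓ O₂)` times the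
moved components.
-/

set_option autoImplicit false

namespace CfsgLib.Invol.Goldschmidt

open Subgroup Cfsg
open CfsgLib.TwoFusion.DihedralProduct (central_of_isolated)
open scoped commutatorElement

universe u

variable {X : Type u} [Group X]

/-- A component not centralised by `A`. -/
def Moved (A K : Subgroup X) : Prop := Cfsg.IsComponent K ∧ ¬ A ≤ centralizer (K : Set X)

/-- The hypotheses on a centralizer modulo its core. -/
structure SecCtx (T : Sylow 2 X) (A : Subgroup X) : Prop where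
  core : oddCore X = ⊥
  closed : Cfsg.IsStronglyClosed A (T : Subgroup X)
  comm : ∀ a ∈ A, ∀ b ∈ A, a * b = b * a
  sq : ∀ a ∈ A, a * a = 1
  gold : ∀ K : Subgroup X, Cfsg.IsComponent K → ¬ A ⊓ K ≤ centralizer (K : Set X) →
    GoldLocal (↥K ⧸ center ↥K)

variable [Finite X]

theorem component_simple {K : Subgroup X} (hK : Cfsg.IsComponent K) : IsSimpleGroup (↥K ⧸ center ↥K) :=
  hK.2.2

theorem component_quot_not_comm {K : Subgroup X} (hK : Cfsg.IsComponent K) :
    ¬ IsMulCommutative (↥K ⧸ center ↥K) := fun h => by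
  refine CfsgLib.Components.IsComponent.not_isSolvable hK ?_
  haveI : Group.IsSolvable (↥K ⧸ center ↥K) := Group.isSolvable_of_comm h.is_comm.comm
  haveI : Group.IsSolvable ↥(center ↥K) :=
    Group.isSolvable_of_comm fun a b => Subtype.ext (mem_center_iff.1 b.2 a)
  exact Group.isSolvable_of_ker_le_range (center ↥K).subtype (QuotientGroup.mk' (center ↥K))
    (by rw [QuotientGroup.ker_mk', Subgroup.range_subtype])

theorem component_quot_core {K : Subgroup X} (hK : Cfsg.IsComponent K) :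
    oddCore (↥K ⧸ center ↥K) = ⊥ := by
  haveI := component_simple hK
  refine ((inferInstance : (oddCore (↥K ⧸ center ↥K)).Normal).eq_bot_or_eq_top).resolve_right fun h => ?_
  have ho := CfsgLib.ZStar.odd_card_oddCore (↥K ⧸ center ↥K)
  rw [h, card_top] at ho
  exact component_quot_not_comm hK ⟨⟨fun a b =>
    (IsSimpleGroup.comm_iff_isSolvable.mpr (Cfsg.Agent.S0205.result ho) a b)⟩⟩

theorem component_quot_center {K : Subgroup X} (hK : Cfsg.IsComponent K) :
    center (↥K ⧸ center ↥K) = ⊥ := by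
  haveI := component_simple hK
  exact ((inferInstance : (center (↥K ⧸ center ↥K)).Normal).eq_bot_or_eq_top).resolve_right fun h =>
    component_quot_not_comm hK ⟨⟨fun a b => mem_center_iff.1 (h ▸ mem_top b) a⟩⟩

omit [Finite X] in
theorem component_le_normalizer {K : Subgroup X} (hK : Cfsg.IsComponent K) [Finite X] :
    Cfsg.layer X ≤ normalizer (K : Set X) :=
  CfsgLib.Components.layer_le_iff.2 fun _ hL => CfsgLib.Components.component_le_normalizer_component hL hK

/-- An element acting trivially modulo the centre of a component centralises it. -/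
theorem centralizes_of_mod {K : Subgroup X} (hK : Cfsg.IsComponent K) {a : X}
    (h : ∀ k ∈ K, (a * k * a⁻¹) * k⁻¹ ∈ K ⊓ centralizer (K : Set X)) : a ∈ centralizer (K : Set X) := by
  have hle : ⁅K, K⁆ ≤ centralizer ({a} : Set X) := by
    refine commutator_le.2 fun x hx y hy => mem_centralizer_singleton_iff.2 ?_
    obtain ⟨z, hz, hzx⟩ : ∃ z ∈ K ⊓ centralizer (K : Set X), a * x * a⁻¹ = z * x :=
      ⟨_, h x hx, by group⟩
    obtain ⟨w, hw, hwy⟩ : ∃ w ∈ K ⊓ centralizer (K : Set X), a * y * a⁻¹ = w * y :=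
      ⟨_, h y hy, by group⟩
    have e : a * ⁅x, y⁆ * a⁻¹ = ⁅x, y⁆ := by
      have e0 : a * ⁅x, y⁆ * a⁻¹ = ⁅a * x * a⁻¹, a * y * a⁻¹⁆ := by
        simp only [commutatorElement_def]; group
      have cz : ∀ k ∈ K, Commute z k := fun k hk => (mem_centralizer_iff.1 hz.2 k hk).symm
      have cw : ∀ k ∈ K, Commute w k := fun k hk => (mem_centralizer_iff.1 hw.2 k hk).symm
      rw [e0, hzx, hwy, commutatorElement_def, commutatorElement_def, mul_inv_rev, mul_inv_rev]
      have c1 : Commute z (w * y * x⁻¹) := cz _ (mul_mem (mul_mem hw.1 hy) (inv_mem hx))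
      calc z * x * (w * y) * (x⁻¹ * z⁻¹) * (y⁻¹ * w⁻¹)
          = z * (x * w) * y * x⁻¹ * z⁻¹ * y⁻¹ * w⁻¹ := by group
        _ = z * (w * x) * y * x⁻¹ * z⁻¹ * y⁻¹ * w⁻¹ := by rw [(cw x hx).eq]
        _ = z * (w * (x * y * x⁻¹)) * z⁻¹ * y⁻¹ * w⁻¹ := by group
        _ = (w * (x * y * x⁻¹)) * z * z⁻¹ * y⁻¹ * w⁻¹ := by
          rw [(cz _ (mul_mem hw.1 (mul_mem (mul_mem hx hy) (inv_mem hx)))).eq]
        _ = w * (x * y * x⁻¹ * y⁻¹) * w⁻¹ := by group
        _ = x * y * x⁻¹ * y⁻¹ := by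
          rw [(cw _ (mul_mem (mul_mem (mul_mem hx hy) (inv_mem hx)) (inv_mem hy))).eq, mul_inv_cancel_right]
    exact (mul_inv_eq_iff_eq_mul.1 e).symm
  refine mem_centralizer_iff.2 fun k hk => mem_centralizer_singleton_iff.1 (hle ?_)
  rw [CfsgLib.Components.IsComponent.commutator_eq_self hK]
  exact hk

/-- The centre of a component lies in `O₂`. -/
theorem center_le_pCore (hO : oddCore X = ⊥) {K : Subgroup X} (hK : Cfsg.IsComponent K) :
    K ⊓ centralizer (K : Set X) ≤ Cfsg.pCore 2 X := by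
  haveI : Fact (Nat.Prime 2) := ⟨Nat.prime_two⟩
  intro z hz
  haveI hn : Group.IsNilpotent ↥(center ↥K) := by
    letI : CommGroup ↥(center ↥K) :=
      { (inferInstance : Group ↥(center ↥K)) with mul_comm := fun a b => Subtype.ext (mem_center_iff.1 b.2 a) }
    infer_instance
  have h1 : (⟨z, hz.1⟩ : ↥K) ∈ Cfsg.fittingSubgroup ↥K := CfsgLib.Core.le_fittingSubgroup hn
    (mem_center_iff.2 fun g => Subtype.ext (mem_centralizer_iff.1 hz.2 g g.2))
  have h2 : z ∈ Cfsg.fittingSubgroup X ⊓ K := CfsgLib.Components.fitting_subnormal hK.1 ▸ ⟨_, h1, rfl⟩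
  exact CfsgLib.Core.fittingSubgroup_eq_pCore_of_pPrimeCore_eq_bot hO ▸ h2.1

/-- The image of `A ⊓ K` in `K / Z(K)` is strongly closed elementary abelian. -/
theorem closedElem_quot {T : Sylow 2 X} {A : Subgroup X} (hO : oddCore X = ⊥)
    (hcl : Cfsg.IsStronglyClosed A (T : Subgroup X)) (hcomm : ∀ a ∈ A, ∀ b ∈ A, a * b = b * a)
    (hsq : ∀ a ∈ A, a * a = 1) {K : Subgroup X} (hK : Cfsg.IsComponent K)
    (hnc : ¬ A ⊓ K ≤ centralizer (K : Set X)) {P : Sylow 2 ↥K}
    (hP : (P : Subgroup ↥K) = (T : Subgroup X).subgroupOf K) :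
    haveI : Fact (Nat.Prime 2) := ⟨Nat.prime_two⟩
    ClosedElem (P.mapSurjective (QuotientGroup.mk'_surjective (center ↥K)))
      (((A ⊓ K).subgroupOf K).map (QuotientGroup.mk' (center ↥K))) := by
  haveI : Fact (Nat.Prime 2) := ⟨Nat.prime_two⟩
  set π := QuotientGroup.mk' (center ↥K) with hπ
  have hπs : Function.Surjective π := QuotientGroup.mk'_surjective _
  have hmemP : ∀ w : ↥K, w ∈ (P : Subgroup ↥K) ↔ (w : X) ∈ (T : Subgroup X) := fun w => by
    rw [hP]; exact mem_subgroupOf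
  have hzZ : ∀ w : ↥K, w ∈ center ↥K → (w : X) ∈ K ⊓ centralizer (K : Set X) := fun w hw =>
    ⟨w.2, mem_centralizer_iff.2 fun k hk => congrArg Subtype.val (mem_center_iff.1 hw ⟨k, hk⟩)⟩
  refine ⟨fun e => hnc fun w hw => ?_, ⟨⟨?_⟩⟩, ?_, ⟨?_, ?_⟩⟩
  · have : π ⟨w, hw.2⟩ ∈ ((A ⊓ K).subgroupOf K).map π := mem_map_of_mem π (mem_subgroupOf.2 hw)
    rw [e, mem_bot] at this
    exact (hzZ _ ((QuotientGroup.eq_one_iff _).1 this)).2
  · rintro ⟨_, x, hx, rfl⟩ ⟨_, y, hy, rfl⟩
    refine Subtype.ext ?_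
    show π x * π y = π y * π x
    rw [← map_mul, ← map_mul]
    exact congrArg π (Subtype.ext (hcomm x (mem_subgroupOf.1 hx).1 y (mem_subgroupOf.1 hy).1))
  · rintro _ ⟨x, hx, rfl⟩
    rw [← map_mul, show x * x = 1 from Subtype.ext (hsq x (mem_subgroupOf.1 hx).1), map_one]
  · exact map_mono fun w hw => (hmemP w).2 (hcl.1 (mem_subgroupOf.1 hw).1)
  · rintro _ ⟨x, hx, rfl⟩ q hq
    obtain ⟨g, rfl⟩ := hπs q
    obtain ⟨s, hs, hse⟩ : π g * π x * (π g)⁻¹ ∈ (P : Subgroup ↥K).map π := hq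
    rw [← map_inv, ← map_mul, ← map_mul] at hse
    have hz := hzZ _ (QuotientGroup.eq.1 hse)
    have hgT : ((g * x * g⁻¹ : ↥K) : X) ∈ (T : Subgroup X) := by
      have := mul_mem ((hmemP s).1 hs) (CfsgLib.Core.pCore_le_sylow T (center_le_pCore hO hK hz))
      rwa [← Subgroup.coe_mul, mul_inv_cancel_left] at this
    exact ⟨g * x * g⁻¹, mem_subgroupOf.2
      ⟨hcl.2 x (mem_subgroupOf.1 hx).1 g hgT, (g * x * g⁻¹).2⟩, by rw [map_mul, map_mul, map_inv]⟩

namespace SecCtx

variable {T : Sylow 2 X} {A : Subgroup X} (c : SecCtx T A)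

include c

theorem le_sylow : A ≤ (T : Subgroup X) := c.closed.1

theorem pCore_le : Cfsg.pCore 2 X ≤ (T : Subgroup X) := CfsgLib.Core.pCore_le_sylow T

theorem fitting_eq : Cfsg.fittingSubgroup X = Cfsg.pCore 2 X :=
  haveI : Fact (Nat.Prime 2) := ⟨Nat.prime_two⟩
  CfsgLib.Core.fittingSubgroup_eq_pCore_of_pPrimeCore_eq_bot c.core

/-- The centre of a component lies in `O₂`. -/
theorem center_le {K : Subgroup X} (hK : Cfsg.IsComponent K) :
    K ⊓ centralizer (K : Set X) ≤ Cfsg.pCore 2 X := center_le_pCore c.core hK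

omit c in
/-- A Sylow subgroup meets a component in one of it. -/
theorem _root_.CfsgLib.Invol.Goldschmidt.exists_sylow_component (T : Sylow 2 X) {K : Subgroup X}
    (hK : K.IsSubnormal) : ∃ P : Sylow 2 ↥K, (P : Subgroup ↥K) = (T : Subgroup X).subgroupOf K := by
  haveI : Fact (Nat.Prime 2) := ⟨Nat.prime_two⟩
  have h := CfsgLib.LocalEvenB.not_dvd_relIndex_inf_of_subnormal T hK
  rw [inf_relIndex_right] at h
  exact ⟨(T.2.comap_of_injective K.subtype K.subtype_injective).toSylow h, rfl⟩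

/-- Some element of `T ∩ K` has a conjugate in `T` different from it modulo the centre. -/
theorem exists_fusion {K : Subgroup X} (hK : Cfsg.IsComponent K) :
    ∃ t ∈ (T : Subgroup X) ⊓ K, ∃ g ∈ K, g * t * g⁻¹ ∈ (T : Subgroup X) ∧
      g * t * g⁻¹ * t⁻¹ ∉ centralizer (K : Set X) := by
  by_contra hno
  push Not at hno
  haveI : Fact (Nat.Prime 2) := ⟨Nat.prime_two⟩
  obtain ⟨P, hP⟩ := exists_sylow_component T hK.1
  set π := QuotientGroup.mk' (center ↥K) with hπ
  have hπs : Function.Surjective π := QuotientGroup.mk'_surjective _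
  obtain ⟨v, hv⟩ : ∃ v : ↥((P.mapSurjective hπs : Sylow 2 (↥K ⧸ center ↥K)) : Subgroup (↥K ⧸ center ↥K)),
      orderOf v = 2 := by
    refine exists_prime_orderOf_dvd_card' 2 ?_
    have heven : 2 ∣ Nat.card (↥K ⧸ center ↥K) := by
      by_contra ho
      haveI := component_simple hK
      exact component_quot_not_comm hK ⟨⟨fun a b => IsSimpleGroup.comm_iff_isSolvable.mpr
        (Cfsg.Agent.S0205.result (Nat.not_even_iff_odd.1 fun he => ho (even_iff_two_dvd.1 he))) a b⟩⟩
    exact Sylow.dvd_card_of_dvd_card _ heven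
  have hv2 : orderOf (v : ↥K ⧸ center ↥K) = 2 := by rw [Subgroup.orderOf_coe, hv]
  have hiso : ∀ q : ↥K ⧸ center ↥K,
      q * v * q⁻¹ ∈ (P.mapSurjective hπs : Sylow 2 (↥K ⧸ center ↥K)) → q * v * q⁻¹ = v := by
    intro q hq
    obtain ⟨g, rfl⟩ := hπs q
    obtain ⟨t, ht, hte⟩ : (v : ↥K ⧸ center ↥K) ∈ (P : Subgroup ↥K).map π := v.2
    obtain ⟨s, hs, hse⟩ : π g * v * (π g)⁻¹ ∈ (P : Subgroup ↥K).map π := hq
    rw [← hte, ← map_inv, ← map_mul, ← map_mul] at hse ⊢
    have hzT : s⁻¹ * (g * t * g⁻¹) ∈ center ↥K := QuotientGroup.eq.1 hse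
    have hgt : ((g * t * g⁻¹ : ↥K) : X) ∈ (T : Subgroup X) := by
      have hsT : (s : X) ∈ (T : Subgroup X) := by rw [hP] at hs; exact hs
      have hzT' : ((s⁻¹ * (g * t * g⁻¹) : ↥K) : X) ∈ (T : Subgroup X) := c.pCore_le (c.center_le hK
        ⟨SetLike.coe_mem _, mem_centralizer_iff.2 fun k hk =>
          congrArg Subtype.val (mem_center_iff.1 hzT ⟨k, hk⟩)⟩)
      have := mul_mem hsT hzT'
      rwa [← Subgroup.coe_mul, mul_inv_cancel_left] at this
    have htT : (t : X) ∈ (T : Subgroup X) := by rw [hP] at ht; exact ht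
    have h1 := hno t ⟨htT, t.2⟩ g g.2 hgt
    have h2 : g * t * g⁻¹ * t⁻¹ ∈ center ↥K :=
      mem_center_iff.2 fun k => Subtype.ext (mem_centralizer_iff.1 h1 k k.2)
    rw [← mul_inv_eq_one, ← map_inv, ← map_mul]
    exact (QuotientGroup.eq_one_iff _).2 h2
  have := central_of_isolated (component_quot_core hK) (P.mapSurjective hπs) hv2 v.2 hiso
  rw [component_quot_center hK, mem_bot] at this
  rw [this, orderOf_one] at hv2
  exact absurd hv2 (by decide)

/-- `A` normalises every component. -/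
theorem le_normalizer {K : Subgroup X} (hK : Cfsg.IsComponent K) : A ≤ normalizer (K : Set X) := by
  intro a ha
  refine mem_normalizer_iff_map_conj_eq.2 ?_
  by_contra hne
  set L := K.map (MulAut.conj a).toMonoidHom with hL
  have hLc : Cfsg.IsComponent L := CfsgLib.Components.isComponent_map_equiv (MulAut.conj a) hK
  have hKL : ∀ x ∈ K, ∀ y ∈ L, Commute x y := fun x hx y hy =>
    (mem_centralizer_iff.1 (commutator_eq_bot_iff_le_centralizer.1
      (CfsgLib.Components.components_commute hK hLc (Ne.symm hne)) hx) y hy).symm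
  obtain ⟨t, ⟨htT, htK⟩, g, hg, hgt, hbad⟩ := c.exists_fusion hK
  have haT := c.le_sylow ha
  set d := t * a * t⁻¹ * a⁻¹ with hd
  have hdA : d ∈ A := mul_mem (c.closed.2 a ha t (mul_mem (mul_mem htT haT) (inv_mem htT))) (inv_mem ha)
  have hy : a * t⁻¹ * a⁻¹ ∈ L := ⟨t⁻¹, inv_mem htK, rfl⟩
  have hde : d = t * (a * t⁻¹ * a⁻¹) := by rw [hd]; group
  have hgd : g * d * g⁻¹ = g * t * g⁻¹ * (a * t⁻¹ * a⁻¹) := by
    rw [hde, ← mul_assoc g t, mul_assoc (g * t), ← (hKL g⁻¹ (inv_mem hg) _ hy).eq, ← mul_assoc]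
  have hyT : a * t⁻¹ * a⁻¹ ∈ (T : Subgroup X) := mul_mem (mul_mem haT (inv_mem htT)) (inv_mem haT)
  have hgdA : g * d * g⁻¹ ∈ A := c.closed.2 d hdA g (hgd ▸ mul_mem hgt hyT)
  have hw : g * t * g⁻¹ * t⁻¹ ∈ A := by
    have := mul_mem hgdA (inv_mem hdA)
    rwa [hgd, hde, mul_inv_rev, ← mul_assoc, mul_inv_cancel_right] at this
  have hwK : g * t * g⁻¹ * t⁻¹ ∈ K := mul_mem (mul_mem (mul_mem hg htK) (inv_mem hg)) (inv_mem htK)
  refine hbad (mem_centralizer_iff.2 fun k hk => (hKL k hk _ ?_).eq)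
  refine ⟨g * t * g⁻¹ * t⁻¹, hwK, ?_⟩
  show a * (g * t * g⁻¹ * t⁻¹) * a⁻¹ = _
  rw [c.comm a ha _ hw, mul_inv_cancel_right]

/-- `A` meets a moved component outside its centre. -/
theorem not_le_center {K : Subgroup X} (h : Moved A K) : ¬ A ⊓ K ≤ centralizer (K : Set X) := by
  intro hle
  haveI : Fact (Nat.Prime 2) := ⟨Nat.prime_two⟩
  obtain ⟨hK, hA⟩ := h
  obtain ⟨a, ha, hac⟩ := SetLike.not_le_iff_exists.1 hA
  refine hac (centralizes_of_mod hK ?_)
  have hN := c.le_normalizer hK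
  set H := K ⊔ zpowers a with hH
  have hHN : H ≤ normalizer (K : Set X) := sup_le Subgroup.le_normalizer (zpowers_le.2 (hN ha))
  set Z := K ⊓ centralizer (K : Set X) with hZ
  have hNC : normalizer (K : Set X) ≤ normalizer ((centralizer (K : Set X) : Subgroup X) : Set X) :=
    CfsgLib.Components.normalizer_le_normalizer_centralizer' K
  haveI hZn : (Z.subgroupOf H).Normal := (normal_subgroupOf_iff_le_normalizer
    (inf_le_left.trans le_sup_left)).2 ((le_inf hHN (hHN.trans hNC)).trans inf_normalizer_le_normalizer_inf)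
  have hzn : zpowers a ≤ normalizer (K : Set X) := zpowers_le.2 (hN ha)
  have hHmul : ∀ h ∈ H, ∃ i : ℤ, ∃ k ∈ K, h = a ^ i * k := by
    intro h hh
    obtain ⟨p, ⟨i, rfl⟩, k, hk, e⟩ := (CfsgLib.Core.mem_sup_iff_mul hzn).1
      (show h ∈ zpowers a ⊔ K by rwa [sup_comm])
    exact ⟨i, k, hk, e⟩
  -- a Sylow subgroup of `H`
  have hidx : ¬ 2 ∣ ((T : Subgroup X).subgroupOf H).index := by
    intro hd
    have hTK := CfsgLib.LocalEvenB.not_dvd_relIndex_inf_of_subnormal T hK.1
    have hsup : ((T : Subgroup X) ⊓ H) ⊔ K = H := le_antisymm (sup_le inf_le_right le_sup_left)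
      (sup_le le_sup_right (zpowers_le.2 (mem_sup_left ⟨c.le_sylow ha, mem_sup_right (mem_zpowers a)⟩)))
    have h1 := CfsgLib.Core.card_sup_mul_card_inf ((T : Subgroup X) ⊓ H) K (inf_le_right.trans hHN)
    rw [hsup, inf_assoc, inf_eq_right.2 (le_sup_left : K ≤ H)] at h1
    have h2 : Nat.card ↥((T : Subgroup X) ⊓ K) * ((T : Subgroup X) ⊓ K).relIndex K = Nat.card K := by
      rw [← relIndex_bot_left, ← relIndex_bot_left K]
      exact relIndex_mul_relIndex _ _ _ bot_le inf_le_right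
    have h3 : Nat.card ↥((T : Subgroup X) ⊓ H) * ((T : Subgroup X).subgroupOf H).index = Nat.card H := by
      rw [← Nat.card_congr (subgroupOfEquivOfLe (inf_le_right : (T : Subgroup X) ⊓ H ≤ H)).toEquiv,
        inf_subgroupOf_right, card_mul_index]
    refine hTK ?_
    suffices h4 : ((T : Subgroup X).subgroupOf H).index = ((T : Subgroup X) ⊓ K).relIndex K by rwa [← h4]
    refine Nat.eq_of_mul_eq_mul_left (show 0 < Nat.card ↥((T : Subgroup X) ⊓ H) *
      Nat.card ↥((T : Subgroup X) ⊓ K) from Nat.mul_pos Nat.card_pos Nat.card_pos) ?_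
    calc _ = Nat.card H * Nat.card ↥((T : Subgroup X) ⊓ K) := by rw [← h3]; ring
      _ = Nat.card ↥((T : Subgroup X) ⊓ H) * Nat.card K := h1
      _ = _ := by rw [← h2]; ring
  let TH : Sylow 2 H := (T.2.comap_of_injective H.subtype H.subtype_injective).toSylow hidx
  set π := QuotientGroup.mk' (Z.subgroupOf H) with hπ
  have hπs : Function.Surjective π := QuotientGroup.mk'_surjective _
  have hZT : Z ≤ (T : Subgroup X) := (c.center_le hK).trans c.pCore_le
  have haH : a ∈ H := mem_sup_right (mem_zpowers a)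
  have hπ1 : ∀ w : H, π w = 1 ↔ (w : X) ∈ Z := fun w =>
    (QuotientGroup.eq_one_iff w).trans mem_subgroupOf
  -- no odd core
  have hO : oddCore (↥H ⧸ Z.subgroupOf H) = ⊥ := by
    set D := oddCore (↥H ⧸ Z.subgroupOf H)
    set KH := (K.subgroupOf H).map π
    haveI : (K.subgroupOf H).Normal := (normal_subgroupOf_iff_le_normalizer le_sup_left).2 hHN
    haveI : KH.Normal := (inferInstance : (K.subgroupOf H).Normal).map π hπs
    let f : ↥K →* ↥H ⧸ Z.subgroupOf H := π.comp (inclusion le_sup_left)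
    have hker : center ↥K ≤ f.ker := fun v hv => (hπ1 _).2
      ⟨v.2, mem_centralizer_iff.2 fun k hk => congrArg Subtype.val (mem_center_iff.1 hv ⟨k, hk⟩)⟩
    have hf : ∀ v, f v = 1 → v ∈ center ↥K := fun v hv => mem_center_iff.2 fun k =>
      Subtype.ext (mem_centralizer_iff.1 ((hπ1 _).1 hv).2 k k.2)
    let f' := QuotientGroup.lift (center ↥K) f hker
    have hbot : D.comap f' = ⊥ := by
      haveI := component_simple hK
      refine ((inferInstance : (D.comap f').Normal).eq_bot_or_eq_top).resolve_right fun htop => ?_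
      refine component_quot_not_comm hK ⟨⟨fun x y => ?_⟩⟩
      have hinj : Function.Injective f' := by
        refine (injective_iff_map_eq_one _).2 fun v hv => ?_
        obtain ⟨v, rfl⟩ := QuotientGroup.mk'_surjective _ v
        exact (QuotientGroup.eq_one_iff v).2 (hf v hv)
      refine IsSimpleGroup.comm_iff_isSolvable.mpr (Cfsg.Agent.S0205.result ?_) x y
      refine (CfsgLib.ZStar.odd_card_oddCore _).of_dvd_nat (?_ : _ ∣ Nat.card D)
      rw [← card_top (G := ↥K ⧸ center ↥K), ← htop]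
      exact card_comap_dvd_of_injective D f' hinj
    refine (eq_bot_iff_forall _).2 fun q hq => ?_
    obtain ⟨h, rfl⟩ := hπs q
    obtain ⟨i, k, hk, hik⟩ := hHmul h h.2
    have hsq : π h * π h ∈ KH := by
      refine ⟨h * h, mem_subgroupOf.2 ?_, map_mul π h h⟩
      show (h : X) * h ∈ K
      have ha2 : a ^ i * a ^ i = 1 := by
        rw [← zpow_add, ← two_mul, zpow_mul, zpow_two, c.sq a ha, one_zpow]
      have e : (h : X) * h = (a ^ i * k * (a ^ i)⁻¹) * (a ^ i * a ^ i) * k := by rw [hik]; group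
      rw [e, ha2, mul_one]
      exact mul_mem ((mem_normalizer_iff.1 (hzn (zpow_mem (mem_zpowers a) i)) k).1 hk) hk
    obtain ⟨w, hw, hwe⟩ := hsq
    have h2 : π h * π h = 1 := by
      have hd : (QuotientGroup.mk' (center ↥K)) ⟨(w : X), mem_subgroupOf.1 hw⟩ ∈ D.comap f' := by
        show f' (QuotientGroup.mk' (center ↥K) ⟨(w : X), mem_subgroupOf.1 hw⟩) ∈ D
        rw [show f' (QuotientGroup.mk' (center ↥K) ⟨(w : X), mem_subgroupOf.1 hw⟩) = π w from rfl, hwe]
        exact mul_mem hq hq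
      rw [hbot, mem_bot] at hd
      rw [← hwe, ← show f' (QuotientGroup.mk' (center ↥K) ⟨(w : X), mem_subgroupOf.1 hw⟩) = π w from rfl, hd,
        map_one]
    refine orderOf_eq_one_iff.1 (Nat.eq_one_of_dvd_coprimes (Nat.coprime_two_right.2
      ((CfsgLib.ZStar.odd_card_oddCore _).of_dvd_nat (D.orderOf_dvd_natCard hq))) dvd_rfl ?_)
    exact orderOf_dvd_of_pow_eq_one (by rw [pow_two, h2])
  intro k hk
  have hmem : π ⟨a, haH⟩ ∈ center (↥H ⧸ Z.subgroupOf H) := by
    by_cases h1 : π ⟨a, haH⟩ = 1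
    · rw [h1]; exact one_mem _
    refine central_of_isolated hO (TH.mapSurjective hπs)
      (CfsgLib.Signalizer.orderOf_eq_two_of h1 (by
        rw [← map_mul, show (⟨a, haH⟩ * ⟨a, haH⟩ : H) = 1 from Subtype.ext (c.sq a ha), map_one]))
      (mem_map_of_mem π (show (⟨a, haH⟩ : H) ∈ (TH : Subgroup H) from c.le_sylow ha)) fun q hq => ?_
    obtain ⟨g, rfl⟩ := hπs q
    obtain ⟨s, hs, hse⟩ : π g * π ⟨a, haH⟩ * (π g)⁻¹ ∈ (TH : Subgroup H).map π := hq
    rw [← map_inv, ← map_mul, ← map_mul] at hse ⊢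
    have hz := QuotientGroup.eq.1 hse
    rw [mem_subgroupOf] at hz
    have hgaT : (g : X) * a * (g : X)⁻¹ ∈ (T : Subgroup X) := by
      have := mul_mem (show (s : X) ∈ (T : Subgroup X) from hs) (hZT hz)
      simpa using this
    have hgaA := c.closed.2 a ha g hgaT
    obtain ⟨i, k', hk', hik⟩ := hHmul g g.2
    have hK' : (g : X) * a * (g : X)⁻¹ * a⁻¹ ∈ K := by
      have hai : a ^ i * a * (a ^ i)⁻¹ = a := by group
      have e : (g : X) * a * (g : X)⁻¹ * a⁻¹ = a ^ i * (k' * (a * k'⁻¹ * a⁻¹)) * (a ^ i)⁻¹ := by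
        rw [hik]
        conv_rhs => rw [show a ^ i * (k' * (a * k'⁻¹ * a⁻¹)) * (a ^ i)⁻¹ =
          a ^ i * k' * a * k'⁻¹ * (a ^ i)⁻¹ * (a ^ i * a * (a ^ i)⁻¹)⁻¹ by group, hai]
        group
      rw [e]
      exact (mem_normalizer_iff.1 (hzn (zpow_mem (mem_zpowers a) i)) _).1
        (mul_mem hk' ((mem_normalizer_iff.1 (hN ha) _).1 (inv_mem hk')))
    rw [← mul_inv_eq_one, ← map_inv, ← map_mul, hπ1]
    exact ⟨hK', hle (mem_inf.2 ⟨A.mul_mem hgaA (A.inv_mem ha), hK'⟩)⟩
  have h1 := mem_center_iff.1 hmem (π ⟨k, mem_sup_left hk⟩)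
  rw [← map_mul, ← map_mul, eq_comm, ← mul_inv_eq_one, ← map_inv, ← map_mul, hπ1] at h1
  simpa [mul_assoc] using h1

/-- The kernel and the part inside a moved component generate `A`. -/
theorem exists_inner {K : Subgroup X} (h : Moved A K) {a : X} (ha : a ∈ A) :
    ∃ v ∈ A ⊓ K, v⁻¹ * a ∈ centralizer (K : Set X) := by
  haveI : Fact (Nat.Prime 2) := ⟨Nat.prime_two⟩
  obtain ⟨hK, -⟩ := id h
  have hgold := c.gold K hK (c.not_le_center h)
  haveI := component_simple hK
  obtain ⟨P, hP⟩ := exists_sylow_component T hK.1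
  set π := QuotientGroup.mk' (center ↥K) with hπ
  have hπs : Function.Surjective π := QuotientGroup.mk'_surjective _
  have hmemP : ∀ w : ↥K, w ∈ (P : Subgroup ↥K) ↔ (w : X) ∈ (T : Subgroup X) := fun w => by
    rw [hP]; exact mem_subgroupOf
  set B := ((A ⊓ K).subgroupOf K).map π with hB
  have hzZ : ∀ w : ↥K, w ∈ center ↥K → (w : X) ∈ K ⊓ centralizer (K : Set X) := fun w hw =>
    ⟨w.2, mem_centralizer_iff.2 fun k hk => congrArg Subtype.val (mem_center_iff.1 hw ⟨k, hk⟩)⟩
  have hBT : ClosedElem (P.mapSurjective hπs) B :=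
    closedElem_quot c.core c.closed c.comm c.sq hK (c.not_le_center h) hP
  set φ : MulAut ↥K := MulDistribMulAction.toMulAut ↥(normalizer (K : Set X)) ↥K ⟨a, c.le_normalizer hK ha⟩
  have hφv : ∀ w : ↥K, ((φ w : ↥K) : X) = a * (w : X) * a⁻¹ := fun w => rfl
  set β := CfsgLib.Signalizer.autModCenter ↥K φ
  have hβv : ∀ w : ↥K, β (π w) = π (φ w) := fun w => rfl
  obtain ⟨_, ⟨v, hv, rfl⟩, hβ⟩ := hgold.inner (P.mapSurjective hπs) B hBT β (by
      refine MulEquiv.ext fun q => ?_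
      obtain ⟨w, rfl⟩ := hπs q
      show β (β (π w)) = π w
      rw [hβv, hβv]
      refine congrArg π (Subtype.ext ?_)
      rw [hφv, hφv, show a * (a * (w : X) * a⁻¹) * a⁻¹ = (a * a) * w * (a * a)⁻¹ by group, c.sq a ha]
      group) (by
      rintro _ ⟨x, hx, rfl⟩
      rw [hβv]
      refine congrArg π (Subtype.ext ?_)
      rw [hφv, c.comm a ha _ (mem_subgroupOf.1 hx).1, mul_inv_cancel_right]) (by
      intro q hq
      obtain ⟨w, hw, rfl⟩ : q ∈ (P : Subgroup ↥K).map π := hq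
      rw [hβv, ← map_inv, ← map_mul]
      refine mem_map_of_mem π (mem_subgroupOf.2 ⟨?_, (φ w * w⁻¹).2⟩)
      show a * (w : X) * a⁻¹ * (w : X)⁻¹ ∈ A
      have hwT := (hmemP w).1 hw
      have := c.closed.2 a ha (w : X) (mul_mem (mul_mem hwT (c.le_sylow ha)) (inv_mem hwT))
      rw [show a * (w : X) * a⁻¹ * (w : X)⁻¹ = a * ((w : X) * a * (w : X)⁻¹)⁻¹ by group]
      exact mul_mem ha (inv_mem this))
  have hv' := mem_subgroupOf.1 hv
  refine ⟨(v : X), hv', centralizes_of_mod hK fun k hk => ?_⟩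
  have h1 : π (φ ⟨k, hk⟩) = π (v * ⟨k, hk⟩ * v⁻¹) := by
    rw [← hβv, hβ, map_mul, map_mul, map_inv]; rfl
  have h2 : v⁻¹ * φ ⟨k, hk⟩ * v * ⟨k, hk⟩⁻¹ ∈ center ↥K := by
    refine (QuotientGroup.eq_one_iff _).1 ?_
    show π _ = 1
    rw [map_mul, map_mul, map_mul, h1, map_mul, map_mul, map_inv, map_inv]
    group
  have h3 := hzZ _ h2
  rw [Subgroup.coe_mul, Subgroup.coe_mul, Subgroup.coe_mul, Subgroup.coe_inv, Subgroup.coe_inv, hφv] at h3
  convert h3 using 1
  group

/-- The moved components are permuted. -/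
theorem moved_conj {K : Subgroup X} (h : Moved A K) (g : X) :
    Moved A (K.map (MulAut.conj g).toMonoidHom) := by
  haveI : Fact (Nat.Prime 2) := ⟨Nat.prime_two⟩
  refine ⟨CfsgLib.Components.isComponent_map_equiv (MulAut.conj g) h.1, fun hcon => c.not_le_center h ?_⟩
  haveI := CfsgLib.Components.layer_normal (G := X)
  obtain ⟨Q, hQ⟩ := CfsgLib.LocalEven.exists_sylow_inf T (Cfsg.layer X)
  have hg : g ∈ normalizer (((T : Subgroup X) ⊓ Cfsg.layer X : Subgroup X) : Set X) ⊔ Cfsg.layer X := by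
    rw [← hQ, Sylow.normalizer_sup_eq_top Q]; exact mem_top g
  rw [mem_sup_of_normal_right] at hg
  obtain ⟨n, hn, e, he, rfl⟩ := hg
  have hKe : ∀ w, w ∈ K ↔ e * w * e⁻¹ ∈ K := fun w =>
    mem_normalizer_iff.1 (component_le_normalizer h.1 he) w
  intro w hw
  have hwL : n * w * n⁻¹ ∈ (T : Subgroup X) ⊓ Cfsg.layer X :=
    (mem_normalizer_iff.1 hn w).1 ⟨c.le_sylow hw.1, CfsgLib.Components.le_layer h.1 hw.2⟩
  have hwA : n * w * n⁻¹ ∈ A := c.closed.2 w hw.1 n hwL.1
  have hcen := hcon hwA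
  refine mem_centralizer_iff.2 fun k hk => ?_
  have h1 := mem_centralizer_iff.1 hcen (n * k * n⁻¹) ⟨e⁻¹ * k * e, by
      have h2 := (hKe (e⁻¹ * k * e)).2 (by simpa [mul_assoc] using hk)
      exact h2, by show n * e * (e⁻¹ * k * e) * (n * e)⁻¹ = _; group⟩
  have h3 : n⁻¹ * (n * k * n⁻¹ * (n * w * n⁻¹)) * n = n⁻¹ * (n * w * n⁻¹ * (n * k * n⁻¹)) * n := by rw [h1]
  simpa [mul_assoc] using h3

/-- The elements of `A` centralising the layer lie in `O₂`. -/
theorem mem_pCore {a : X} (ha : a ∈ A) (haE : a ∈ centralizer (Cfsg.layer X : Set X)) :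
    a ∈ Cfsg.pCore 2 X := by
  haveI : Fact (Nat.Prime 2) := ⟨Nat.prime_two⟩
  set P := Cfsg.pCore 2 X with hP
  haveI hPn : P.Normal := inferInstance
  haveI hP0 : (A ⊓ P).Normal := ⟨fun w hw g =>
    ⟨c.closed.2 w hw.1 g (c.pCore_le (hPn.conj_mem w hw.2 g)), hPn.conj_mem w hw.2 g⟩⟩
  haveI := CfsgLib.Components.layer_normal (G := X)
  let W : Subgroup X :=
    { carrier := {g | g ∈ centralizer (Cfsg.layer X : Set X) ∧ g ∈ centralizer ((A ⊓ P : Subgroup X) : Set X) ∧
        ∀ p ∈ P, g * p * g⁻¹ * p⁻¹ ∈ A ⊓ P}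
      one_mem' := ⟨one_mem _, one_mem _, fun p hp => by simp⟩
      mul_mem' := fun {g h} hg hh => ⟨mul_mem hg.1 hh.1, mul_mem hg.2.1 hh.2.1, fun p hp => by
        have e : g * h * p * (g * h)⁻¹ * p⁻¹ = g * (h * p * h⁻¹ * p⁻¹) * g⁻¹ * (g * p * g⁻¹ * p⁻¹) := by group
        rw [e]
        exact mul_mem (hP0.conj_mem _ (hh.2.2 p hp) g) (hg.2.2 p hp)⟩
      inv_mem' := fun {g} hg => ⟨inv_mem hg.1, inv_mem hg.2.1, fun p hp => by
        have e : g⁻¹ * p * g⁻¹⁻¹ * p⁻¹ = g⁻¹ * (g * p * g⁻¹ * p⁻¹)⁻¹ * g⁻¹⁻¹ := by group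
        rw [e]
        exact hP0.conj_mem _ (inv_mem (hg.2.2 p hp)) g⁻¹⟩ }
  haveI hWn : W.Normal := ⟨fun g hg x => ⟨(inferInstance : (centralizer (Cfsg.layer X : Set X)).Normal).conj_mem g hg.1 x,
    (inferInstance : (centralizer ((A ⊓ P : Subgroup X) : Set X)).Normal).conj_mem g hg.2.1 x, fun p hp => by
      have e : x * g * x⁻¹ * p * (x * g * x⁻¹)⁻¹ * p⁻¹ =
          x * (g * (x⁻¹ * p * x⁻¹⁻¹) * g⁻¹ * (x⁻¹ * p * x⁻¹⁻¹)⁻¹) * x⁻¹ := by group
      rw [e]
      exact hP0.conj_mem _ (hg.2.2 _ (hPn.conj_mem p hp x⁻¹)) x⟩⟩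
  have hsq : ∀ g ∈ W, g * g ∈ P := by
    intro g hg
    haveI := CfsgLib.Components.gFitting_normal (G := X)
    set C := centralizer (Cfsg.generalizedFittingSubgroup X : Set X)
    have hgg : g * g ∈ C := by
      have hle : Cfsg.generalizedFittingSubgroup X ≤ centralizer ({g * g} : Set X) := by
        refine sup_le (fun e he => mem_centralizer_singleton_iff.2
          (mem_centralizer_iff.1 (mul_mem hg.1 hg.1) e he)) ?_
        rw [c.fitting_eq]
        intro p hp
        refine mem_centralizer_singleton_iff.2 ?_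
        set z := g * p * g⁻¹ * p⁻¹ with hz
        have hzm : z ∈ A ⊓ P := hg.2.2 p hp
        have hgz : g * z * g⁻¹ = z := by rw [← mem_centralizer_iff.1 hg.2.1 z hzm, mul_inv_cancel_right]
        have e : g * g * p * (g * g)⁻¹ = p := by
          rw [show g * g * p * (g * g)⁻¹ = (g * z * g⁻¹) * (g * p * g⁻¹) by rw [hz]; group, hgz,
            show g * p * g⁻¹ = z * p by rw [hz]; group, ← mul_assoc, c.sq z hzm.1, one_mul]
        exact (mul_inv_eq_iff_eq_mul.1 e).symm
      exact mem_centralizer_iff.2 fun y hy => mem_centralizer_singleton_iff.1 (hle hy)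
    have hCle : C ≤ Cfsg.generalizedFittingSubgroup X := CfsgLib.Components.centralizer_gFitting_le
    have hCn : C.Normal := inferInstance
    haveI : IsMulCommutative ↥C := ⟨⟨fun x y => Subtype.ext (mem_centralizer_iff.1 y.2 (x : X) (hCle x.2))⟩⟩
    letI : CommGroup ↥C := { (inferInstance : Group ↥C) with mul_comm := fun x y => mul_comm' x y }
    have hCf : C ≤ Cfsg.fittingSubgroup X := le_sSup ⟨hCn, inferInstance⟩
    rw [hP, ← c.fitting_eq]
    exact hCf hgg
  have hW2 : IsPGroup 2 W := by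
    rintro ⟨g, hg⟩
    obtain ⟨k, hk⟩ := (CfsgLib.Core.isPGroup_pCore 2 X) ⟨g * g, hsq g hg⟩
    refine ⟨k + 1, Subtype.ext ?_⟩
    show g ^ 2 ^ (k + 1) = 1
    rw [pow_succ', pow_mul, pow_two]
    exact congrArg Subtype.val hk
  exact CfsgLib.Core.le_pCore hW2 ⟨haE, mem_centralizer_iff.2 fun w hw => c.comm w hw.1 a ha,
    fun p hp => ⟨by
      have hpT := c.pCore_le hp
      have := c.closed.2 a ha p (mul_mem (mul_mem hpT (c.le_sylow ha)) (inv_mem hpT))
      rw [show a * p * a⁻¹ * p⁻¹ = a * (p * a * p⁻¹)⁻¹ by group]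
      exact A.mul_mem ha (A.inv_mem this), by
      exact P.mul_mem (hPn.conj_mem p hp a) (P.inv_mem hp)⟩⟩

/-- The normal subgroup containing `A`: `A ⊓ O₂` and the moved components. -/
def hull (_c : SecCtx T A) : Subgroup X := (A ⊓ Cfsg.pCore 2 X) ⊔ sSup {K | Moved A K}

theorem hull_normal : (c.hull).Normal := by
  haveI h0 : (A ⊓ Cfsg.pCore 2 X).Normal := ⟨fun w hw g =>
    ⟨c.closed.2 w hw.1 g (c.pCore_le ((inferInstance : (Cfsg.pCore 2 X).Normal).conj_mem w hw.2 g)),
      (inferInstance : (Cfsg.pCore 2 X).Normal).conj_mem w hw.2 g⟩⟩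
  haveI h1 : (sSup {K : Subgroup X | Moved A K}).Normal := by
    refine ⟨fun w hw g => ?_⟩
    have hle : (sSup {K : Subgroup X | Moved A K}).map (MulAut.conj g).toMonoidHom ≤
        sSup {K : Subgroup X | Moved A K} := by
      rw [map_le_iff_le_comap, sSup_le_iff]
      intro K hK
      rw [← map_le_iff_le_comap]
      exact le_sSup (c.moved_conj hK g)
    exact hle (mem_map_of_mem _ hw)
  exact Subgroup.sup_normal _ _

theorem le_hull : A ≤ c.hull := by
  classical
  intro a ha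
  haveI := Fintype.ofFinite {K : Subgroup X // Cfsg.IsComponent K}
  suffices h : ∀ s : Finset {K : Subgroup X // Cfsg.IsComponent K},
      ∃ v ∈ A ⊓ sSup {K | Moved A K}, ∀ K ∈ s, v⁻¹ * a ∈ centralizer ((K : Subgroup X) : Set X) by
    obtain ⟨v, hv, hc⟩ := h Finset.univ
    have hE : v⁻¹ * a ∈ centralizer (Cfsg.layer X : Set X) := by
      have : Cfsg.layer X ≤ centralizer ({v⁻¹ * a} : Set X) := CfsgLib.Components.layer_le_iff.2
        fun K hK k hk => mem_centralizer_singleton_iff.2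
          (mem_centralizer_iff.1 (hc ⟨K, hK⟩ (Finset.mem_univ _)) k hk)
      exact mem_centralizer_iff.2 fun e he => mem_centralizer_singleton_iff.1 (this he)
    have hva : v⁻¹ * a ∈ A := mul_mem (inv_mem hv.1) ha
    have := mul_mem (mem_sup_right hv.2 : v ∈ c.hull) (mem_sup_left ⟨hva, c.mem_pCore hva hE⟩ : v⁻¹ * a ∈ c.hull)
    rwa [mul_inv_cancel_left] at this
  intro s
  induction s using Finset.induction_on with
  | empty => exact ⟨1, one_mem _, fun K hK => absurd hK (Finset.notMem_empty K)⟩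
  | @insert L s hL ih =>
    obtain ⟨v, hv, hc⟩ := ih
    by_cases hmv : A ≤ centralizer ((L : Subgroup X) : Set X)
    · refine ⟨v, hv, fun K hK => ?_⟩
      rcases Finset.mem_insert.1 hK with rfl | hK
      · exact hmv (mul_mem (inv_mem hv.1) ha)
      · exact hc K hK
    obtain ⟨w, hw, hwc⟩ := c.exists_inner ⟨L.2, hmv⟩ (mul_mem (inv_mem hv.1) ha)
    refine ⟨v * w, mul_mem hv ⟨hw.1, (le_sSup (a := (L : Subgroup X)) (show Moved A L from ⟨L.2, hmv⟩) : _ ≤ sSup {K | Moved A K}) hw.2⟩, fun K hK => ?_⟩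
    rw [mul_inv_rev, mul_assoc]
    rcases Finset.mem_insert.1 hK with rfl | hKs
    · exact hwc
    · refine mul_mem (inv_mem ?_) (hc K hKs)
      have hne : (L : Subgroup X) ≠ (K : Subgroup X) := fun e => hL (Subtype.ext e ▸ hKs)
      exact commutator_eq_bot_iff_le_centralizer.1 (CfsgLib.Components.components_commute L.2 K.2 hne) hw.2

/-- An odd subgroup normalised by `C(U)`: an element of it is trivial unless it acts on a moved component. -/
theorem eq_one_of_weight {U : Subgroup X} (hUA : U ≤ A) {D : Subgroup X} (hD : Odd (Nat.card D))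
    (hDU : D ≤ centralizer (U : Set X)) (hCD : centralizer (U : Set X) ≤ normalizer (D : Set X)) {x : X}
    (hx : x ∈ D)
    (hK : ∀ K, Moved A K → x ∈ normalizer (K : Set X) →
      ¬ U ≤ centralizer (K : Set X) → x ∈ centralizer (K : Set X)) : x = 1 := by
  haveI : Fact (Nat.Prime 2) := ⟨Nat.prime_two⟩
  have hodd1 : ∀ z ∈ D, ∀ k : ℕ, z ^ 2 ^ k = 1 → z = 1 := fun z hz k h => orderOf_eq_one_iff.1
    (Nat.eq_one_of_dvd_coprimes ((Nat.coprime_two_right.2
      (hD.of_dvd_nat (D.orderOf_dvd_natCard hz))).pow_right k) dvd_rfl (orderOf_dvd_of_pow_eq_one h))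
  have hsolD : Group.IsSolvable D := Cfsg.Agent.S0205.result hD
  have hcomp : ∀ K : Subgroup X, Cfsg.IsComponent K → x ∈ centralizer (K : Set X) := by
    intro K hKc
    by_cases hU : U ≤ centralizer (K : Set X)
    · have hKn : K ≤ normalizer (D : Set X) := fun k hk => hCD (mem_centralizer_iff.2 fun w hw =>
        (mem_centralizer_iff.1 (hU hw) k hk).symm)
      exact commutator_eq_bot_iff_le_centralizer.1
        (commutator_comm D K ▸ CfsgLib.Components.component_commutes_of_solvable_invariant hKc hsolD hKn) hx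
    have hm : Moved A K := ⟨hKc, fun h => hU (hUA.trans h)⟩
    refine hK K hm (mem_normalizer_iff_map_conj_eq.2 ?_) hU
    by_contra hne
    set L := K.map (MulAut.conj x).toMonoidHom with hL
    have hKL := commutator_eq_bot_iff_le_centralizer.1 (CfsgLib.Components.components_commute hKc
      (CfsgLib.Components.isComponent_map_equiv (MulAut.conj x) hKc) (Ne.symm hne))
    refine c.not_le_center hm fun t ht => mem_centralizer_iff.2 fun k hk => ?_
    have htU : t ∈ centralizer (U : Set X) := mem_centralizer_iff.2 fun w hw => c.comm w (hUA hw) t ht.1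
    set z := t * (x * t⁻¹ * x⁻¹) with hz
    have hzD : z ∈ D := by
      rw [hz, show t * (x * t⁻¹ * x⁻¹) = t * x * t⁻¹ * x⁻¹ by group]
      exact mul_mem ((mem_normalizer_iff.1 (hCD htU) x).1 hx) (inv_mem hx)
    have hyL : x * t⁻¹ * x⁻¹ ∈ L := ⟨t⁻¹, inv_mem ht.2, rfl⟩
    have hcom : Commute t (x * t⁻¹ * x⁻¹) := (mem_centralizer_iff.1 (hKL ht.2) _ hyL).symm
    have hz1 : z = 1 := hodd1 z hzD 1 (by
      rw [pow_one, hz, hcom.mul_pow, pow_two, c.sq t ht.1, one_mul, conj_pow, inv_pow, pow_two, c.sq t ht.1]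
      group)
    have htL : t ∈ L := by
      rw [mul_eq_one_iff_eq_inv.1 hz1]; exact inv_mem hyL
    exact (mem_centralizer_iff.1 (hKL hk) t htL).symm
  set P := Cfsg.pCore 2 X with hP
  haveI hPn : P.Normal := inferInstance
  have hPU : ∀ p ∈ P, p ∈ centralizer (U : Set X) → Commute p x := fun p hp hpU => by
    have h1 : p * x * p⁻¹ * x⁻¹ ∈ D := mul_mem ((mem_normalizer_iff.1 (hCD hpU) x).1 hx) (inv_mem hx)
    have h2 : p * x * p⁻¹ * x⁻¹ ∈ P := by
      rw [mul_assoc p x, mul_assoc]; exact mul_mem hp (hPn.conj_mem _ (inv_mem hp) x)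
    obtain ⟨k, hk⟩ := (CfsgLib.Core.isPGroup_pCore 2 X) ⟨_, h2⟩
    have h3 := hodd1 _ h1 k (congrArg Subtype.val hk)
    rw [mul_inv_eq_one, mul_inv_eq_iff_eq_mul] at h3
    exact h3
  have hxo : Odd (orderOf x) := hD.of_dvd_nat (D.orderOf_dvd_natCard hx)
  have hxP : zpowers x ≤ centralizer (P : Set X) := CfsgLib.Core.pq_lemma (p := 2) (P := U)
    (T.2.to_le (hUA.trans c.le_sylow))
    (by rw [Nat.card_zpowers]; exact Nat.coprime_two_right.2 hxo) (CfsgLib.Core.isPGroup_pCore 2 X)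
    (fun w hw => mem_centralizer_iff.2 fun y hy => by
      obtain ⟨i, rfl⟩ := mem_zpowers_iff.1 hy
      exact (Commute.zpow_left ((mem_centralizer_iff.1 (hDU hx) w hw).symm : Commute x w) i).eq)
    (fun w _ => normalizer_eq_top (H := P) ▸ mem_top w) (fun w _ => normalizer_eq_top (H := P) ▸ mem_top w)
    fun p hp => mem_centralizer_iff.2 fun y hy => by
      obtain ⟨i, rfl⟩ := mem_zpowers_iff.1 hy
      exact ((hPU p hp.1 hp.2).zpow_right i).eq.symm
  haveI := CfsgLib.Components.gFitting_normal (G := X)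
  set C := centralizer (Cfsg.generalizedFittingSubgroup X : Set X)
  have hxC : x ∈ C := by
    have hle : Cfsg.generalizedFittingSubgroup X ≤ centralizer ({x} : Set X) :=
      sup_le (CfsgLib.Components.layer_le_iff.2 fun K hK' k hk => mem_centralizer_singleton_iff.2
        (mem_centralizer_iff.1 (hcomp K hK') k hk))
        (c.fitting_eq ▸ fun p hp => mem_centralizer_singleton_iff.2
          (mem_centralizer_iff.1 (hxP (mem_zpowers x)) p hp))
    exact mem_centralizer_iff.2 fun y hy => mem_centralizer_singleton_iff.1 (hle hy)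
  have hCle : C ≤ Cfsg.generalizedFittingSubgroup X := CfsgLib.Components.centralizer_gFitting_le
  have hCn : C.Normal := inferInstance
  haveI : IsMulCommutative ↥C := ⟨⟨fun u v => Subtype.ext (mem_centralizer_iff.1 v.2 (u : X) (hCle u.2))⟩⟩
  letI : CommGroup ↥C := { (inferInstance : Group ↥C) with mul_comm := fun u v => mul_comm' u v }
  have hCf : C ≤ Cfsg.fittingSubgroup X := le_sSup ⟨hCn, inferInstance⟩
  have hx2 : x ∈ P := by rw [hP, ← c.fitting_eq]; exact hCf hxC
  obtain ⟨k, hk⟩ := (CfsgLib.Core.isPGroup_pCore 2 X) ⟨x, hx2⟩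
  exact hodd1 x hx k (congrArg Subtype.val hk)

end SecCtx

end CfsgLib.Invol.Goldschmidt
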