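import Cfsg.Agent.Lib.Invol.Goldschmidt.Sections.Point
import Cfsg.Agent.Lib.Recog.Walter.Sections.Odd
import Cfsg.Agent.Lib.Components.Char

/-!
Owner: helper18. Weights and 3-balance at the points of `A`.

* `SecCtx.centralizes_of_locBal`: `O(C(d))` centralises a locally balanced component not centralised by `d`.
* `SecCtx.card_le_four_of_odd`: on a component `PSL(2, q)`, `q` odd, `A` induces at most a four group.
* `Ctx.weight`, `Ctx.three`: the fields `weight` and `three` of `Facts`.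
-/

set_option autoImplicit false
set_option linter.style.haveILetI false

namespace CfsgLib.Invol.Goldschmidt

open Subgroup Cfsg
open scoped commutatorElement

universe u

namespace SecCtx

variable {X : Type u} [Group X] [Finite X] {T : Sylow 2 X} {A : Subgroup X} (c : SecCtx T A)

include c

/-- An element of `A` not centralising a component acts as an involution of the quotient. -/
theorem exists_inner_involution {K : Subgroup X} (h : Moved A K) {d : X} (hd : d ∈ A)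
    (hdK : d ∉ centralizer (K : Set X)) : ∃ v : ↥K, (v : X) ∈ A ∧ (v : X)⁻¹ * d ∈ centralizer (K : Set X) ∧
      orderOf (QuotientGroup.mk' (center ↥K) v) = 2 := by
  obtain ⟨v, hv, hvd⟩ := c.exists_inner h hd
  refine ⟨⟨v, hv.2⟩, hv.1, hvd, CfsgLib.Signalizer.orderOf_eq_two_of (fun e => hdK ?_) ?_⟩
  · have h1 : v ∈ centralizer (K : Set X) := by
      have := (mk_eq_iff (K := K) ⟨v, hv.2⟩ 1).1 (e.trans (map_one _).symm)
      rwa [Subgroup.coe_one, inv_one, mul_one] at this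
    simpa using mul_mem h1 hvd
  · rw [← map_mul, ← map_one (QuotientGroup.mk' (center ↥K))]
    exact congrArg _ (Subtype.ext (c.sq v hv.1))

/-- `O(C(d))` centralises a locally balanced component not centralised by `d`. -/
theorem centralizes_of_locBal {K : Subgroup X} (h : Moved A K) (hL : Walter.LocBal (↥K ⧸ center ↥K)) {d : X}
    (hd : d ∈ A) (hdK : d ∉ centralizer (K : Set X)) {E : Subgroup X} (hE : Odd (Nat.card E))
    (hEd : E ≤ centralizer ({d} : Set X)) (hdE : centralizer ({d} : Set X) ≤ normalizer (E : Set X)) {y : X}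
    (hy : y ∈ E) (hyK : y ∈ normalizer (K : Set X)) : y ∈ centralizer (K : Set X) := by
  haveI : Fact (Nat.Prime 2) := ⟨Nat.prime_two⟩
  obtain ⟨v, hvA, hvd, hv2⟩ := c.exists_inner_involution h hd hdK
  have hdk : ∀ k ∈ K, Commute k d ↔ Commute k (v : X) := fun k hk => by
    have h1 : Commute k ((v : X)⁻¹ * d) := mem_centralizer_iff.1 hvd k hk
    refine ⟨fun h2 => ?_, fun h2 => by simpa using h2.mul_right h1⟩
    have := h2.mul_right h1.inv_right
    simpa using this
  set π := QuotientGroup.mk' (center ↥K) with hπ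
  set Cv := centralizer ({π v} : Set (↥K ⧸ center ↥K)) with hCv
  set Cs := Cv.comap π with hCs
  set N := centralizer ({v} : Set ↥K) with hN
  have hNCs : N ≤ Cs := fun k hk => mem_centralizer_singleton_iff.2 (by
    rw [← map_mul, ← map_mul, mem_centralizer_singleton_iff.1 hk])
  have hzc : ∀ k ∈ Cs, ∃ z ∈ center ↥K, k * v * k⁻¹ = z * v := by
    intro k hk
    refine ⟨k * v * k⁻¹ * v⁻¹, ?_, by group⟩
    refine (QuotientGroup.eq_one_iff _).1 ?_
    show π (k * v * k⁻¹ * v⁻¹) = 1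
    rw [map_mul, map_mul, map_mul, map_inv, map_inv, mem_centralizer_singleton_iff.1 hk, mul_inv_cancel_right,
      mul_inv_cancel]
  haveI hNn : (N.subgroupOf Cs).Normal := by
    refine (normal_subgroupOf_iff_le_normalizer hNCs).2 fun k hk => mem_normalizer_fintype fun n hn => ?_
    obtain ⟨z, hz, hze⟩ := hzc k⁻¹ (inv_mem hk)
    refine mem_centralizer_singleton_iff.2 ?_
    have h1 : Commute n (k⁻¹ * v * k⁻¹⁻¹) := hze ▸ Commute.mul_right (mem_center_iff.1 hz n)
      (show Commute n v from mem_centralizer_singleton_iff.1 hn)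
    rw [inv_inv] at h1
    calc k * n * k⁻¹ * v = k * (n * (k⁻¹ * v * k)) * k⁻¹ := by group
      _ = k * (k⁻¹ * v * k * n) * k⁻¹ := by rw [h1.eq]
      _ = v * (k * n * k⁻¹) := by group
  -- odd subgroups normalised by `N` are trivial
  have hodd : ∀ W : Subgroup ↥K, Odd (Nat.card W) → W ≤ N → N ≤ normalizer (W : Set ↥K) → W = ⊥ := by
    intro W hW hWN hNW
    set N' := N.subgroupOf Cs
    set W' := (W.subgroupOf Cs).subgroupOf N' with hW'
    haveI hW'n : W'.Normal := ⟨fun w hw g =>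
      (mem_normalizer_iff.1 (hNW (g.2 : ((g : ↥Cs) : ↥K) ∈ N)) _).1 hw⟩
    have hW'o : Odd (Nat.card W') := hW.of_dvd_nat
      ((card_comap_dvd_of_injective _ _ N'.subtype_injective).trans
        (card_comap_dvd_of_injective _ _ Cs.subtype_injective))
    haveI : (oddCore ↥N').Characteristic := CfsgLib.Components.pPrimeCore_characteristic 2
    set O := (oddCore ↥N').map N'.subtype with hO
    haveI hOn : O.Normal := ConjAct.normal_of_characteristic_of_normal
    have hfs : Function.Surjective (π.subgroupComap Cv) :=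
      MonoidHom.subgroupComap_surjective_of_surjective _ _ (QuotientGroup.mk'_surjective _)
    haveI := hOn.map (π.subgroupComap Cv) hfs
    have hb : O.map (π.subgroupComap Cv) = ⊥ := le_bot_iff.1 ((hL.core _ hv2) ▸ CfsgLib.ZStar.le_oddCore
      inferInstance ((CfsgLib.ZStar.odd_card_oddCore ↥N').of_dvd_nat
        ((card_map_dvd _ _).trans (card_map_dvd _ _))))
    refine (eq_bot_iff_forall _).2 fun w hw => ?_
    have h1 : (⟨⟨w, hNCs (hWN hw)⟩, hWN hw⟩ : ↥N') ∈ oddCore ↥N' :=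
      CfsgLib.ZStar.le_oddCore hW'n hW'o hw
    have h2 : π.subgroupComap Cv ⟨w, hNCs (hWN hw)⟩ = 1 := by
      rw [← mem_bot, ← hb]
      exact mem_map_of_mem _ ⟨_, h1, rfl⟩
    have h3 : π w = 1 := congrArg Subtype.val h2
    have hz : (w : X) ∈ K ⊓ centralizer (K : Set X) := ⟨w.2, mem_centralizer_iff.2 fun k hk =>
      congrArg Subtype.val (mem_center_iff.1 ((QuotientGroup.eq_one_iff _).1 h3) ⟨k, hk⟩)⟩
    obtain ⟨j, hj⟩ := IsPGroup.iff_orderOf.1 (CfsgLib.Core.isPGroup_pCore 2 X) ⟨(w : X), c.center_le h.1 hz⟩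
    rw [Subgroup.orderOf_mk, Subgroup.orderOf_coe] at hj
    exact orderOf_eq_one_iff.1 (Nat.eq_one_of_dvd_coprimes
      ((Nat.coprime_two_left.2 (hW.of_dvd_nat (W.orderOf_dvd_natCard hw))).pow_left j) (hj ▸ dvd_rfl) dvd_rfl)
  have hNd : ∀ k : ↥K, k ∈ N → (k : X) ∈ centralizer ({d} : Set X) := fun k hk =>
    mem_centralizer_singleton_iff.2 ((hdk k k.2).2 (congrArg Subtype.val (mem_centralizer_singleton_iff.1 hk))).eq
  have hEK : E.subgroupOf K = ⊥ := by
    refine hodd _ (hE.of_dvd_nat (card_comap_dvd_of_injective _ _ K.subtype_injective))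
      (fun w hw => mem_centralizer_singleton_iff.2 (Subtype.ext ((hdk w w.2).1
        (mem_centralizer_singleton_iff.1 (hEd hw))).eq))
      fun k hk => mem_normalizer_fintype fun w hw => (mem_normalizer_iff.1 (hdE (hNd k hk)) (w : X)).1 hw
  set φ : MulAut ↥K := MulDistribMulAction.toMulAut ↥(normalizer (K : Set X)) ↥K ⟨y, hyK⟩
  have hφv : ∀ k : ↥K, ((φ k : ↥K) : X) = y * (k : X) * y⁻¹ := fun k => rfl
  have hφN : ∀ k : ↥K, k ∈ N → φ k = k := by
    intro k hk
    have h1 : (φ k) * k⁻¹ ∈ E.subgroupOf K := by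
      show y * (k : X) * y⁻¹ * (k : X)⁻¹ ∈ E
      rw [show y * (k : X) * y⁻¹ * (k : X)⁻¹ = y * ((k : X) * y⁻¹ * (k : X)⁻¹) by group]
      exact mul_mem hy ((mem_normalizer_iff.1 (hdE (hNd k hk)) _).1 (inv_mem hy))
    rw [hEK, mem_bot] at h1
    exact mul_inv_eq_one.1 h1
  have hoddφ : Odd (orderOf φ) := (hE.of_dvd_nat (E.orderOf_dvd_natCard hy)).of_dvd_nat
    ((orderOf_map_dvd (MulDistribMulAction.toMulAut ↥(normalizer (K : Set X)) ↥K) ⟨y, hyK⟩).trans
      (by rw [Subgroup.orderOf_mk]))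
  have hvN : v ∈ N := mem_centralizer_singleton_iff.2 rfl
  have hφCs : ∀ k ∈ Cs, φ k = k := by
    intro k hk
    obtain ⟨z, hz, hze⟩ := hzc k hk
    have hzN : z ∈ N := mem_centralizer_singleton_iff.2 (mem_center_iff.1 hz v).symm
    set w := k⁻¹ * φ k with hw
    have hc1 : ∀ n ∈ N, φ k * n * (φ k)⁻¹ = k * n * k⁻¹ := by
      intro n hn
      have h1 : k * n * k⁻¹ ∈ N := by
        have := hNn.conj_mem ⟨n, hNCs hn⟩ hn ⟨k, hk⟩
        exact this
      calc φ k * n * (φ k)⁻¹ = φ k * φ n * (φ k)⁻¹ := by rw [hφN n hn]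
        _ = φ (k * n * k⁻¹) := by rw [map_mul, map_mul, map_inv]
        _ = _ := hφN _ h1
    have hwc : ∀ n ∈ N, Commute w n := fun n hn => by
      show k⁻¹ * φ k * n = n * (k⁻¹ * φ k)
      calc k⁻¹ * φ k * n = k⁻¹ * (φ k * n * (φ k)⁻¹) * φ k := by group
        _ = k⁻¹ * (k * n * k⁻¹) * φ k := by rw [hc1 n hn]
        _ = n * (k⁻¹ * φ k) := by group
    have hwN : w ∈ N := mem_centralizer_singleton_iff.2 (hwc v hvN).eq
    have hpow : ∀ i : ℕ, (φ ^ i) k = k * w ^ i := by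
      intro i
      induction i with
      | zero => simp
      | succ i ih => rw [pow_succ', MulAut.mul_apply, ih, map_mul, map_pow, hφN w hwN,
          show φ k = k * w by rw [hw, mul_inv_cancel_left], mul_assoc, ← pow_succ']
    have hw1 : w ^ orderOf φ = 1 := by
      have := hpow (orderOf φ)
      rw [pow_orderOf_eq_one, MulAut.one_apply] at this
      exact left_eq_mul.1 this
    have hbot : zpowers w = ⊥ := by
      refine hodd _ ?_ (zpowers_le.2 hwN) fun n hn => mem_normalizer_fintype fun r hr => ?_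
      · rw [Nat.card_zpowers]; exact hoddφ.of_dvd_nat (orderOf_dvd_of_pow_eq_one hw1)
      · obtain ⟨i, rfl⟩ := mem_zpowers_iff.1 hr
        rw [← ((hwc n hn).zpow_left i).eq, mul_inv_cancel_right]
        exact zpow_mem (mem_zpowers w) i
    rw [zpowers_eq_bot, hw, inv_mul_eq_one] at hbot
    exact hbot.symm
  have hα : CfsgLib.Signalizer.autModCenter ↥K φ = 1 := by
    refine hL.fix _ hv2 _ (hoddφ.of_dvd_nat (orderOf_map_dvd _ φ)) fun q hq => ?_
    obtain ⟨k, rfl⟩ := QuotientGroup.mk'_surjective _ q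
    exact congrArg π (hφCs k hq)
  refine centralizes_of_mod h.1 fun k hk => ?_
  have h1 : π (φ ⟨k, hk⟩) = π ⟨k, hk⟩ := by
    show CfsgLib.Signalizer.autModCenter ↥K φ (π ⟨k, hk⟩) = _
    rw [hα]; rfl
  exact ⟨K.mul_mem ((mem_normalizer_iff.1 hyK k).1 hk) (K.inv_mem hk), (mk_eq_iff _ _).1 h1⟩

/-- On a component of type `PSL(2, q)`, `q` odd, `A` induces at most a four group. -/
theorem card_le_four_of_odd {K : Subgroup X} (h : Moved A K) (hK : Walter.IsOddType (↥K ⧸ center ↥K))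
    {D : Subgroup X} (hD : D ≤ A) (hDK : ∀ d ∈ D, d ∈ centralizer (K : Set X) → d = 1) : Nat.card D ≤ 4 := by
  haveI : Fact (Nat.Prime 2) := ⟨Nat.prime_two⟩
  obtain ⟨P, -, hB, -⟩ := c.exists_quot h
  set π := QuotientGroup.mk' (center ↥K) with hπ
  have hex : ∀ d : ↥D, ∃ v : ↥K, (v : X) ∈ A ∧ (v : X)⁻¹ * d ∈ centralizer (K : Set X) := fun d => by
    obtain ⟨v, hv, hvd⟩ := c.exists_inner h (hD d.2)
    exact ⟨⟨v, hv.2⟩, hv.1, hvd⟩
  choose f hfA hfd using hex
  rw [← Walter.Sections.card_sylow hK.pslData P]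
  refine Nat.card_le_card_of_injective (fun d => (⟨π (f d),
    hB.closed.1 (mem_map_of_mem π (mem_subgroupOf.2 ⟨hfA d, (f d).2⟩))⟩ : ↥(P : Subgroup (↥K ⧸ center ↥K))))
    fun d e hde => ?_
  have h1 : (f d : X) * (f e : X)⁻¹ ∈ centralizer (K : Set X) := (mk_eq_iff _ _).1 (congrArg Subtype.val hde)
  have h2 := mul_mem (mul_mem h1 (hfd d)) (inv_mem (hfd e))
  have h3 : (f d : X) * (f e : X)⁻¹ * ((f d : X)⁻¹ * d) * ((f e : X)⁻¹ * e)⁻¹ = d * (e : X)⁻¹ := by
    rw [c.comm _ (hfA d) _ (inv_mem (hfA e)), mul_inv_rev, inv_inv]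
    rw [show (f e : X)⁻¹ * f d * ((f d : X)⁻¹ * d) * ((e : X)⁻¹ * f e) = (f e : X)⁻¹ * (d * (e : X)⁻¹ * f e) by group,
      ← c.comm _ (hfA e) _ (mul_mem (hD d.2) (inv_mem (hD e.2))), inv_mul_cancel_left]
  rw [h3] at h2
  exact Subtype.ext (mul_inv_eq_one.1 (hDK _ (D.mul_mem d.2 (D.inv_mem e.2)) h2))

end SecCtx

namespace Point

open CfsgLib.FTDep (coreCent coreCent_odd coreCent_le coreCent_norm)

variable {G : Type u} [Group G] [Finite G]

omit [Finite G] in
theorem odd_img {E : Subgroup G} (a : G) (hE : Odd (Nat.card E)) : Odd (Nat.card (img a E)) :=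
  hE.of_dvd_nat ((card_map_dvd _ _).trans (card_comap_dvd_of_injective _ _ (Cq a).subtype_injective))

namespace Ctx

variable {S : Sylow 2 G} {A : Subgroup G} (c : Ctx S A)

include c

theorem core_data {b : G} (hb : b ∈ A) {U : Subgroup G} (hU : U ≤ A) {E : Subgroup G}
    (hE : E ≤ centralizer (U : Set G)) (hn : centralizer (U : Set G) ≤ normalizer (E : Set G)) :
    img b E ≤ centralizer (img b U : Set (Quo b)) ∧
      centralizer (img b U : Set (Quo b)) ≤ normalizer (img b E : Set (Quo b)) := by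
  rw [c.centralizer_img hU hb]
  refine ⟨map_mono (comap_mono hE), fun q hq => ?_⟩
  obtain ⟨g, hg, hgU, rfl⟩ := mem_img.1 hq
  refine mem_normalizer_fintype fun w hw => ?_
  obtain ⟨e, he, heE, rfl⟩ := mem_img.1 hw
  refine mem_img.2 ⟨g * e * g⁻¹, (Cq b).mul_mem ((Cq b).mul_mem hg he) ((Cq b).inv_mem hg),
    (mem_normalizer_iff.1 (hn hgU) e).1 heE, ?_⟩
  rw [← map_inv, ← map_mul, ← map_mul]; rfl

/-- The field `weight` of `Facts`. -/
theorem weight {U : Subgroup G} (hU : U ≤ A) {x : G} (hx : x ∈ coreCent (U : Set G)) {a : G} (ha : a ∈ A)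
    (ha1 : a ≠ 1) (hxa : Commute x a)
    (hyp : ∀ K : Subgroup (Quo a), Moved (img a A) K → U ≤ Ck A a K ∨ ∃ h ∈ Ck A a K, h * x * h⁻¹ = x⁻¹) :
    x ∈ coreCent ({a} : Set G) := by
  obtain ⟨T, s⟩ := c.exists_secCtx ha ha1
  obtain ⟨hD1, hD2⟩ := c.core_data ha hU (coreCent_le _) (coreCent_norm _)
  have hxC : x ∈ Cq a := mem_centralizer_singleton_iff.2 hxa.eq
  refine (mem_coreCent_iff hxC).2 (s.eq_one_of_weight (map_mono (comap_mono hU)) (odd_img a (coreCent_odd _))
    hD1 hD2 (mem_img.2 ⟨x, hxC, hx, rfl⟩) fun K hK hxn hUK => ?_)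
  rcases hyp K hK with h | ⟨h, hh, hhx⟩
  · refine absurd ?_ hUK
    intro w hw
    obtain ⟨f, hf, hfU, rfl⟩ := mem_img.1 hw
    exact ((c.mem_Ck ha).1 (h hfU)).2
  obtain ⟨hhA, hhK⟩ := (c.mem_Ck ha).1 hh
  set q := pr a ⟨h, c.le_cq ha hhA⟩
  set y := pr a ⟨x, hxC⟩ with hyd
  have hqy : q * y * q⁻¹ = y⁻¹ := by
    rw [← map_inv, ← map_inv, ← map_mul, ← map_mul]
    exact congrArg _ (Subtype.ext hhx)
  have hyo : Odd (orderOf y) := ((coreCent_odd _).of_dvd_nat ((coreCent (U : Set G)).orderOf_dvd_natCard hx)).of_dvd_nat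
    ((orderOf_map_dvd (pr a) ⟨x, hxC⟩).trans (by rw [Subgroup.orderOf_mk]))
  refine mem_centralizer_iff.2 fun k hk => ?_
  have h1 : y * k * y⁻¹ ∈ K := (mem_normalizer_iff.1 hxn k).1 hk
  have h2 : Commute (y ^ 2) k := by
    have e : q * (y * k * y⁻¹) * q⁻¹ = y * k * y⁻¹ := by
      rw [← mem_centralizer_iff.1 hhK _ h1, mul_inv_cancel_right]
    have e' : q * k * q⁻¹ = k := by rw [← mem_centralizer_iff.1 hhK _ hk, mul_inv_cancel_right]
    rw [show q * (y * k * y⁻¹) * q⁻¹ = (q * y * q⁻¹) * (q * k * q⁻¹) * (q * y * q⁻¹)⁻¹ by group, hqy, e',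
      inv_inv] at e
    show y ^ 2 * k = k * y ^ 2
    calc y ^ 2 * k = y * (y * k * y⁻¹) * y := by rw [pow_two]; group
      _ = y * (y⁻¹ * k * y) * y := by rw [e]
      _ = k * y ^ 2 := by rw [pow_two]; group
  obtain ⟨i, hi⟩ := hyo
  have h3 : (y ^ 2) ^ (i + 1) = y := by
    rw [← pow_mul, show 2 * (i + 1) = orderOf y + 1 by omega, pow_succ, pow_orderOf_eq_one, one_mul]
  exact (h3 ▸ h2.pow_left (i + 1)).eq.symm

/-- The field `three` of `Facts`. -/
theorem three {D : Subgroup G} (hD : D ≤ A) (hD8 : Nat.card D = 8) {b : G} (hb : b ∈ A) (hb1 : b ≠ 1) {x : G}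
    (hxb : Commute x b) (hx : ∀ d ∈ D, d ≠ 1 → x ∈ coreCent ({d} : Set G)) : x ∈ coreCent ({b} : Set G) := by
  obtain ⟨T, s⟩ := c.exists_secCtx hb hb1
  have hxC : x ∈ Cq b := mem_centralizer_singleton_iff.2 hxb.eq
  have hdata : ∀ d ∈ D, img b (coreCent ({d} : Set G)) ≤ centralizer (img b (zpowers d) : Set (Quo b)) ∧
      centralizer (img b (zpowers d) : Set (Quo b)) ≤ normalizer (img b (coreCent ({d} : Set G)) : Set (Quo b)) := by
    intro d hd
    refine c.core_data hb (zpowers_le.2 (hD hd)) ?_ ?_ <;>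
      rw [zpowers_eq_closure, centralizer_closure]
    · exact coreCent_le _
    · exact coreCent_norm _
  have hzd : ∀ d, ∀ hd : d ∈ D, centralizer (img b (zpowers d) : Set (Quo b)) =
      centralizer ({pr b ⟨d, c.le_cq hb (hD hd)⟩} : Set (Quo b)) := by
    intro d hd
    refine le_antisymm (centralizer_le (Set.singleton_subset_iff.2
      (mem_img.2 ⟨d, _, mem_zpowers d, rfl⟩))) fun q hq => mem_centralizer_iff.2 fun w hw => ?_
    obtain ⟨e, he, hed, rfl⟩ := mem_img.1 hw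
    obtain ⟨i, rfl⟩ := mem_zpowers_iff.1 hed
    rw [show (⟨d ^ i, he⟩ : ↥(Cq b)) = ⟨d, c.le_cq hb (hD hd)⟩ ^ i from rfl, map_zpow]
    exact ((show Commute q (pr b ⟨d, c.le_cq hb (hD hd)⟩) from mem_centralizer_singleton_iff.1 hq).zpow_right i).eq.symm
  obtain ⟨d₀, hd₀, hd₀1⟩ := (bot_or_exists_ne_one D).resolve_left fun e => by
    rw [e, card_bot] at hD8; omega
  refine (mem_coreCent_iff hxC).2 (s.eq_one_of_weight (map_mono (comap_mono (zpowers_le.2 (hD hd₀))))
    (odd_img b (coreCent_odd _)) (hdata d₀ hd₀).1 (hdata d₀ hd₀).2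
    (mem_img.2 ⟨x, hxC, hx d₀ hd₀ hd₀1, rfl⟩) fun K hK hxn _ => ?_)
  by_cases hex : ∃ d ∈ D, d ≠ 1 ∧ d ∈ Ck A b K
  · obtain ⟨d, hd, hd1, hdK⟩ := hex
    have hKn : K ≤ normalizer (img b (coreCent ({d} : Set G)) : Set (Quo b)) := by
      refine le_trans ?_ (hdata d hd).2
      rw [hzd d hd]
      exact fun k hk => mem_centralizer_singleton_iff.2 (mem_centralizer_iff.1 ((c.mem_Ck hb).1 hdK).2 k hk)
    exact commutator_eq_bot_iff_le_centralizer.1 (commutator_comm (img b (coreCent ({d} : Set G))) K ▸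
      CfsgLib.Components.component_commutes_of_solvable_invariant hK.1
        (Cfsg.Agent.S0205.result (odd_img b (coreCent_odd _))) hKn) (mem_img.2 ⟨x, hxC, hx d hd hd1, rfl⟩)
  push Not at hex
  rcases (s.gold K hK.1 (s.not_le_center hK)).balanced with ho | hl
  · have h4 := s.card_le_four_of_odd hK ho (D := img b D) (map_mono (comap_mono hD)) fun w hw hwK => by
      obtain ⟨d, hdC, hd, rfl⟩ := mem_img.1 hw
      by_contra hne
      exact hex d hd (fun e => hne (by subst e; exact map_one (pr b))) ((c.mem_Ck hb).2 ⟨hD hd, hwK⟩)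
    have h8 : Nat.card D ≤ Nat.card (img b D) := Nat.card_le_card_of_injective
      (fun d : ↥D => (⟨pr b ⟨d, c.le_cq hb (hD d.2)⟩, mem_img.2 ⟨d, _, d.2, rfl⟩⟩ : ↥(img b D)))
      fun d e h => Subtype.ext (c.pr_inj (hD d.2) (hD e.2) (congrArg Subtype.val h))
    omega
  have hdK : pr b ⟨d₀, c.le_cq hb (hD hd₀)⟩ ∉ centralizer (K : Set (Quo b)) := fun h =>
    hex d₀ hd₀ hd₀1 ((c.mem_Ck hb).2 ⟨hD hd₀, h⟩)
  refine s.centralizes_of_locBal hK hl (c.mem_img_A hb (hD hd₀)) hdK (odd_img b (coreCent_odd _)) ?_ ?_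
    (mem_img.2 ⟨x, hxC, hx d₀ hd₀ hd₀1, rfl⟩) hxn
  · exact hzd d₀ hd₀ ▸ (hdata d₀ hd₀).1
  · exact hzd d₀ hd₀ ▸ (hdata d₀ hd₀).2

end Ctx

end Point

end CfsgLib.Invol.Goldschmidt
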