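import Cfsg.Agent.Lib.Invol.Goldschmidt.Sections.BlockFacts
import Cfsg.Agent.Lib.Invol.Goldschmidt.Sections.Weight
import Cfsg.Agent.Lib.Invol.Goldschmidt.Sections.LocalWalter
import Cfsg.Agent.Lib.Invol.Goldschmidt.Assembly

/-!
Owner: helper14. Slice I of S1169: the facts hold for the pairs of a minimal counterexample.
-/

set_option autoImplicit false
set_option linter.style.haveILetI false

namespace CfsgLib.Invol.Goldschmidt.Point.Ctx

open Subgroup Cfsg

universe u

variable {G : Type u} [Group G] [Finite G] {S : Sylow 2 G} {A : Subgroup G} (c : Ctx S A)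

include c

theorem four_le_Vk {a : G} {V C : Subgroup G} (h : Pair A a V C) : 4 ≤ Nat.card V := by
  have hs := c.preFacts.sup h
  have h4 := c.preFacts.four h
  obtain ⟨ha, ha1, K, hK, rfl, rfl⟩ := h
  have hN : Vk A a K ≤ normalizer (Ck A a K : Set G) := fun v hv => mem_normalizer_fintype fun x hx => by
    rw [c.comm (c.Vk_le ha ha1 hK hv) hx.1, mul_inv_cancel_right]
    exact hx
  have h1 := CfsgLib.Core.card_sup_mul_card_inf (Vk A a K) (Ck A a K) hN
  rw [hs, c.inf_eq_bot ha ha1 hK, Subgroup.card_bot, mul_one] at h1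
  have h2 : Nat.card (Ck A a K) * (Ck A a K).relIndex A = Nat.card A := by
    rw [← Nat.card_congr (subgroupOfEquivOfLe (show Ck A a K ≤ A from inf_le_left)).toEquiv]
    exact card_mul_index _
  rw [h1, mul_comm (Nat.card (Vk A a K))] at h2
  rw [Nat.eq_of_mul_eq_mul_left Nat.card_pos h2] at h4
  exact h4

/-- The facts of the spine. -/
theorem facts : CfsgLib.Invol.Goldschmidt.Facts A (Pair A) where
  mem h := c.preFacts.mem h
  sup h := c.preFacts.sup h
  inf := by
    rintro a V C ⟨ha, ha1, K, hK, rfl, rfl⟩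
    exact c.inf_eq_bot ha ha1 hK
  four h := c.four_le_Vk h
  pump h hu hu1 := by
    obtain ⟨V', C', hP, hV, hC, -⟩ := c.preFacts.pump h hu hu1
    exact ⟨V', C', hP, hV, hC⟩
  same h h' := c.preFacts.same h h'
  conj h n hn := (c.preFacts.conj h n hn).1
  homology := by
    rintro a V C ⟨ha, ha1, K, hK, rfl, rfl⟩ b hb hb1 b' hb' hb1'
    exact c.homology ha ha1 hK hb hb1 hb' hb1'
  cover a ha ha1 M hO hN hC := c.cover ha ha1 hO hN hC
  weight U hU _ x hx a ha ha1 hxa hyp := c.weight hU hx ha ha1 hxa fun K hK =>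
    hyp _ _ ⟨ha, ha1, K, hK, rfl, rfl⟩
  three D hD hD8 b hb hb1 x hxb hx := c.three hD hD8 hb hb1 hxb hx
  perfect := by
    rintro V C ⟨hC, hP⟩
    obtain ⟨u, hu, hu1⟩ := (bot_or_exists_ne_one C).resolve_left hC
    obtain ⟨ha, ha1, K, hK, rfl, rfl⟩ := hP u hu hu1
    exact c.perfect ha ha1 hK
  commute := by
    rintro V C V' C' hs hs' hne x hx hx' hx1
    obtain ⟨ha, ha1, K, hK, rfl, rfl⟩ := hs.2 x hx hx1
    obtain ⟨-, -, L, hL, rfl, rfl⟩ := hs'.2 x hx' hx1
    exact c.commute ha ha1 hK hL fun e => hne (e ▸ rfl)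
  fix := by
    rintro V C hs x hx hx1 g hg hgV
    obtain ⟨ha, ha1, K, hK, rfl, rfl⟩ := hs.2 x hx hx1
    exact c.fix ha ha1 hK hg hgV

end CfsgLib.Invol.Goldschmidt.Point.Ctx

namespace CfsgLib.Invol.Goldschmidt

universe u

/-- Slice I of S1169. -/
theorem factsStep : FactsStep.{u} := fun _ _ _ _ _ hsm hS => (Point.Ctx.mk hS hsm localStep).facts

end CfsgLib.Invol.Goldschmidt
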