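import Cfsg.Agent.Lib.Invol.Goldschmidt.Spine
import Cfsg.Agent.Lib.Recog.Walter.LocBal
import Cfsg.Agent.Lib.Invol.CentralMeet.Models

/-!
Owner: helper14. The facts on the simple components of a centralizer used in the proof of S1169 (proved in
LocalWalter.lean).
-/

set_option autoImplicit false

namespace CfsgLib.Invol.Goldschmidt

open Subgroup

universe u

/-- A nontrivial elementary abelian subgroup strongly closed in the Sylow subgroup `T`. -/
structure ClosedElem {K : Type u} [Group K] (T : Sylow 2 K) (B : Subgroup K) : Prop where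
  ne : B ≠ ⊥
  comm : IsMulCommutative B
  sq : ∀ x ∈ B, x * x = 1
  closed : Cfsg.IsStronglyClosed B (T : Subgroup K)

/-- The local facts on a group of `GoldType`. -/
structure GoldLocal (K : Type u) [Group K] : Prop where
  /-- `B` consists of the involutions of `T`. -/
  involutions : ∀ (T : Sylow 2 K) (B : Subgroup K), ClosedElem T B →
    ∀ x ∈ (T : Subgroup K), orderOf x = 2 → x ∈ B
  central : ∀ (T : Sylow 2 K) (B : Subgroup K), ClosedElem T B →
    ∀ b ∈ B, ∀ x ∈ (T : Subgroup K), x * b = b * x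
  abelian : ∀ (T : Sylow 2 K) (B : Subgroup K), ClosedElem T B → IsMulCommutative (T : Subgroup K) →
    B = (T : Subgroup K)
  four : ∀ (T : Sylow 2 K) (B : Subgroup K), ClosedElem T B → 4 ≤ Nat.card B
  /-- A cyclic group of odd order normalising `B`, transitive on its involutions; an element fixing one of them
  centralises `B`. -/
  torus : ∀ (T : Sylow 2 K) (B : Subgroup K), ClosedElem T B →
    ∃ H : Subgroup K, IsCyclic H ∧ Odd (Nat.card H) ∧ H ≤ normalizer (B : Set K) ∧
      (∀ b ∈ B, b ≠ 1 → ∀ b' ∈ B, b' ≠ 1 → ∃ h ∈ H, h * b * h⁻¹ = b') ∧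
      ∀ h ∈ H, ∀ b ∈ B, b ≠ 1 → h * b * h⁻¹ = b → ∀ b' ∈ B, h * b' * h⁻¹ = b'
  /-- An involutory automorphism centralising `B` and `T / B` is inner by an element of `B`. -/
  inner : ∀ (T : Sylow 2 K) (B : Subgroup K), ClosedElem T B → ∀ β : MulAut K, β * β = 1 →
    (∀ x ∈ B, β x = x) → (∀ x ∈ (T : Subgroup K), β x * x⁻¹ ∈ B) →
      ∃ b ∈ B, β = MulAut.conj b
  /-- A component of rank two has abelian Sylow 2-subgroups or only odd covers. -/
  small : ∀ (T : Sylow 2 K) (B : Subgroup K), ClosedElem T B → Nat.card B = 4 →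
    IsMulCommutative (T : Subgroup K) ∨ CentralMeet.OddCover K
  balanced : Walter.IsOddType K ∨ Walter.LocBal K

/-- The slice: the facts hold. -/
def LocalStep : Prop :=
  ∀ (K : Type u) [Group K] [Finite K] [IsSimpleGroup K], ¬ IsMulCommutative K → GoldType K → GoldLocal K

end CfsgLib.Invol.Goldschmidt
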