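import Cfsg.Agent.Lib.Invol.Goldschmidt.Sections.Local
import Cfsg.Agent.Lib.Invol.Goldschmidt.RankTwoCase.Embedded
import Cfsg.Agent.Lib.TwoFusion.StructGold.Families
import Cfsg.Agent.Lib.Lie.RankOneClass.Coord
import Cfsg.Agent.Lib.Lie.RankOneClass.Induction

/-!
Owner: helper18. S1169, LocalStep: a simple group with a strongly embedded subgroup has the local facts.

* `inner`: after composing with a translation the automorphism fixes a second point, so centralises the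
  stabiliser `D` of two points; its defect `T → B` is then equivariant, so zero (`SylFacts.noTwist`).
* `torus`: the inverted elements of `Coord`.
-/

set_option autoImplicit false
set_option linter.unusedSectionVars false
set_option linter.style.haveILetI false

namespace CfsgLib.Invol.Goldschmidt

open Subgroup
open CfsgLib.Goldschmidt.RankTwoCase (embedded_conj balanced_of_embedded)
open CfsgLib.TwoFusion.StructGold (Good SylFacts good_SL_two good_unitary good_suzuki)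
open CfsgLib.Signalizer (involution_sq involution_ne_one orderOf_eq_two_of orderOf_conj)

universe u

variable {K : Type u} [Group K] [Finite K]

/-- The elements of order at most two of a Sylow 2-subgroup. -/
theorem mem_iff_of_conj (hconj : ∀ x y : K, orderOf x = 2 → orderOf y = 2 → IsConj x y) {T : Sylow 2 K}
    {B : Subgroup K} (hB : ClosedElem T B) {x : K} : x ∈ B ↔ x ∈ (T : Subgroup K) ∧ x * x = 1 := by
  refine ⟨fun hx => ⟨hB.closed.1 hx, hB.sq x hx⟩, fun ⟨hxT, hxx⟩ => ?_⟩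
  by_cases hx1 : x = 1
  · exact hx1 ▸ one_mem B
  obtain ⟨b, hb, hb1⟩ := (bot_or_exists_ne_one B).resolve_left hB.ne
  obtain ⟨g, hg⟩ := isConj_iff.1 (hconj b x (orderOf_eq_two_of hb1 (hB.sq b hb)) (orderOf_eq_two_of hx1 hxx))
  exact hg ▸ hB.closed.2 b hb g (hg.symm ▸ hxT)

theorem two_dvd_card_of_closed {T : Sylow 2 K} {B : Subgroup K} (hB : ClosedElem T B) : 2 ∣ Nat.card K := by
  obtain ⟨b, hb, hb1⟩ := (bot_or_exists_ne_one B).resolve_left hB.ne
  exact orderOf_eq_two_of hb1 (hB.sq b hb) ▸ orderOf_dvd_natCard b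

/-- `B` has at least four elements. -/
theorem four_of_conj [IsSimpleGroup K] (hna : ¬ IsMulCommutative K)
    (hconj : ∀ x y : K, orderOf x = 2 → orderOf y = 2 → IsConj x y) (T : Sylow 2 K) (B : Subgroup K)
    (hB : ClosedElem T B) : 4 ≤ Nat.card B := by
  classical
  haveI : Fact (Nat.Prime 2) := ⟨Nat.prime_two⟩
  obtain ⟨u, v, hu, hv, huv, hc⟩ :=
    CfsgLib.Orders.EPPOPrimes.exists_commuting_involutions hna (two_dvd_card_of_closed hB)
  obtain ⟨P, hP⟩ := ((CfsgLib.Signalizer.isPGroup_zpowers_involution hu).to_sup_of_normal_right'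
    (CfsgLib.Signalizer.isPGroup_zpowers_involution hv) (zpowers_le.2 (mem_normalizer_iff_map_conj_eq.2 (by
      rw [MonoidHom.map_zpowers]
      show zpowers (u * v * u⁻¹) = _
      rw [hc, mul_inv_cancel_right])))).exists_le_sylow
  obtain ⟨g, hg⟩ := MulAction.exists_smul_eq K P T
  have hmem : ∀ x ∈ zpowers u ⊔ zpowers v, x * x = 1 → g * x * g⁻¹ ∈ B := fun x hx hxx =>
    (mem_iff_of_conj hconj hB).2 ⟨by
      rw [← hg, Sylow.coe_subgroup_smul]
      exact ⟨x, hP hx, rfl⟩, by rw [conj_mul, hxx]; group⟩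
  have h1 := hmem u (mem_sup_left (mem_zpowers u)) (involution_sq hu)
  have h2 := hmem v (mem_sup_right (mem_zpowers v)) (involution_sq hv)
  set u' := g * u * g⁻¹
  set v' := g * v * g⁻¹
  have hu' : u' ≠ 1 := fun e => involution_ne_one hu (conj_eq_one_iff.1 e)
  have hv' : v' ≠ 1 := fun e => involution_ne_one hv (conj_eq_one_iff.1 e)
  have huv' : u' ≠ v' := fun e => huv (by simpa [u', v'] using e)
  let f : Fin 4 → B := ![1, ⟨u', h1⟩, ⟨v', h2⟩, ⟨u', h1⟩ * ⟨v', h2⟩]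
  have h3 : u' * v' ≠ 1 := fun e => huv' (by
    rw [eq_inv_of_mul_eq_one_left e, inv_eq_of_mul_eq_one_right (hB.sq _ h2)])
  have hf : Function.Injective f := by
    intro i j hij
    have hij' := congrArg Subtype.val hij
    fin_cases i <;> fin_cases j <;>
      simp [f, hu', hv', huv', huv'.symm, Ne.symm hu', Ne.symm hv', h3, Ne.symm h3, left_eq_mul,
        right_eq_mul] at hij' ⊢
  simpa using Nat.card_le_card_of_injective f hf

variable [IsSimpleGroup K] {H : Subgroup K}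

/-- A strongly embedded subgroup in which the given Sylow subgroup is normal and regular. -/
theorem exists_regular_sylow (hH : Cfsg.IsStronglyEmbedded H) (T : Sylow 2 K) :
    ∃ M : Subgroup K, Cfsg.IsStronglyEmbedded M ∧ (T : Subgroup K) ≤ M ∧
      M = normalizer ((T : Subgroup K) : Set K) ∧
      (∀ g₁ g₂ : K, g₁ ∉ M → g₂ ∉ M → ∃ u ∈ (T : Subgroup K), g₂⁻¹ * (u * g₁) ∈ M) ∧
      ∀ g : K, g ∉ M → ∀ u ∈ (T : Subgroup K), g⁻¹ * (u * g) ∈ M → u = 1 := by
  haveI : Fact (Nat.Prime 2) := ⟨Nat.prime_two⟩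
  obtain ⟨U₀, hU₀H, -, -, hU₀, -, -, -⟩ := CfsgLib.Bender.simple_regular CfsgLib.Bender.benderGen.{u} hH
  obtain ⟨g, hg⟩ := MulAction.exists_smul_eq K (Sylow.ofCard U₀ hU₀) T
  set M := H.map (MulAut.conj g).toMonoidHom
  have hM : Cfsg.IsStronglyEmbedded M := embedded_conj hH g
  have hTM : (T : Subgroup K) ≤ M := by
    rw [← hg, Sylow.coe_subgroup_smul, Sylow.coe_ofCard]
    rintro _ ⟨x, hx, rfl⟩
    exact ⟨x, hU₀H hx, rfl⟩
  obtain ⟨U, -, hUn, hUp, hU, htr, hfree, s, -, -, -, hs2, -⟩ :=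
    CfsgLib.Bender.simple_regular CfsgLib.Bender.benderGen.{u} hM
  have hUT : U = (T : Subgroup K) := by
    have hsup : IsPGroup 2 ((T : Subgroup K) ⊔ U : Subgroup K) := T.2.to_sup_of_normal_right' hUp (hTM.trans hUn)
    have h1 : (T : Subgroup K) ⊔ U = (T : Subgroup K) := T.3 hsup le_sup_left
    refine eq_of_le_of_card_ge (le_sup_right.trans h1.le) ?_
    rw [hU, T.card_eq_multiplicity]
  subst hUT
  obtain ⟨⟨v, hvT⟩, hv2⟩ := exists_prime_orderOf_dvd_card' (G := ↥(T : Subgroup K)) 2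
    (T.dvd_card_of_dvd_card (hs2 ▸ orderOf_dvd_natCard s))
  rw [Subgroup.orderOf_mk] at hv2
  refine ⟨M, hM, hTM, le_antisymm hUn fun x hx => ?_, htr, hfree⟩
  by_contra hxM
  exact involution_ne_one hv2 (hfree x hxM v hvT (by
    rw [← mul_assoc]; exact hTM ((mem_normalizer_iff''.1 hx v).1 hvT)))

/-- An involution lies in the centre of some Sylow 2-subgroup. -/
theorem exists_central_sylow (hH : Cfsg.IsStronglyEmbedded H) {v : K} (hv : orderOf v = 2) :
    ∃ P : Sylow 2 K, v ∈ (P : Subgroup K) ∧ ∀ p ∈ (P : Subgroup K), Commute v p := by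
  haveI : Fact (Nat.Prime 2) := ⟨Nat.prime_two⟩
  obtain ⟨P⟩ := (inferInstance : Nonempty (Sylow 2 K))
  haveI : Nontrivial ↥(P : Subgroup K) := Finite.one_lt_card_iff_nontrivial.1 (by
    have := Nat.le_of_dvd Nat.card_pos (P.dvd_card_of_dvd_card (hv ▸ orderOf_dvd_natCard v))
    omega)
  haveI := P.2.center_nontrivial
  obtain ⟨⟨z, hz⟩, hz2⟩ := exists_prime_orderOf_dvd_card' (G := center ↥(P : Subgroup K)) 2 (by
    obtain ⟨k, hk⟩ := (P.2.to_subgroup (center ↥(P : Subgroup K))).exists_card_eq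
    rw [hk]
    refine dvd_pow_self 2 fun h0 => ?_
    rw [h0, pow_zero] at hk
    exact (Finite.one_lt_card (α := center ↥(P : Subgroup K))).ne' hk)
  rw [Subgroup.orderOf_mk] at hz2
  obtain ⟨g, hg⟩ := isConj_iff.1 (CfsgLib.TwoGroups.SE.isConj_involutions hH
    (show orderOf (z : K) = 2 by rw [Subgroup.orderOf_coe, hz2]) hv)
  refine ⟨g • P, ?_, fun p hp => ?_⟩
  · rw [Sylow.coe_subgroup_smul]
    exact ⟨z, z.2, hg⟩
  · rw [Sylow.coe_subgroup_smul] at hp
    obtain ⟨q, hq, rfl⟩ := hp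
    rw [← hg]
    exact ((show Commute (z : K) q from (congrArg Subtype.val (mem_center_iff.1 hz ⟨q, hq⟩)).symm).map
      (MulAut.conj g).toMonoidHom)

/-- Local balance. -/
theorem locBal_of_embedded (hH : Cfsg.IsStronglyEmbedded H) : Walter.LocBal K := by
  refine ⟨fun v hv => ?_, fun v hv => ?_⟩
  all_goals
    obtain ⟨P, hvP, hc⟩ := exists_central_sylow hH hv
  · exact (balanced_of_embedded hH P hvP hv hc).1
  · exact (balanced_of_embedded hH P hvP hv hc).2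

/-- The groups with a strongly embedded subgroup are `Good`. -/
theorem good_of_embedded (hna : ¬ IsMulCommutative K) (hH : Cfsg.IsStronglyEmbedded H) : Good K := by
  haveI : Fact (Nat.Prime 2) := ⟨Nat.prime_two⟩
  obtain ⟨s, t, hs, ht, hne, hst⟩ := CfsgLib.Orders.EPPOPrimes.exists_commuting_involutions hna
    ((even_iff_two_dvd.1 hH.2.1).trans H.card_subgroup_dvd_card)
  obtain ⟨-, -, -, -, -, -, -, hfour⟩ := CfsgLib.Bender.simple_regular CfsgLib.Bender.benderGen.{u} hH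
  rcases CfsgLib.Bender.family_of_simple CfsgLib.Bender.benderGen.{u} hH hfour with
    ⟨F, iF, iT, hF2, h4, ⟨e⟩⟩ | ⟨F, iF, iT, q, hq2, hq4, hF, ⟨e⟩⟩ | hsz
  · exact good_SL_two h4 e ⟨s, t, hs, ht, hne, hst⟩
  · exact good_unitary hq2 hq4 hF e (fun x y => CfsgLib.TwoGroups.SE.isConj_involutions hH)
      ⟨s, t, hs, ht, hne, hst⟩
  · exact good_suzuki hsz (fun x y => CfsgLib.TwoGroups.SE.isConj_involutions hH) ⟨s, t, hs, ht, hne, hst⟩

theorem comm_of_sq {G : Type u} [Group G] {T : Subgroup G} (h : ∀ x ∈ T, x * x = 1) : IsMulCommutative T := by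
  refine ⟨⟨fun a b => Subtype.ext ?_⟩⟩
  have hi : ∀ z ∈ T, z⁻¹ = z := fun z hz => inv_eq_of_mul_eq_one_right (h z hz)
  show (a : G) * b = b * a
  rw [← hi _ (mul_mem a.2 b.2), mul_inv_rev, hi _ a.2, hi _ b.2]

/-- An elementary Sylow 2-subgroup is the strongly closed subgroup. -/
theorem eq_of_sq (hconj : ∀ x y : K, orderOf x = 2 → orderOf y = 2 → IsConj x y) {T : Sylow 2 K}
    (hsq : ∀ x ∈ (T : Subgroup K), x * x = 1) {B : Subgroup K} (hB : ClosedElem T B) : B = (T : Subgroup K) :=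
  le_antisymm hB.closed.1 fun x hx => (mem_iff_of_conj hconj hB).2 ⟨hx, hsq x hx⟩

/-- A component of rank two has abelian Sylow 2-subgroups or only odd covers. -/
theorem small_of_embedded (hna : ¬ IsMulCommutative K) (hH : Cfsg.IsStronglyEmbedded H) (T : Sylow 2 K)
    (B : Subgroup K) (hB : ClosedElem T B) (hB4 : Nat.card B = 4) :
    IsMulCommutative (T : Subgroup K) ∨ CentralMeet.OddCover K := by
  classical
  haveI : Fact (Nat.Prime 2) := ⟨Nat.prime_two⟩
  obtain ⟨-, -, -, -, -, -, -, hfour⟩ := CfsgLib.Bender.simple_regular CfsgLib.Bender.benderGen.{u} hH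
  rcases CfsgLib.Bender.family_of_simple CfsgLib.Bender.benderGen.{u} hH hfour with
    ⟨F, iF, iT, hF2, h4, ⟨e⟩⟩ | ⟨F, iF, iT, q, hq2, hq4, hF, ⟨e⟩⟩ | hsz
  · refine Or.inl (comm_of_sq fun x hx => e.injective ?_)
    rw [map_mul, map_one]
    exact CfsgLib.CentralMeet.sq_eq_one_SL_two (T.mapSurjective (f := e.toMonoidHom) e.surjective) _
      (Subgroup.mem_map_of_mem _ hx)
  · obtain ⟨r, n, hr, hCP, rfl⟩ := CfsgLib.Classical.Herm.exists_prime_pow_root hF
    have hr2 : r = 2 := ((Nat.prime_dvd_prime_iff_eq Nat.prime_two hr).1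
      (Nat.prime_two.dvd_of_dvd_pow hq2.two_dvd)).symm
    subst hr2
    have hn : 2 ≤ n := by
      by_contra h
      have := Nat.pow_le_pow_right two_pos (show n ≤ 1 by omega)
      omega
    exact Or.inr (CfsgLib.CentralMeet.oddCover_psu hn hF e)
  · obtain ⟨F, iF, iT, m, hm, hF, ⟨e⟩⟩ := hsz
    haveI : CharP F 2 := CfsgLib.Lie.Suzuki.charTwo_of_card hF
    let e' : K ≃* Cfsg.Sz F m := e.trans (CfsgLib.Lie.Suzuki.equivLie hm hF).symm
    obtain ⟨g, hg⟩ := CfsgLib.Lie.Suzuki.exists_conj_sylow hF hm (T.mapSurjective (f := e'.toMonoidHom) e'.surjective)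
    have hmem : ∀ b : F, e'.symm (g * CfsgLib.Lie.Suzuki.uS hF 0 b * g⁻¹) ∈ B := fun b => by
      refine (mem_iff_of_conj (fun x y => CfsgLib.TwoGroups.SE.isConj_involutions hH) hB).2 ⟨?_, ?_⟩
      · have h1 : g * CfsgLib.Lie.Suzuki.uS hF 0 b * g⁻¹ ∈
            ((T.mapSurjective (f := e'.toMonoidHom) e'.surjective : Sylow 2 _) : Subgroup (Cfsg.Sz F m)) := by
          rw [hg]
          exact ⟨_, CfsgLib.Lie.Suzuki.uS_mem hF 0 b, rfl⟩
        have h2 : g * CfsgLib.Lie.Suzuki.uS hF 0 b * g⁻¹ ∈ (T : Subgroup K).map e'.toMonoidHom :=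
          (Sylow.coe_mapSurjective e'.surjective T).le h1
        exact Subgroup.mem_map_equiv.1 h2
      · rw [← map_mul, conj_mul, (CfsgLib.TwoFusion.StructGold.suz_sq_iff hF 0 b).2 rfl]
        simp
    have hc : Fintype.card F ≤ Nat.card B := by
      rw [← Nat.card_eq_fintype_card]
      refine Nat.card_le_card_of_injective (fun b => (⟨_, hmem b⟩ : B)) fun b b' h => ?_
      have h1 := e'.symm.injective (congrArg Subtype.val h)
      exact (CfsgLib.Lie.Suzuki.uS_inj hF (mul_left_cancel (mul_right_cancel h1))).2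
    have h8 : 2 ^ 3 ≤ 2 ^ (2 * m + 1) := Nat.pow_le_pow_right two_pos (by omega)
    rw [hF, hB4] at hc
    omega

/-- An involutory automorphism centralising `B` and `T / B` is inner by an element of `B`. -/
theorem inner_of_embedded (hna : ¬ IsMulCommutative K) (hH : Cfsg.IsStronglyEmbedded H) (T : Sylow 2 K)
    (B : Subgroup K) (hB : ClosedElem T B) (β : MulAut K) (hβ2 : β * β = 1) (hβB : ∀ x ∈ B, β x = x)
    (hβT : ∀ x ∈ (T : Subgroup K), β x * x⁻¹ ∈ B) : ∃ b ∈ B, β = MulAut.conj b := by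
  classical
  obtain ⟨M, hM, hTM, hMN, htr, hfree⟩ := exists_regular_sylow hH T
  have hmB : ∀ {x : K}, x ∈ B ↔ x ∈ (T : Subgroup K) ∧ x * x = 1 :=
    mem_iff_of_conj (fun x y => CfsgLib.TwoGroups.SE.isConj_involutions hH) hB
  have hf : SylFacts (T : Subgroup K) := ((good_of_embedded hna hH).syl T).1
  have hcB : ∀ {b x : K}, b ∈ B → x ∈ (T : Subgroup K) → Commute b x := fun hb hx =>
    hf.central _ (hB.closed.1 hb) _ hx (hB.sq _ hb)
  have hbc : ∀ {a b : K}, a ∈ B → b ∈ B → Commute a b := fun ha hb => hcB ha (hB.closed.1 hb)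
  have hMn : ∀ {m x : K}, m ∈ M → x ∈ (T : Subgroup K) → m * x * m⁻¹ ∈ (T : Subgroup K) := fun hm hx =>
    (mem_normalizer_iff.1 (hMN ▸ hm) _).1 hx
  have hTβ : ∀ x ∈ (T : Subgroup K), β x ∈ (T : Subgroup K) := fun x hx => by
    have := mul_mem (hB.closed.1 (hβT x hx)) hx
    rwa [inv_mul_cancel_right] at this
  have hββ : ∀ x, β (β x) = x := fun x => by rw [← MulAut.mul_apply, hβ2, MulAut.one_apply]
  have hMβ : ∀ m ∈ M, β m ∈ M := fun m hm => by
    rw [hMN]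
    refine mem_normalizer_fintype fun p hp => ?_
    have h1 := hTβ _ (hMn hm (hTβ p hp))
    rwa [map_mul, map_mul, map_inv, hββ] at h1
  obtain ⟨g, -, hg⟩ := SetLike.exists_of_lt (lt_top_iff_ne_top.2 hM.1)
  obtain ⟨u, hu, hug⟩ := htr (β g) g (fun h => hg (hββ g ▸ hMβ _ h)) hg
  -- the automorphism fixing a second point
  set γ : MulAut K := MulAut.conj u * β with hγ
  have hγv : ∀ x, γ x = u * β x * u⁻¹ := fun x => rfl
  have huM : u ∈ M := hTM hu
  have hγg : g⁻¹ * γ g ∈ M := by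
    rw [hγv, show g⁻¹ * (u * β g * u⁻¹) = (g⁻¹ * (u * β g)) * u⁻¹ by group]
    exact mul_mem hug (inv_mem huM)
  have hγB : ∀ x ∈ B, γ x = x := fun x hx => by
    rw [hγv, hβB x hx, (hcB hx hu).symm.eq, mul_inv_cancel_right]
  have hγM : ∀ m ∈ M, γ m ∈ M := fun m hm => hγv m ▸ mul_mem (mul_mem huM (hMβ m hm)) (inv_mem huM)
  have hφ : ∀ x ∈ (T : Subgroup K), γ x * x⁻¹ ∈ B := by
    intro x hx
    have h1 := hβT x hx
    have h2 : u * x * u⁻¹ * x⁻¹ ∈ B :=
      hmB.2 ⟨mul_mem (mul_mem (mul_mem hu hx) (inv_mem hu)) (inv_mem hx), hf.comm_sq u hu x hx⟩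
    have e : γ x * x⁻¹ = (u * (β x * x⁻¹) * u⁻¹) * (u * x * u⁻¹ * x⁻¹) := by rw [hγv]; group
    rw [e, (hcB h1 hu).symm.eq, mul_inv_cancel_right]
    exact mul_mem h1 h2
  have hfix : ∀ d ∈ M, g⁻¹ * d * g ∈ M → γ d = d := by
    intro d hd hdg
    have hγdg : g⁻¹ * γ d * g ∈ M := by
      have e : g⁻¹ * γ d * g = (g⁻¹ * γ g) * γ (g⁻¹ * d * g) * (g⁻¹ * γ g)⁻¹ := by
        rw [map_mul, map_mul, map_inv]; group
      exact e ▸ mul_mem (mul_mem hγg (hγM _ hdg)) (inv_mem hγg)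
    set e := d⁻¹ * γ d with he
    have heM : e ∈ M := mul_mem (inv_mem hd) (hγM d hd)
    have heg : g⁻¹ * e * g ∈ M := by
      have := mul_mem (inv_mem hdg) hγdg
      rwa [show (g⁻¹ * d * g)⁻¹ * (g⁻¹ * γ d * g) = g⁻¹ * (d⁻¹ * γ d) * g by group] at this
    have hγd : γ d = d * e := by rw [he, mul_inv_cancel_left]
    have heodd : Odd (orderOf e) := (hM.2.2 g hg).of_dvd_nat (Subgroup.orderOf_dvd_natCard _
      (show e ∈ M ⊓ M.map (MulAut.conj g).toMonoidHom from ⟨heM, g⁻¹ * e * g, heg, by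
        show g * (g⁻¹ * e * g) * g⁻¹ = e; group⟩))
    -- `e` centralises `B` and `T / B`
    have hdB : ∀ b ∈ B, d⁻¹ * b * d ∈ B := fun b hb => hmB.2 ⟨by
      have := hMn (inv_mem hd) (hB.closed.1 hb)
      rwa [inv_inv] at this, by
      rw [show d⁻¹ * b * d * (d⁻¹ * b * d) = d⁻¹ * (b * b) * d by group, hB.sq b hb]; group⟩
    have hdB' : ∀ b ∈ B, d * b * d⁻¹ ∈ B := fun b hb =>
      hmB.2 ⟨hMn hd (hB.closed.1 hb), by rw [conj_mul, hB.sq b hb]; group⟩
    have heB : ∀ b ∈ B, e * b * e⁻¹ = b := by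
      intro b hb
      have h1 := hγB _ (hdB' b hb)
      rw [map_mul, map_mul, map_inv, hγB b hb, hγd] at h1
      calc e * b * e⁻¹ = d⁻¹ * (d * e * b * (d * e)⁻¹) * d := by group
        _ = b := by rw [h1]; group
    have heT : ∀ x ∈ (T : Subgroup K), Commute e x := by
      intro x hx
      have hy := hMn hd hx
      obtain ⟨w, hw, hγx⟩ : ∃ w ∈ B, γ x = w * x := ⟨_, hφ x hx, by group⟩
      obtain ⟨w', hw', hγy⟩ : ∃ w' ∈ B, γ (d * x * d⁻¹) = w' * (d * x * d⁻¹) := ⟨_, hφ _ hy, by group⟩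
      rw [map_mul, map_mul, map_inv, hγx, hγd] at hγy
      have h1 : e * x * e⁻¹ = (w⁻¹ * (d⁻¹ * w' * d)) * x := by
        calc e * x * e⁻¹ = (e * w * e⁻¹)⁻¹ * (d⁻¹ * (d * e * (w * x) * (d * e)⁻¹) * d) := by group
          _ = (w⁻¹ * (d⁻¹ * w' * d)) * x := by rw [hγy, heB w hw]; group
      set c := w⁻¹ * (d⁻¹ * w' * d) with hc
      have hcm : c ∈ B := mul_mem (inv_mem hw) (hdB w' hw')
      have hk : ∀ k : ℕ, e ^ k * x * (e ^ k)⁻¹ = c ^ k * x := by
        intro k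
        induction k with
        | zero => simp
        | succ k ih =>
          calc e ^ (k + 1) * x * (e ^ (k + 1))⁻¹ = e * (e ^ k * x * (e ^ k)⁻¹) * e⁻¹ := by
                rw [pow_succ']; group
            _ = (e * c ^ k * e⁻¹) * (e * x * e⁻¹) := by rw [ih]; group
            _ = c ^ (k + 1) * x := by rw [heB _ (pow_mem hcm k), h1, pow_succ]; group
      have h2 := hk (orderOf e)
      rw [pow_orderOf_eq_one, one_mul, inv_one, mul_one, eq_comm, mul_eq_right] at h2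
      obtain ⟨j, hj⟩ := heodd
      rw [hj, pow_succ, pow_mul, pow_two, hB.sq c hcm, one_pow, one_mul] at h2
      rw [h2, one_mul, mul_inv_eq_iff_eq_mul] at h1
      exact h1
    -- so it fixes every point
    have hcore : e ∈ M.normalCore := fun b => by
      by_cases hb : b ∈ M
      · exact mul_mem (mul_mem hb heM) (inv_mem hb)
      have hb' : b⁻¹ ∉ M := fun h => hb (by simpa using inv_mem h)
      obtain ⟨v, hv, hvb⟩ := htr g b⁻¹ hg hb'
      rw [inv_inv] at hvb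
      have h2 := mul_mem (mul_mem hvb heg) (inv_mem hvb)
      rwa [show b * (v * g) * (g⁻¹ * e * g) * (b * (v * g))⁻¹ = b * (v * e * v⁻¹) * b⁻¹ by group,
        ← (heT v hv).eq, mul_inv_cancel_right] at h2
    rw [(IsSimpleGroup.eq_bot_or_eq_top_of_normal _ inferInstance).resolve_right
      fun h => hM.1 (top_le_iff.1 (h ▸ M.normalCore_le)), mem_bot] at hcore
    rw [hγd, hcore, mul_one]
  -- the defect is equivariant, so trivial
  have hγT : ∀ x ∈ (T : Subgroup K), γ x = x := by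
    intro x hx
    refine mul_inv_eq_one.1 (hf.noTwist (fun y => γ y * y⁻¹) (fun y hy => ⟨hB.closed.1 (hφ y hy), hB.sq _ (hφ y hy)⟩)
      (fun y hy z hz => ?_) (fun y hy hyy => ?_) (fun n hn y hy => ?_) x hx)
    · show γ (y * z) * (y * z)⁻¹ = _
      calc γ (y * z) * (y * z)⁻¹ = γ y * (γ z * z⁻¹) * y⁻¹ := by rw [map_mul]; group
        _ = γ y * y⁻¹ * (y * (γ z * z⁻¹) * y⁻¹) := by group
        _ = γ y * y⁻¹ * (γ z * z⁻¹) := by rw [(hcB (hφ z hz) hy).symm.eq, mul_inv_cancel_right]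
    · show γ y * y⁻¹ = 1
      rw [hγB y (hmB.2 ⟨hy, hyy⟩), mul_inv_cancel]
    · have hnM : n ∈ M := hMN.symm ▸ hn
      obtain ⟨t, ht, htn⟩ := htr (n * g) g (fun h => hg ((mul_mem_cancel_left hnM).1 h)) hg
      have hd : t * n ∈ M := mul_mem (hTM ht) hnM
      have hdg : g⁻¹ * (t * n) * g ∈ M := by
        rwa [show g⁻¹ * (t * (n * g)) = g⁻¹ * (t * n) * g by group] at htn
      set d := t * n with hdd
      have e1 := hfix d hd hdg
      have hy' := hMn hd hy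
      set z := d * y * d⁻¹ with hz
      have e2 : γ z * z⁻¹ = d * (γ y * y⁻¹) * d⁻¹ := by
        rw [hz, map_mul, map_mul, map_inv, e1]; group
      have hw : γ y * y⁻¹ ∈ B := hφ y hy
      have hnz : n * y * n⁻¹ = t⁻¹ * z * t := by rw [hz, hdd]; group
      have hγt : γ (t⁻¹ * z * t) * (t⁻¹ * z * t)⁻¹ = γ z * z⁻¹ := by
        have ht' := hφ t ht
        have hz' := hφ z hy'
        calc γ (t⁻¹ * z * t) * (t⁻¹ * z * t)⁻¹
            = t⁻¹ * ((γ t * t⁻¹)⁻¹ * (γ z * z⁻¹) * (z * (γ t * t⁻¹) * z⁻¹)) * t := by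
              rw [map_mul, map_mul, map_inv]; group
          _ = t⁻¹ * ((γ t * t⁻¹)⁻¹ * (γ z * z⁻¹) * (γ t * t⁻¹)) * t := by
              rw [(hcB ht' hy').symm.eq, mul_inv_cancel_right]
          _ = t⁻¹ * (γ z * z⁻¹) * t := by
              rw [mul_assoc _ (γ z * z⁻¹), (hbc hz' ht').eq, inv_mul_cancel_left]
          _ = γ z * z⁻¹ := by rw [mul_assoc, (hcB hz' ht).eq, inv_mul_cancel_left]
      have hn' : n * (γ y * y⁻¹) * n⁻¹ = d * (γ y * y⁻¹) * d⁻¹ := by
        have hc' : Commute (d * (γ y * y⁻¹) * d⁻¹) t :=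
          hcB (hmB.2 ⟨hMn hd (hB.closed.1 hw), by rw [conj_mul, hB.sq _ hw]; group⟩) ht
        calc n * (γ y * y⁻¹) * n⁻¹ = t⁻¹ * ((d * (γ y * y⁻¹) * d⁻¹) * t) := by rw [hdd]; group
          _ = _ := by rw [hc'.eq, inv_mul_cancel_left]
      show γ (n * y * n⁻¹) * (n * y * n⁻¹)⁻¹ = n * (γ y * y⁻¹) * n⁻¹
      rw [hnz, hγt, e2, hn']
  -- so every point is fixed
  have hstab : ∀ b : K, b⁻¹ * γ b ∈ M := by
    intro b
    by_cases hb : b ∈ M
    · exact mul_mem (inv_mem hb) (hγM b hb)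
    obtain ⟨v, hv, hvb⟩ := htr g b hg hb
    have h2 := hγM _ hvb
    rw [map_mul, map_inv, map_mul, hγT v hv] at h2
    have h3 := mul_mem (mul_mem (mul_mem hvb hγg) (inv_mem h2)) (one_mem M)
    rwa [show b⁻¹ * (v * g) * (g⁻¹ * γ g) * ((γ b)⁻¹ * (v * γ g))⁻¹ * 1 = b⁻¹ * γ b by group] at h3
  have hγ1 : γ = 1 := by
    refine MulEquiv.ext fun h => ?_
    refine (inv_mul_eq_one.1 ?_).symm
    have hcore : h⁻¹ * γ h ∈ M.normalCore := fun b => by
      have h1 := mul_mem (hstab (h * b⁻¹)) (inv_mem (hstab b⁻¹))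
      rwa [map_mul, show (h * b⁻¹)⁻¹ * (γ h * γ b⁻¹) * ((b⁻¹)⁻¹ * γ b⁻¹)⁻¹ = b * (h⁻¹ * γ h) * b⁻¹ by group] at h1
    rwa [(IsSimpleGroup.eq_bot_or_eq_top_of_normal _ inferInstance).resolve_right
      fun h => hM.1 (top_le_iff.1 (h ▸ M.normalCore_le)), mem_bot] at hcore
  have hβu : β = MulAut.conj u⁻¹ := by
    rw [map_inv]; exact eq_inv_of_mul_eq_one_right hγ1
  refine ⟨u⁻¹, hmB.2 ⟨inv_mem hu, ?_⟩, hβu⟩
  have h1 : u⁻¹ * u⁻¹ ∈ center K := mem_center_iff.2 fun x => by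
    have h2 := hββ x
    rw [hβu, MulAut.conj_apply, MulAut.conj_apply] at h2
    calc x * (u⁻¹ * u⁻¹) = u⁻¹ * (u⁻¹ * x * u⁻¹⁻¹) * u⁻¹⁻¹ * (u⁻¹ * u⁻¹) := by rw [h2]
      _ = u⁻¹ * u⁻¹ * x := by group
  rwa [(IsSimpleGroup.eq_bot_or_eq_top_of_normal (center K) inferInstance).resolve_right
    fun h => hna ⟨⟨fun a b => mem_center_iff.1 (h ▸ mem_top b) a⟩⟩, mem_bot] at h1

open CfsgLib.Lie.RankOneClass in
/-- The torus. -/
theorem torus_of_embedded (hH : Cfsg.IsStronglyEmbedded H) (T : Sylow 2 K) (B : Subgroup K)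
    (hB : ClosedElem T B) :
    ∃ X : Subgroup K, IsCyclic X ∧ Odd (Nat.card X) ∧ X ≤ normalizer (B : Set K) ∧
      (∀ b ∈ B, b ≠ 1 → ∀ b' ∈ B, b' ≠ 1 → ∃ h ∈ X, h * b * h⁻¹ = b') ∧
      ∀ h ∈ X, ∀ b ∈ B, b ≠ 1 → h * b * h⁻¹ = b → ∀ b' ∈ B, h * b' * h⁻¹ = b' := by
  classical
  haveI : Fact (Nat.Prime 2) := ⟨Nat.prime_two⟩
  obtain ⟨M, hM, hTM, hMN, htr, hfree⟩ := exists_regular_sylow hH T
  have hmB : ∀ {x : K}, x ∈ B ↔ x ∈ (T : Subgroup K) ∧ x * x = 1 :=
    mem_iff_of_conj (fun x y => CfsgLib.TwoGroups.SE.isConj_involutions hH) hB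
  obtain ⟨t, hR, hF, -, h2⟩ := CfsgLib.Lie.RankOneClass.exists_setup M hM (T : Subgroup K) hTM
    (normal_subgroupOf_of_le_normalizer hMN.le) htr hfree
  set a : K ⧸ M := ((1 : K) : K ⧸ M) with ha
  have hstab : MulAction.stabilizer K a = M := MulAction.stabilizer_quotient M
  have hJ : ∀ x, x ∈ Cfsg.involutionsIn (MulAction.stabilizer K a : Set K) ↔ x ∈ B ∧ x ≠ 1 := by
    intro x
    rw [hstab]
    constructor
    · intro hx
      obtain ⟨hxM, hx1, hxx⟩ : x ∈ M ∧ x ≠ 1 ∧ x * x = 1 := hx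
      refine ⟨hmB.2 ⟨?_, hxx⟩, hx1⟩
      have hp : IsPGroup 2 ((T : Subgroup K) ⊔ zpowers x : Subgroup K) :=
        T.2.to_sup_of_normal_left' (CfsgLib.Signalizer.isPGroup_zpowers_involution (orderOf_eq_two_of hx1 hxx))
          (zpowers_le.2 (hMN.le hxM))
      exact (T.3 hp le_sup_left).le (mem_sup_right (mem_zpowers x))
    · rintro ⟨hx, hx1⟩
      exact ⟨hTM (hB.closed.1 hx), hx1, hB.sq x hx⟩
  obtain ⟨n, hn, hqn⟩ := exists_pow_two hR h2
  haveI : Fintype (GaloisField 2 n) := Fintype.ofFinite _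
  obtain ⟨C⟩ := exists_coord hR h2 (GaloisField 2 n) (by rw [GaloisField.card 2 n (by omega), hqn])
  set F := GaloisField 2 n
  have hk1 : C.k 1 = 1 := by
    have h := C.k_mul 1 1
    rwa [one_mul, left_eq_mul] at h
  let κ : Fˣ →* K := ⟨⟨C.k, hk1⟩, C.k_mul⟩
  have hco : ∀ b ∈ B, b ≠ 1 → ∃ x : F, x ≠ 0 ∧ C.z x = b := fun b hb hb1 => by
    obtain ⟨x, hx⟩ := C.z_surj b ((hJ b).2 ⟨hb, hb1⟩)
    refine ⟨x, fun e => hb1 ?_, hx⟩
    subst e
    have h := C.z_add 0 0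
    rw [add_zero, left_eq_mul] at h
    rw [← hx, h]
  refine ⟨κ.range, isCyclic_of_surjective κ.rangeRestrict κ.rangeRestrict_surjective, ?_, ?_, ?_, ?_⟩
  · refine Odd.of_dvd_nat ?_ (card_range_dvd κ)
    rw [Nat.card_units, GaloisField.card 2 n (by omega)]
    exact Nat.Even.sub_odd Nat.one_le_two_pow (Nat.even_pow.2 ⟨even_two, by omega⟩) odd_one
  · rintro _ ⟨l, rfl⟩
    have hlM : C.k l ∈ M := hstab.le (C.k_mem l).1.1
    refine mem_normalizer_fintype fun b hb => hmB.2 ⟨(mem_normalizer_iff.1 (hMN.le hlM) b).1 (hB.closed.1 hb), ?_⟩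
    show C.k l * b * (C.k l)⁻¹ * (C.k l * b * (C.k l)⁻¹) = 1
    rw [conj_mul, hB.sq b hb]; group
  · intro b hb hb1 b' hb' hb1'
    obtain ⟨x, hx0, rfl⟩ := hco b hb hb1
    obtain ⟨y, hy0, rfl⟩ := hco b' hb' hb1'
    refine ⟨κ (Units.mk0 (y / x) (div_ne_zero hy0 hx0)), ⟨_, rfl⟩, ?_⟩
    show C.k _ * C.z x * (C.k _)⁻¹ = C.z y
    rw [C.k_conj, Units.val_mk0, div_mul_cancel₀ _ hx0]
  · rintro _ ⟨l, rfl⟩ b hb hb1 hfix b' _
    obtain ⟨x, hx0, rfl⟩ := hco b hb hb1
    change C.k l * C.z x * (C.k l)⁻¹ = C.z x at hfix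
    rw [C.k_conj] at hfix
    have hl : l = 1 := Units.ext ((mul_eq_right₀ hx0).1 (C.z_inj hfix))
    show C.k l * b' * (C.k l)⁻¹ = b'
    rw [hl, hk1, one_mul, inv_one, mul_one]

/-- **The local facts for a simple group with a strongly embedded subgroup.** -/
theorem goldLocal_of_embedded (hna : ¬ IsMulCommutative K) (hH : Cfsg.IsStronglyEmbedded H) : GoldLocal K where
  involutions T B hB x hx hx2 := (mem_iff_of_conj (fun _ _ => CfsgLib.TwoGroups.SE.isConj_involutions hH) hB).2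
    ⟨hx, involution_sq hx2⟩
  central T B hB b hb x hx :=
    (((good_of_embedded hna hH).syl T).1.central b (hB.closed.1 hb) x hx (hB.sq b hb)).symm
  abelian T B hB hT := by
    refine eq_of_sq (fun _ _ => CfsgLib.TwoGroups.SE.isConj_involutions hH) ?_ hB
    exact ((good_of_embedded hna hH).syl T).1.elem_or.resolve_right fun ⟨x, hx, y, hy, hne⟩ =>
      hne (congrArg Subtype.val (hT.is_comm.comm ⟨x, hx⟩ ⟨y, hy⟩))
  four := four_of_conj hna fun _ _ => CfsgLib.TwoGroups.SE.isConj_involutions hH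
  small := small_of_embedded hna hH
  torus := torus_of_embedded hH
  inner := inner_of_embedded hna hH
  balanced := Or.inr (locBal_of_embedded hH)

end CfsgLib.Invol.Goldschmidt
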