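import Cfsg.Agent.Lib.Invol.Goldschmidt.Sections.PairFacts
import Cfsg.Agent.Lib.Invol.Goldschmidt.Sections.Pump
import Cfsg.Agent.Lib.Invol.Goldschmidt.NoCover

/-!
Owner: helper14. The pairs are permuted by `N(A)`; `PreFacts` holds, so the members of a pair meet trivially.
-/

set_option autoImplicit false
set_option linter.style.haveILetI false

namespace CfsgLib.Invol.Goldschmidt.Point

open Subgroup Cfsg
open scoped commutatorElement

universe u

variable {G : Type u} [Group G]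

/-- Conjugation between centralizers. -/
def cqEquiv (n a : G) : ↥(Cq a) ≃* ↥(Cq (n * a * n⁻¹)) where
  toFun x := ⟨n * x * n⁻¹, mem_centralizer_singleton_iff.2 (by
    have h := mem_centralizer_singleton_iff.1 x.2
    calc n * x * n⁻¹ * (n * a * n⁻¹) = n * ((x : G) * a) * n⁻¹ := by group
      _ = n * (a * x) * n⁻¹ := by rw [h]
      _ = _ := by group)⟩
  invFun x := ⟨n⁻¹ * x * n, mem_centralizer_singleton_iff.2 (by
    have h := mem_centralizer_singleton_iff.1 x.2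
    calc n⁻¹ * x * n * a = n⁻¹ * ((x : G) * (n * a * n⁻¹)) * n := by group
      _ = n⁻¹ * (n * a * n⁻¹ * x) * n := by rw [h]
      _ = _ := by group)⟩
  left_inv x := Subtype.ext (by simp [mul_assoc])
  right_inv x := Subtype.ext (by simp [mul_assoc])
  map_mul' x y := Subtype.ext (by simp [mul_assoc])

/-- Conjugation between the quotients. -/
noncomputable def quoEquiv [Finite G] (n a : G) : Quo a ≃* Quo (n * a * n⁻¹) :=
  QuotientGroup.congr _ _ (cqEquiv n a) (CfsgLib.Core.map_equiv_pPrimeCore (cqEquiv n a))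

theorem quoEquiv_pr [Finite G] (n a : G) (x : ↥(Cq a)) :
    quoEquiv n a (pr a x) = pr (n * a * n⁻¹) (cqEquiv n a x) := rfl

theorem pre_map [Finite G] (n a : G) (H : Subgroup (Quo a)) :
    pre (n * a * n⁻¹) (H.map (quoEquiv n a).toMonoidHom) = cj n (pre a H) := by
  ext x
  constructor
  · intro hx
    obtain ⟨hxC, h, hh, he⟩ := mem_pre.1 hx
    obtain ⟨y, hy⟩ : ∃ y, cqEquiv n a y = ⟨x, hxC⟩ := (cqEquiv n a).surjective _
    refine ⟨y, mem_pre.2 ⟨y.2, ?_⟩, congrArg Subtype.val hy⟩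
    rw [← hy, ← quoEquiv_pr] at he
    rwa [(quoEquiv n a).injective he] at hh
  · rintro ⟨y, hy, rfl⟩
    obtain ⟨hyC, hyH⟩ := mem_pre.1 hy
    exact mem_pre.2 ⟨(cqEquiv n a ⟨y, hyC⟩).2, _, hyH, rfl⟩

theorem img_map [Finite G] (n a : G) (U : Subgroup G) :
    (img a U).map (quoEquiv n a).toMonoidHom = img (n * a * n⁻¹) (cj n U) := by
  ext q
  constructor
  · rintro ⟨_, ⟨y, hy, rfl⟩, rfl⟩
    exact mem_img.2 ⟨n * y * n⁻¹, (cqEquiv n a y).2, ⟨y, hy, rfl⟩, rfl⟩
  · intro hq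
    obtain ⟨_, hxC, ⟨y, hy, rfl⟩, rfl⟩ := mem_img.1 hq
    obtain ⟨z, hz⟩ : ∃ z, cqEquiv n a z = ⟨_, hxC⟩ := (cqEquiv n a).surjective _
    refine ⟨pr a z, mem_img.2 ⟨z, z.2, ?_, rfl⟩, ?_⟩
    · have h1 : n * (z : G) * n⁻¹ = n * y * n⁻¹ := congrArg Subtype.val hz
      rw [mul_left_cancel (mul_right_cancel h1)]
      exact hy
    · show quoEquiv n a (pr a z) = _
      rw [quoEquiv_pr, hz]

theorem centralizer_map_equiv {H H' : Type*} [Group H] [Group H'] (e : H ≃* H') (K : Subgroup H) :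
    centralizer ((K.map e.toMonoidHom : Subgroup H') : Set H') =
      (centralizer (K : Set H)).map e.toMonoidHom := by
  ext x
  rw [mem_map_equiv, mem_centralizer_iff, mem_centralizer_iff]
  constructor
  · intro h k hk
    refine e.injective ?_
    rw [map_mul, map_mul, e.apply_symm_apply]
    exact h (e k) (mem_map_of_mem _ hk)
  · rintro h _ ⟨k, hk, rfl⟩
    refine e.symm.injective ?_
    rw [map_mul, map_mul]
    show e.symm (e k) * e.symm x = e.symm x * e.symm (e k)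
    rw [e.symm_apply_apply]
    exact h k hk

namespace Ctx

variable [Finite G] {S : Sylow 2 G} {A : Subgroup G} (c : Ctx S A)

include c

omit c in
theorem cj_eq {n : G} (hn : n ∈ normalizer (A : Set G)) : cj n A = A :=
  mem_normalizer_iff_map_conj_eq.1 hn

theorem conj_component {a : G} {K : Subgroup (Quo a)} (hK : Moved (img a A) K) {n : G}
    (hn : n ∈ normalizer (A : Set G)) :
    Moved (img (n * a * n⁻¹) A) (K.map (quoEquiv n a).toMonoidHom) ∧
      Ck A (n * a * n⁻¹) (K.map (quoEquiv n a).toMonoidHom) = cj n (Ck A a K) ∧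
      Dk A (n * a * n⁻¹) (K.map (quoEquiv n a).toMonoidHom) = cj n (Dk A a K) ∧
      Vk A (n * a * n⁻¹) (K.map (quoEquiv n a).toMonoidHom) = cj n (Vk A a K) := by
  have hinj : Function.Injective (MulAut.conj n).toMonoidHom := (MulAut.conj n).injective
  have hA : A.map (MulAut.conj n).toMonoidHom = A := cj_eq hn
  have hNA : (normalizer (A : Set G)).map (MulAut.conj n).toMonoidHom = normalizer (A : Set G) := by
    rw [map_equiv_normalizer_eq, hA]
  have hCk : Ck A (n * a * n⁻¹) (K.map (quoEquiv n a).toMonoidHom) = cj n (Ck A a K) := by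
    rw [Ck, Ck, centralizer_map_equiv, pre_map]
    show _ = (A ⊓ pre a (centralizer (K : Set (Quo a)))).map _
    rw [map_inf _ _ _ hinj, hA]
  have hDk : Dk A (n * a * n⁻¹) (K.map (quoEquiv n a).toMonoidHom) = cj n (Dk A a K) := by
    rw [Dk, Dk, pre_map]
    show _ = (normalizer (A : Set G) ⊓ pre a K).map _
    rw [map_inf _ _ _ hinj, hNA]
  refine ⟨⟨CfsgLib.Components.isComponent_map_equiv (quoEquiv n a) hK.1, fun h => hK.2 ?_⟩, hCk, hDk, ?_⟩
  · rw [centralizer_map_equiv, ← cj_eq hn, ← img_map] at h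
    exact (map_le_map_iff_of_injective (quoEquiv n a).injective).1 h
  · rw [Vk, Vk, hDk]
    show _ = (⁅A, Dk A a K⁆).map _
    rw [map_commutator, hA]

theorem pair_conj {a : G} {V C : Subgroup G} (h : Pair A a V C) {n : G} (hn : n ∈ normalizer (A : Set G)) :
    Pair A (n * a * n⁻¹) (cj n V) (cj n C) ∧
      DP A (n * a * n⁻¹) (cj n V) (cj n C) = cj n (DP A a V C) := by
  obtain ⟨ha, ha1, K, hK, rfl, rfl⟩ := h
  obtain ⟨hK', hC, hD, hV⟩ := c.conj_component hK hn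
  have ha' : n * a * n⁻¹ ∈ A := (mem_normalizer_iff.1 hn a).1 ha
  have ha1' : n * a * n⁻¹ ≠ 1 := fun e => ha1 (conj_eq_one_iff.1 e)
  refine ⟨⟨ha', ha1', _, hK', hV.symm, hC.symm⟩, ?_⟩
  rw [← hV, ← hC, c.DP_eq ha' ha1' hK', c.DP_eq ha ha1 hK, hD]

/-- The facts behind the no-cover step. -/
theorem preFacts : PreFacts A (Pair A) (DP A) where
  mem := by
    rintro a V C ⟨ha, ha1, K, hK, rfl, rfl⟩
    exact ⟨c.mem_Ck_self ha K, ha1⟩
  sup := by
    rintro a V C ⟨ha, ha1, K, hK, rfl, rfl⟩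
    exact c.sup_eq ha ha1 hK
  four := by
    rintro a V C ⟨ha, ha1, K, hK, rfl, rfl⟩
    exact c.four_le ha ha1 hK
  span := by
    rintro a V C ⟨ha, ha1, K, hK, rfl, rfl⟩
    rw [c.DP_eq ha ha1 hK]
    rfl
  le := by
    rintro a V C ⟨ha, ha1, K, hK, rfl, rfl⟩
    rw [c.DP_eq ha ha1 hK]
    exact le_inf inf_le_left (c.Dk_le_centralizer ha)
  odd := by
    rintro a V C ⟨ha, ha1, K, hK, rfl, rfl⟩ x hx
    rw [c.DP_eq ha ha1 hK] at hx
    exact c.odd ha ha1 hK hx
  trans := by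
    rintro a V C ⟨ha, ha1, K, hK, rfl, rfl⟩ b hb hbC b' hb' hbC'
    rw [c.DP_eq ha ha1 hK]
    exact c.trans ha ha1 hK hb hbC hb' hbC'
  same := by
    rintro a V C V' C' ⟨ha, ha1, K, hK, rfl, rfl⟩ ⟨-, -, L, hL, rfl, rfl⟩
    by_cases h : K = L
    · subst h; exact Or.inl ⟨rfl, rfl⟩
    · exact Or.inr ⟨c.Vk_le_Ck ha ha1 hL hK.1 (Ne.symm h), c.Vk_le_Ck ha ha1 hK hL.1 h⟩
  conj h n hn := c.pair_conj h hn
  pump := by
    rintro a u V C ⟨ha, ha1, K, hK, rfl, rfl⟩ hu hu1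
    obtain ⟨L, hL, hCL, hDL⟩ := c.pump ha ha1 hK hu hu1
    refine ⟨Vk A u L, Ck A u L, ⟨hu.1, hu1, L, hL, rfl, rfl⟩, commutator_le.2 fun b hb x hx => ?_, hCL, ?_⟩
    · obtain ⟨x', hx', he⟩ := hDL x hx
      have e : ⁅b, x⁆ = ⁅b, x'⁆ := by
        rw [commutatorElement_def, commutatorElement_def, show b * x * b⁻¹ * x⁻¹ = b * (x * b⁻¹ * x⁻¹) by group,
          he _ (inv_mem hb)]
        group
      rw [e]
      exact commutator_mem_commutator hb hx'
    · rw [c.DP_eq ha ha1 hK, c.DP_eq hu.1 hu1 hL]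
      exact hDL
  transl := by
    rintro a V C ⟨ha, ha1, K, hK, rfl, rfl⟩ hne
    rw [c.DP_eq ha ha1 hK]
    exact c.transl ha ha1 hK hne
  fixed := by
    rintro a V C ⟨ha, ha1, K, hK, rfl, rfl⟩ x hx htr
    rw [c.DP_eq ha ha1 hK] at hx
    exact c.fixed ha ha1 hK hx htr
  big := by
    rintro a V C ⟨ha, ha1, K, hK, rfl, rfl⟩ hne
    exact c.big ha ha1 hK hne

/-- The members of a pair meet trivially. -/
theorem inf_eq_bot {a : G} (ha : a ∈ A) (ha1 : a ≠ 1) {K : Subgroup (Quo a)} (hK : Moved (img a A) K) :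
    Vk A a K ⊓ Ck A a K = ⊥ :=
  NoCover.noCoverStep G S A (Pair A) (DP A) c.set c.preFacts a _ _ ⟨ha, ha1, K, hK, rfl, rfl⟩

end Ctx

end CfsgLib.Invol.Goldschmidt.Point
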