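import Cfsg.Agent.Lib.Invol.Goldschmidt.Sections.Point

/-!
Owner: helper14. The fields of `PreFacts` which concern one centralizer.
-/

set_option autoImplicit false
set_option linter.style.haveILetI false

namespace CfsgLib.Invol.Goldschmidt.Point.Ctx

open Subgroup Cfsg
open scoped commutatorElement

universe u

variable {G : Type u} [Group G] [Finite G] {S : Sylow 2 G} {A : Subgroup G} (c : Ctx S A)

include c

variable {a : G} (ha : a ∈ A) {K : Subgroup (Quo a)}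

include ha

theorem img_Ck : img a (Ck A a K) = img a A ⊓ centralizer (K : Set (Quo a)) := by
  refine le_antisymm ?_ ?_
  · intro q hq
    obtain ⟨x, hx, hxC, rfl⟩ := mem_img.1 hq
    exact ⟨mem_img.2 ⟨x, hx, hxC.1, rfl⟩, ((c.mem_Ck ha).1 hxC).2⟩
  · rintro q ⟨hqA, hqK⟩
    obtain ⟨x, hx, hxA, rfl⟩ := mem_img.1 hqA
    exact mem_img.2 ⟨x, hx, (c.mem_Ck ha).2 ⟨hxA, hqK⟩, rfl⟩

/-- The kernel is centralized by `Dk`. -/
theorem Dk_le_centralizer : Dk A a K ≤ centralizer (Ck A a K : Set G) := by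
  intro x hx
  refine mem_centralizer_iff.2 fun b hb => ?_
  obtain ⟨hbA, hbK⟩ := (c.mem_Ck ha).1 hb
  obtain ⟨hxC, hxK⟩ := mem_pre.1 hx.2
  have hcA : x * b * x⁻¹ ∈ A := (mem_normalizer_iff.1 hx.1 b).1 hbA
  have e : pr a ⟨x * b * x⁻¹, c.le_cq ha hcA⟩ = pr a ⟨b, c.le_cq ha hbA⟩ := by
    rw [c.pr_conj ha hxC hbA, mem_centralizer_iff.1 hbK _ hxK, mul_inv_cancel_right]
  exact (mul_inv_eq_iff_eq_mul.1 (c.pr_inj hcA hbA e)).symm

/-- Translations read in the quotient. -/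
theorem trivMod_iff {x : G} (hx : x ∈ Dk A a K) :
    TrivMod A (Ck A a K) x ↔ ∀ q ∈ img a A,
      pr a ⟨x, (mem_pre.1 hx.2).1⟩ * q * (pr a ⟨x, (mem_pre.1 hx.2).1⟩)⁻¹ * q⁻¹ ∈
        centralizer (K : Set (Quo a)) := by
  have key : ∀ b (hb : b ∈ A) (h : x * b * x⁻¹ * b⁻¹ ∈ Cq a), pr a ⟨x * b * x⁻¹ * b⁻¹, h⟩ =
      pr a ⟨x, (mem_pre.1 hx.2).1⟩ * pr a ⟨b, c.le_cq ha hb⟩ * (pr a ⟨x, (mem_pre.1 hx.2).1⟩)⁻¹ *
        (pr a ⟨b, c.le_cq ha hb⟩)⁻¹ := fun b hb h => by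
    rw [← map_inv, ← map_inv, ← map_mul, ← map_mul, ← map_mul]; rfl
  constructor
  · intro h q hq
    obtain ⟨b, hbC, hb, rfl⟩ := mem_img.1 hq
    obtain ⟨hm, hmK⟩ := (c.mem_Ck ha).1 (h b hb)
    rw [key b hb] at hmK
    exact hmK
  · intro h b hb
    have hA : x * b * x⁻¹ * b⁻¹ ∈ A := mul_mem ((mem_normalizer_iff.1 hx.1 b).1 hb) (inv_mem hb)
    exact (c.mem_Ck ha).2 ⟨hA, by rw [key b hb]; exact h _ (c.mem_img_A ha hb)⟩

theorem pr_Dk {x : G} (hx : x ∈ Dk A a K) :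
    pr a ⟨x, (mem_pre.1 hx.2).1⟩ ∈ normalizer (img a A : Set (Quo a)) ⊓ K :=
  c.img_Dk ha K ▸ mem_img.2 ⟨x, _, hx, rfl⟩

/-- The index of the kernel. -/
theorem relIndex_Ck :
    (Ck A a K).relIndex A = (img a A ⊓ centralizer (K : Set (Quo a))).relIndex (img a A) := by
  let f : ↥A →* Quo a := (pr a).comp (inclusion (c.le_cq ha))
  have hr : f.range = img a A := by
    ext q
    constructor
    · rintro ⟨x, rfl⟩; exact c.mem_img_A ha x.2
    · intro hq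
      obtain ⟨x, _, hx, rfl⟩ := mem_img.1 hq
      exact ⟨⟨x, hx⟩, rfl⟩
  rw [← hr, MonoidHom.range_eq_map, ← relIndex_comap, relIndex_top_right]
  refine congrArg Subgroup.index (Subgroup.ext fun x => ?_)
  rw [mem_subgroupOf, mem_comap, mem_inf, c.mem_Ck ha]
  refine ⟨fun h => ⟨by rw [← MonoidHom.range_eq_map]; exact ⟨x, rfl⟩, h.2⟩, fun h => ⟨x.2, h.2⟩⟩

variable (ha1 : a ≠ 1) (hK : Moved (img a A) K)

include ha1 hK

theorem four_le : 4 ≤ (Ck A a K).relIndex A := by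
  obtain ⟨T, sc⟩ := c.exists_secCtx ha ha1
  rw [c.relIndex_Ck ha]
  exact sc.four_le_relIndex hK

/-- Transitivity outside the kernel, modulo it. -/
theorem trans {b b' : G} (hb : b ∈ A) (hbC : b ∉ Ck A a K) (hb' : b' ∈ A) (hbC' : b' ∉ Ck A a K) :
    ∃ x ∈ Dk A a K, x * b * x⁻¹ * b'⁻¹ ∈ Ck A a K := by
  obtain ⟨T, sc⟩ := c.exists_secCtx ha ha1
  obtain ⟨q, hq, hqb⟩ := sc.exists_trans hK (c.mem_img_A ha hb) (c.mem_img_A ha hb')
    (fun h => hbC ((c.mem_Ck ha).2 ⟨hb, h⟩)) (fun h => hbC' ((c.mem_Ck ha).2 ⟨hb', h⟩))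
  rw [← c.img_Dk ha K] at hq
  obtain ⟨x, hxC, hx, rfl⟩ := mem_img.1 hq
  have hA : x * b * x⁻¹ * b'⁻¹ ∈ A := mul_mem ((mem_normalizer_iff.1 hx.1 b).1 hb) (inv_mem hb')
  refine ⟨x, hx, (c.mem_Ck ha).2 ⟨hA, ?_⟩⟩
  rw [← map_inv, ← map_inv, ← map_mul, ← map_mul, ← map_mul] at hqb
  exact hqb

theorem Vk_le : Vk A a K ≤ A := commutator_le.2 fun b hb x hx => by
  rw [commutatorElement_def, mul_assoc, mul_assoc, ← mul_assoc x]
  exact mul_mem hb ((mem_normalizer_iff.1 hx.1 _).1 (inv_mem hb))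

theorem sup_eq : Vk A a K ⊔ Ck A a K = A := by
  classical
  refine le_antisymm (sup_le (c.Vk_le ha ha1 hK) inf_le_left) fun t ht => ?_
  by_cases htC : t ∈ Ck A a K
  · exact mem_sup_right htC
  haveI : ((Ck A a K).subgroupOf A).Normal :=
    ⟨fun n hn g => by rwa [show g * n * g⁻¹ = n from Subtype.ext (by
      show (g : G) * n * (g : G)⁻¹ = n
      rw [c.comm g.2 n.2, mul_inv_cancel_right])]⟩
  obtain ⟨w, hwA, hwC, hwt⟩ : ∃ w ∈ A, w ∉ Ck A a K ∧ t * w ∉ Ck A a K := by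
    by_contra hcon
    push Not at hcon
    have h4 : 4 ≤ ((Ck A a K).subgroupOf A).index := c.four_le ha ha1 hK
    rw [index_eq_card] at h4
    haveI := Fintype.ofFinite (↥A ⧸ (Ck A a K).subgroupOf A)
    rw [Nat.card_eq_fintype_card] at h4
    have hsub : (Finset.univ : Finset (↥A ⧸ (Ck A a K).subgroupOf A)) ⊆
        {((1 : ↥A) : ↥A ⧸ (Ck A a K).subgroupOf A), (((⟨t, ht⟩ : ↥A)⁻¹ : ↥A) : ↥A ⧸ (Ck A a K).subgroupOf A)} := by
      intro q _
      obtain ⟨w, rfl⟩ := QuotientGroup.mk_surjective q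
      rw [Finset.mem_insert, Finset.mem_singleton]
      by_cases hw : (w : G) ∈ Ck A a K
      · exact Or.inl ((QuotientGroup.eq_one_iff w).2 hw)
      · refine Or.inr (QuotientGroup.eq.2 ?_)
        rw [mem_subgroupOf, Subgroup.coe_mul, Subgroup.coe_inv, Subgroup.coe_inv]
        have h1 := inv_mem (hcon w w.2 hw)
        rw [mul_inv_rev] at h1
        exact h1
    have := (Finset.card_le_card hsub).trans Finset.card_le_two
    rw [Finset.card_univ] at this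
    omega
  obtain ⟨x, hx, hxm⟩ := c.trans ha ha1 hK hwA hwC (mul_mem ht hwA) hwt
  set z := x * w * x⁻¹ * (t * w)⁻¹ with hz
  have hu : x * w * x⁻¹ * w⁻¹ ∈ Vk A a K := by
    have := inv_mem (commutator_mem_commutator (H₁ := A) hwA hx)
    rwa [commutatorElement_inv, commutatorElement_def] at this
  have hzA : z ∈ A := hxm.1
  have hwz : w * z⁻¹ * w⁻¹ = z⁻¹ := by rw [c.comm hwA (inv_mem hzA), mul_inv_cancel_right]
  have htw : t = x * w * x⁻¹ * w⁻¹ * (w * z⁻¹ * w⁻¹) := by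
    have h1 : t * w = z⁻¹ * (x * w * x⁻¹) := by rw [hz]; group
    have hxA : x * w * x⁻¹ ∈ A := (mem_normalizer_iff.1 hx.1 w).1 hwA
    rw [c.comm (inv_mem hzA) hxA] at h1
    calc t = t * w * w⁻¹ := by group
      _ = _ := by rw [h1]; group
  rw [htw, hwz]
  exact mul_mem_sup hu (inv_mem hxm)

/-- The induced group has odd order. -/
theorem odd {x : G} (hx : x ∈ Dk A a K) : ∃ n : ℕ, Odd n ∧ TrivMod A (Ck A a K) (x ^ n) := by
  obtain ⟨T, sc⟩ := c.exists_secCtx ha ha1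
  obtain ⟨n, hn, htr⟩ := sc.exists_odd_transl hK (c.pr_Dk ha hx)
  refine ⟨n, hn, (c.trivMod_iff ha (pow_mem hx n)).2 ?_⟩
  rw [← map_pow] at htr
  exact htr

/-- A translation fixes an element outside the kernel. -/
theorem fixed {x : G} (hx : x ∈ Dk A a K) (htr : TrivMod A (Ck A a K) x) :
    ∃ b ∈ A, b ∉ Ck A a K ∧ x * b * x⁻¹ = b := by
  obtain ⟨T, sc⟩ := c.exists_secCtx ha ha1
  obtain ⟨q, hq, hqK, hfix⟩ := sc.exists_fixed hK (c.pr_Dk ha hx) ((c.trivMod_iff ha hx).1 htr)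
  obtain ⟨b, hbC, hb, rfl⟩ := mem_img.1 hq
  have hA : x * b * x⁻¹ ∈ A := (mem_normalizer_iff.1 hx.1 b).1 hb
  refine ⟨b, hb, fun h => hqK ((c.mem_Ck ha).1 h).2, c.pr_inj (a := a) hA hb (h₁ := c.le_cq ha hA) (h₂ := hbC) ?_⟩
  rw [c.pr_conj ha (mem_pre.1 hx.2).1 hb]
  exact hfix

/-- If the members meet, some element of `Dk` induces a translation. -/
theorem transl (hne : Vk A a K ⊓ Ck A a K ≠ ⊥) :
    ∃ x ∈ Dk A a K, TrivMod A (Ck A a K) x ∧ x ∉ centralizer (A : Set G) := by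
  obtain ⟨T, sc⟩ := c.exists_secCtx ha ha1
  by_contra hcon
  push Not at hcon
  refine hne ((eq_bot_iff_forall _).2 fun z hz => ?_)
  have hno := sc.inf_eq_bot_of_no_transl hK fun q hq htr => ?_
  · obtain ⟨hzA, hzK⟩ := (c.mem_Ck ha).1 hz.2
    refine c.eq_one_of_pr (a := a) hzA (h := c.le_cq ha hzA) ?_
    rw [← mem_bot, ← hno]
    refine ⟨?_, hzK⟩
    have hle : Vk A a K ≤ pre a ⁅img a A, normalizer (img a A : Set (Quo a)) ⊓ K⁆ := by
      refine commutator_le.2 fun b hb x hx => ?_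
      have hC : ⁅b, x⁆ ∈ Cq a := by
        have hbC := c.le_cq ha hb
        have hxC := (mem_pre.1 hx.2).1
        exact mul_mem (mul_mem (mul_mem hbC hxC) (inv_mem hbC)) (inv_mem hxC)
      refine mem_pre.2 ⟨hC, ?_⟩
      have := commutator_mem_commutator (c.mem_img_A ha hb) (c.pr_Dk ha hx)
      rw [← map_commutatorElement] at this
      exact this
    exact (mem_pre.1 (hle hz.1)).2
  · rw [← c.img_Dk ha K] at hq
    obtain ⟨x, hxC, hx, rfl⟩ := mem_img.1 hq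
    have hxc := hcon x hx ((c.trivMod_iff ha hx).2 htr)
    refine mem_centralizer_iff.2 ?_
    rintro _ ⟨b, hb, rfl⟩
    rw [← map_mul, ← map_mul]
    exact congrArg (pr a) (Subtype.ext (mem_centralizer_iff.1 hxc b hb))

/-- There is no translation on a component of rank two. -/
theorem big (hne : Vk A a K ⊓ Ck A a K ≠ ⊥) : 8 ≤ (Ck A a K).relIndex A := by
  obtain ⟨T, sc⟩ := c.exists_secCtx ha ha1
  obtain ⟨x, hx, htr, hxA⟩ := c.transl ha ha1 hK hne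
  rw [c.relIndex_Ck ha]
  refine sc.eight_le_relIndex hK (c.pr_Dk ha hx) ((c.trivMod_iff ha hx).1 htr) (fun h => hxA ?_)
    (sc.gold K hK.1 (sc.not_le_center hK)).small
  refine mem_centralizer_iff.2 fun b hb => ?_
  have hA : x * b * x⁻¹ ∈ A := (mem_normalizer_iff.1 hx.1 b).1 hb
  have e := c.pr_inj (a := a) hA hb (h₁ := c.le_cq ha hA) (h₂ := c.le_cq ha hb) (by
    rw [c.pr_conj ha (mem_pre.1 hx.2).1 hb, ← mem_centralizer_iff.1 h _ (c.mem_img_A ha hb), mul_inv_cancel_right])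
  exact (mul_inv_eq_iff_eq_mul.1 e).symm

/-- Two components of one centralizer. -/
theorem Vk_le_Ck {L : Subgroup (Quo a)} (hL : Cfsg.IsComponent L) (hne : K ≠ L) : Vk A a K ≤ Ck A a L := by
  have hKL : K ≤ centralizer (L : Set (Quo a)) :=
    commutator_eq_bot_iff_le_centralizer.1 (CfsgLib.Components.components_commute hK.1 hL hne)
  refine commutator_le.2 fun b hb x hx => ?_
  have hA : ⁅b, x⁆ ∈ A := c.Vk_le ha ha1 hK (commutator_mem_commutator hb hx)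
  obtain ⟨T, sc⟩ := c.exists_secCtx ha ha1
  refine (c.mem_Ck ha).2 ⟨hA, hKL ?_⟩
  obtain ⟨hxC, hxK⟩ := mem_pre.1 hx.2
  have e : pr a ⟨⁅b, x⁆, c.le_cq ha hA⟩ =
      pr a ⟨b, c.le_cq ha hb⟩ * pr a ⟨x, hxC⟩ * (pr a ⟨b, c.le_cq ha hb⟩)⁻¹ * (pr a ⟨x, hxC⟩)⁻¹ := by
    rw [← map_inv, ← map_inv, ← map_mul, ← map_mul, ← map_mul]; rfl
  rw [e]
  exact K.mul_mem ((mem_normalizer_iff.1 (sc.le_normalizer hK.1 (c.mem_img_A ha hb)) _).1 hxK) (K.inv_mem hxK)

/-- The component is determined by its kernel. -/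
theorem eq_of_Ck_eq {L : Subgroup (Quo a)} (hL : Moved (img a A) L) (h : Ck A a K = Ck A a L) : K = L := by
  by_contra hne
  have h1 : Vk A a K ≤ Ck A a K := h ▸ c.Vk_le_Ck ha ha1 hK hL.1 hne
  have h2 := c.sup_eq ha ha1 hK
  rw [sup_eq_right.2 h1] at h2
  have h4 := c.four_le ha ha1 hK
  rw [h2, relIndex_self] at h4
  omega

theorem DP_eq : DP A a (Vk A a K) (Ck A a K) = Dk A a K := by
  refine le_antisymm (iSup₂_le fun L hL => ?_) ?_
  · rw [c.eq_of_Ck_eq ha ha1 hK hL.1 hL.2.2]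
  · exact le_biSup (fun L => Dk A a L) (show K ∈ {L : Subgroup (Quo a) | Moved (img a A) L ∧
      Vk A a K = Vk A a L ∧ Ck A a K = Ck A a L} from ⟨hK, rfl, rfl⟩)

end CfsgLib.Invol.Goldschmidt.Point.Ctx
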